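import Cfsg.Statements.S3872
import Cfsg.Agent.H22_Basic
import Cfsg.Agent.S3781
import Cfsg.Agent.H2_Reg2
import Cfsg.Agent.H23_PBasic

set_option autoImplicit false
open Cfsg

namespace Cfsg.Agent.S3872

open Subgroup

theorem exists_pair {G : Type*} [Group G] [Finite G] {p : ℕ} [Fact p.Prime]
    (hnc : ¬ (∃ H : Subgroup G, (H : Set G) = {g : G | g ^ p = 1})) :
    ∃ x y : G, x ^ p = 1 ∧ y ^ p = 1 ∧ (x * y) ^ p ≠ 1 := by
  by_contra hcon
  push Not at hcon
  apply hnc
  refine ⟨{ carrier := {g : G | g ^ p = 1}, one_mem' := one_pow p, mul_mem' := ?_, inv_mem' := ?_ }, rfl⟩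
  · intro a b ha hb
    exact hcon a b ha hb
  · intro a ha
    show a⁻¹ ^ p = 1
    rw [inv_pow, show a ^ p = 1 from ha, inv_one]

/-- Say that a finite group is p-exponent closed when its elements of order dividing p form a subgroup. Let G be a finite p-group that is not p-exponent closed, but all of whose proper subgroups and proper quotients are. Then G is generated by two elements, has nilpotency class at least p, has exponent p², has cyclic center, and has order at least p^(p+1). -/
theorem result {G : Type*} [Group G] [Finite G] {p : ℕ} [Fact p.Prime] (hG : IsPGroup p G)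
    (hnc : ¬ (∃ H : Subgroup G, (H : Set G) = {g : G | g ^ p = 1})) (hsub : ∀ K : Subgroup G, K ≠ ⊤ → (∃ H : Subgroup ↥K, (H : Set ↥K) = {g : ↥K | g ^ p = 1}))
    (hquo : ∀ (N : Subgroup G) [N.Normal], N ≠ ⊥ → (∃ H : Subgroup (G ⧸ N), (H : Set (G ⧸ N)) = {g : (G ⧸ N) | g ^ p = 1})) :
    (∃ x y : G, Subgroup.closure ({x, y} : Set G) = ⊤) ∧ (⊤ : Subgroup G).lowerCentralSeries (p - 1) ≠ ⊥ ∧
      Monoid.exponent G = p ^ 2 ∧ IsCyclic ↥(Subgroup.center G) ∧ p ^ (p + 1) ≤ Nat.card G := by
  have hp : p.Prime := Fact.out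
  obtain ⟨x, y, hx, hy, hxy⟩ := exists_pair hnc
  have hgen : Subgroup.closure ({x, y} : Set G) = ⊤ := by
    by_contra hne
    obtain ⟨H, hH⟩ := hsub _ hne
    have hxm : x ∈ Subgroup.closure ({x, y} : Set G) := subset_closure (by simp)
    have hym : y ∈ Subgroup.closure ({x, y} : Set G) := subset_closure (by simp)
    have h1 : (⟨x, hxm⟩ : Subgroup.closure ({x, y} : Set G)) ∈ H := by
      rw [← SetLike.mem_coe, hH]
      exact Subtype.ext hx
    have h2 : (⟨y, hym⟩ : Subgroup.closure ({x, y} : Set G)) ∈ H := by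
      rw [← SetLike.mem_coe, hH]
      exact Subtype.ext hy
    have h3 := H.mul_mem h1 h2
    rw [← SetLike.mem_coe, hH] at h3
    apply hxy
    exact congrArg Subtype.val (show _ = _ from h3)
  have hclass : (⊤ : Subgroup G).lowerCentralSeries (p - 1) ≠ ⊥ := by
    intro hcl
    exact hxy (H2.Reg.omega_mul hG (H2.Reg.R_of_class hcl) hx hy)
  -- every normal subgroup N ≠ 1 contains all p-th powers
  have hpow : ∀ (N : Subgroup G) [N.Normal], N ≠ ⊥ → ∀ g : G, g ^ p ∈ N := by
    intro N hN hNne g
    obtain ⟨H, hH⟩ := hquo N hNne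
    have h1 : closure ({x, y} : Set G) ≤ H.comap (QuotientGroup.mk' N) := by
      rw [closure_le]
      rintro z (rfl | rfl)
      · show (QuotientGroup.mk' N) z ∈ H
        rw [← SetLike.mem_coe, hH]
        show (QuotientGroup.mk' N z) ^ p = 1
        rw [← map_pow, hx, map_one]
      · show (QuotientGroup.mk' N) z ∈ H
        rw [← SetLike.mem_coe, hH]
        show (QuotientGroup.mk' N z) ^ p = 1
        rw [← map_pow, hy, map_one]
    have h2 : g ∈ H.comap (QuotientGroup.mk' N) := h1 (by rw [hgen]; trivial)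
    have h3 : (QuotientGroup.mk' N) g ∈ (H : Set (G ⧸ N)) := h2
    rw [hH] at h3
    have h4 : (QuotientGroup.mk' N g) ^ p = 1 := h3
    rw [← map_pow] at h4
    exact (QuotientGroup.eq_one_iff _).mp h4
  have hnt : Nontrivial G := ⟨⟨_, _, hxy⟩⟩
  have hZnt : Nontrivial (center G) := hG.center_nontrivial
  -- central subgroups of order p
  have hcen : ∀ z : G, z ∈ center G → (zpowers z).Normal := by
    intro z hz
    constructor
    intro a ha g
    have h1 : zpowers z ≤ center G := by rw [zpowers_le]; exact hz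
    have h2 := (mem_center_iff.mp (h1 ha)) g
    rw [h2, mul_inv_cancel_right]; exact ha
  have hnorm : ∀ Z : Subgroup G, Z ≤ center G → Z.Normal := by
    intro Z hZ
    constructor
    intro a ha g
    have h2 := (mem_center_iff.mp (hZ ha)) g
    rw [h2, mul_inv_cancel_right]; exact ha
  have hexp2 : ∀ g : G, g ^ (p ^ 2) = 1 := by
    intro g
    obtain ⟨⟨z, hz⟩, hz1⟩ := exists_ne (1 : center G)
    -- element of order p
    obtain ⟨k, hk⟩ := (IsPGroup.iff_orderOf.mp hG) z
    have hzne : z ≠ 1 := fun h => hz1 (Subtype.ext h)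
    have hk0 : k ≠ 0 := by
      rintro rfl
      rw [pow_zero, orderOf_eq_one_iff] at hk
      exact hzne hk
    set w := z ^ (p ^ (k - 1)) with hw
    have hwp : orderOf w = p := by
      rw [hw, orderOf_pow_of_dvd (pow_ne_zero _ hp.ne_zero) (by rw [hk]; exact pow_dvd_pow _ (Nat.sub_le _ _)), hk,
        Nat.pow_div (Nat.sub_le _ _) hp.pos]
      rw [show k - (k - 1) = 1 by omega, pow_one]
    have hwZ : w ∈ center G := pow_mem hz _
    have := hcen w hwZ
    have h1 : g ^ p ∈ zpowers w := hpow (zpowers w) (by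
      intro h
      rw [zpowers_eq_bot] at h
      rw [h, orderOf_one] at hwp
      exact hp.one_lt.ne hwp) g
    have h2 : orderOf (g ^ p) ∣ p := by
      have h3 := Subgroup.orderOf_dvd_natCard _ h1
      rwa [Nat.card_zpowers, hwp] at h3
    rw [pow_two, pow_mul]
    exact orderOf_dvd_iff_pow_eq_one.mp h2
  have hexp : Monoid.exponent G = p ^ 2 := by
    have h1 : Monoid.exponent G ∣ p ^ 2 := Monoid.exponent_dvd_of_forall_pow_eq_one hexp2
    obtain ⟨k, hk, hk2⟩ := (Nat.dvd_prime_pow hp).mp h1
    rcases Nat.lt_or_ge k 2 with h2 | h2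
    · exfalso
      apply hxy
      apply orderOf_dvd_iff_pow_eq_one.mp
      calc orderOf (x * y) ∣ Monoid.exponent G := Monoid.order_dvd_exponent _
        _ = p ^ k := hk2
        _ ∣ p ^ 1 := pow_dvd_pow _ (by omega)
        _ = p := pow_one p
    · rw [hk2, show k = 2 by omega]
  have hcyc : IsCyclic (center G) := by
    apply H23.PBasic.cyclic_of_unique (hG.to_subgroup _) (p := p) (Or.inr (fun a b => Subtype.ext ((mem_center_iff.mp b.2) a)))
    have key : ∀ H : Subgroup (center G), Nat.card H = p → H.map (center G).subtype = zpowers ((x * y) ^ p) := by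
      intro H hH
      have hle : H.map (center G).subtype ≤ center G := map_subtype_le _
      have hcard : Nat.card (H.map (center G).subtype) = p := by
        rw [Subgroup.card_map_of_injective (center G).subtype_injective, hH]
      have hn := hnorm _ hle
      have h1 : (x * y) ^ p ∈ H.map (center G).subtype := hpow _ (by
        intro h
        rw [h, Subgroup.card_bot] at hcard
        exact hp.one_lt.ne hcard) _
      symm
      apply H22.Basic.eq_of_le_of_card_le (by rw [zpowers_le]; exact h1)
      rw [hcard]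
      have h2 : Nat.card (zpowers ((x * y) ^ p)) ∣ p := by
        have h3 : Nat.card (zpowers ((x * y) ^ p)) ∣ Nat.card (H.map (center G).subtype) :=
          card_dvd_of_le (by rw [zpowers_le]; exact h1)
        rwa [hcard] at h3
      rcases (Nat.dvd_prime hp).mp h2 with h3 | h3
      · exfalso
        rw [Nat.card_zpowers, orderOf_eq_one_iff] at h3
        exact hxy h3
      · exact h3.ge
    intro H K hH hK
    apply Subgroup.map_injective (center G).subtype_injective
    rw [key H hH, key K hK]
  refine ⟨⟨x, y, hgen⟩, hclass, hexp, hcyc, ?_⟩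
  -- the order
  have h2p := hp.two_le
  have hchain := S3781.index_chain hG ⁅(⊤ : Subgroup G), (⊤ : Subgroup G)⁆ ⊥ bot_le (p - 2) (by
    intro h
    apply hclass
    rw [eq_bot_iff]
    have h3 : ∀ k, S3781.it ⁅(⊤ : Subgroup G), (⊤ : Subgroup G)⁆ k = (⊤ : Subgroup G).lowerCentralSeries (k + 1) := by
      intro k
      induction k with
      | zero => rfl
      | succ k ih =>
        rw [Subgroup.lowerCentralSeries_succ, ← ih]; rfl
    rw [h3] at h
    rwa [show p - 2 + 1 = p - 1 by omega] at h) (p - 2) le_rfl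
  rw [Nat.sub_self, sup_bot_eq, relIndex_bot_left] at hchain
  have hchain' : p ^ (p - 1) ≤ Nat.card (⁅(⊤ : Subgroup G), (⊤ : Subgroup G)⁆ : Subgroup G) := by
    rw [show p - 2 + 1 = p - 1 by omega] at hchain
    exact hchain
  set D := (⁅(⊤ : Subgroup G), (⊤ : Subgroup G)⁆ : Subgroup G) with hD
  have hidx : p ^ 2 ≤ D.index := by
    obtain ⟨k, hk⟩ := hG.index D
    rcases Nat.lt_or_ge k 2 with h3 | h3
    · exfalso
      have hDn : D.Normal := inferInstance
      have hcyc : IsCyclic (G ⧸ D) := by
        have h4 : k = 0 ∨ k = 1 := by omega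
        rcases h4 with rfl | rfl
        · have : Subsingleton (G ⧸ D) := by
            rw [← Finite.card_le_one_iff_subsingleton, ← Subgroup.index_eq_card, hk, pow_zero]
          infer_instance
        · apply isCyclic_of_prime_card (p := p)
          rw [← Subgroup.index_eq_card, hk, pow_one]
      obtain ⟨g, hg⟩ := hcyc.exists_generator
      obtain ⟨g, rfl⟩ := QuotientGroup.mk_surjective g
      have h5 : (⊤ : Subgroup G) ≤ zpowers g ⊔ ⁅(⊤ : Subgroup G), (⊤ : Subgroup G)⁆ := by
        intro u _
        obtain ⟨i, hi⟩ := mem_zpowers_iff.mp (hg (u : G ⧸ D))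
        have h6 : (g ^ i)⁻¹ * u ∈ D := by
          rw [← QuotientGroup.eq]; exact hi
        have h7 : u = g ^ i * ((g ^ i)⁻¹ * u) := by group
        rw [h7]
        exact mul_mem_sup (zpow_mem_zpowers g i) h6
      have h6 := H2.Reg.frat hG le_top h5
      -- G cyclic
      apply hxy
      have h7 : Commute x y := by
        have hx' : x ∈ zpowers g := by rw [h6]; trivial
        have hy' : y ∈ zpowers g := by rw [h6]; trivial
        obtain ⟨i, rfl⟩ := mem_zpowers_iff.mp hx'
        obtain ⟨j, rfl⟩ := mem_zpowers_iff.mp hy'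
        exact (Commute.refl g).zpow_zpow i j
      rw [h7.mul_pow, hx, hy, one_mul]
    · rw [hk]; exact Nat.pow_le_pow_right hp.pos h3
  calc p ^ (p + 1) = p ^ (p - 1) * p ^ 2 := by rw [← pow_add]; congr 1; omega
    _ ≤ Nat.card D * D.index := Nat.mul_le_mul hchain' hidx
    _ = Nat.card G := D.card_mul_index

end Cfsg.Agent.S3872
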