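import Cfsg.Statements.S3873
import Cfsg.Agent.H22_MinPCl

set_option autoImplicit false
open Cfsg

namespace Cfsg.Agent.S3873

open Subgroup
open scoped Pointwise

/-- Say that a finite group is p-exponent closed when its elements of order dividing p form a subgroup. Let G be a finite group that is not p-exponent closed, but all of whose proper subgroups and proper quotients are, and suppose G is neither simple nor a p-group. Then there is a prime q ≠ p such that G has order p · q^e, where e is the multiplicative order of q modulo p, and G has a normal elementary abelian subgroup of order q^e that is a minimal normal subgroup of G. -/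
theorem result {G : Type*} [Group G] [Finite G] {p : ℕ} [Fact p.Prime]
    (hnc : ¬ (∃ H : Subgroup G, (H : Set G) = {g : G | g ^ p = 1})) (hsub : ∀ K : Subgroup G, K ≠ ⊤ → (∃ H : Subgroup ↥K, (H : Set ↥K) = {g : ↥K | g ^ p = 1}))
    (hquo : ∀ (N : Subgroup G) [N.Normal], N ≠ ⊥ → (∃ H : Subgroup (G ⧸ N), (H : Set (G ⧸ N)) = {g : (G ⧸ N) | g ^ p = 1}))
    (hns : ¬ IsSimpleGroup G) (hnp : ¬ IsPGroup p G) :
    ∃ q : ℕ, q.Prime ∧ q ≠ p ∧ Nat.card G = p * q ^ orderOf (q : ZMod p) ∧
      ∃ A : Subgroup G, A.Normal ∧ Nat.card ↥A = q ^ orderOf (q : ZMod p) ∧ Cfsg.IsElementaryAbelian q A ∧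
        ∀ B : Subgroup G, B.Normal → B ≤ A → B = ⊥ ∨ B = A := by
  have hp : p.Prime := Fact.out
  have hnt : Nontrivial G := by
    by_contra h
    rw [not_nontrivial_iff_subsingleton] at h
    exact hnp (IsPGroup.of_card (n := 0) (by rw [pow_zero]; exact Nat.card_unique))
  obtain ⟨H, hHn, hHb, hHt⟩ : ∃ H : Subgroup G, H.Normal ∧ H ≠ ⊥ ∧ H ≠ ⊤ := by
    by_contra hcon
    push Not at hcon
    apply hns
    exact ⟨fun H hH => by
      by_cases h : H = ⊥
      · exact Or.inl h
      · exact Or.inr (hcon H hH h)⟩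
  obtain ⟨N, hNH, hN, hNb, hmin⟩ := H1.Hall.exists_minimal_normal hHn hHb
  have hNt : N ≠ ⊤ := by
    rintro rfl
    exact hHt (top_le_iff.mp hNH)
  -- all elements of G / N have p-th power 1
  have hGN : ∀ g : G, g ^ p ∈ N := by
    obtain ⟨Kb, hKb⟩ := hquo N hNb
    have hKt : Kb.comap (QuotientGroup.mk' N) = ⊤ := by
      by_contra hne
      apply hnc
      obtain ⟨S, hS⟩ := hsub _ hne
      refine ⟨S.map (Kb.comap (QuotientGroup.mk' N)).subtype, ?_⟩
      ext g
      simp only [SetLike.mem_coe, Set.mem_setOf_eq]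
      constructor
      · rintro ⟨s, hs, rfl⟩
        have h1 : s ∈ (S : Set (Kb.comap (QuotientGroup.mk' N))) := hs
        rw [hS] at h1
        exact congrArg Subtype.val h1
      · intro hg
        have h1 : g ∈ Kb.comap (QuotientGroup.mk' N) := by
          rw [mem_comap, ← SetLike.mem_coe, hKb]
          show (QuotientGroup.mk' N g) ^ p = 1
          rw [← map_pow, hg, map_one]
        refine ⟨⟨g, h1⟩, ?_, rfl⟩
        rw [SetLike.mem_coe, ← SetLike.mem_coe, hS]
        exact Subtype.ext hg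
    intro g
    have h1 : g ∈ Kb.comap (QuotientGroup.mk' N) := by rw [hKt]; trivial
    rw [mem_comap, ← SetLike.mem_coe, hKb] at h1
    have h2 : (QuotientGroup.mk' N g) ^ p = 1 := h1
    rw [← map_pow, ← MonoidHom.mem_ker, QuotientGroup.ker_mk'] at h2
    exact h2
  -- N is a p'-group
  have hNp' : ¬ p ∣ Nat.card N := by
    intro hd
    obtain ⟨S, hS⟩ := hsub N hNt
    have hSn : (S.map N.subtype).Normal := by
      constructor
      rintro _ ⟨s, hs, rfl⟩ g
      have h1 : s ∈ (S : Set N) := hs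
      rw [hS] at h1
      refine ⟨⟨g * s * g⁻¹, hN.conj_mem s s.2 g⟩, ?_, rfl⟩
      rw [SetLike.mem_coe, ← SetLike.mem_coe, hS]
      apply Subtype.ext
      show (g * (s : G) * g⁻¹) ^ p = 1
      rw [conj_pow]
      have h2 : (s : G) ^ p = 1 := congrArg Subtype.val h1
      rw [h2]; simp
    rcases hmin _ hSn (map_subtype_le _) with h | h
    · obtain ⟨y, hy⟩ := exists_prime_orderOf_dvd_card' (G := N) p hd
      have h1 : y ∈ (S : Set N) := by
        rw [hS]
        show y ^ p = 1
        rw [← hy]; exact pow_orderOf_eq_one y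
      have h2 : (y : G) ∈ S.map N.subtype := ⟨y, h1, rfl⟩
      rw [h, mem_bot] at h2
      have h3 : y = 1 := Subtype.ext h2
      rw [h3, orderOf_one] at hy
      exact hp.one_lt.ne hy
    · apply hnp
      intro g
      refine ⟨2, ?_⟩
      have h1 := hGN g
      rw [← h] at h1
      obtain ⟨s, hs, hs'⟩ := h1
      have h2 : s ∈ (S : Set N) := hs
      rw [hS] at h2
      have h3 : (s : G) ^ p = 1 := congrArg Subtype.val h2
      rw [pow_two, pow_mul]
      have h4 : g ^ p = (s : G) := hs'.symm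
      rw [h4, h3]
  have hNp : (Nat.card N).Coprime p := by
    rw [Nat.coprime_comm, Nat.Prime.coprime_iff_not_dvd hp]; exact hNp'
  obtain P : Sylow p G := default
  have hinf : (P : Subgroup G) ⊓ N = ⊥ := by
    apply H22.Basic.inf_eq_bot_of_coprime
    obtain ⟨m, hm⟩ := IsPGroup.iff_card.mp P.isPGroup'
    rw [hm]
    exact Nat.Coprime.pow_left _ hNp.symm
  have hexp : ∀ Q : Subgroup G, IsPGroup p Q → ∀ x ∈ Q, x ^ p = 1 := by
    intro Q hQ x hx
    have h1 : Q ⊓ N = ⊥ := by
      apply H22.Basic.inf_eq_bot_of_coprime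
      obtain ⟨m, hm⟩ := IsPGroup.iff_card.mp hQ
      rw [hm]
      exact Nat.Coprime.pow_left _ hNp.symm
    have h2 : x ^ p ∈ Q ⊓ N := ⟨pow_mem hx p, hGN x⟩
    rwa [h1, mem_bot] at h2
  have hPN : (P : Subgroup G) ⊔ N = ⊤ := by
    rw [← index_eq_one]
    have h1 : ((P : Subgroup G) ⊔ N).index ∣ (P : Subgroup G).index := index_dvd_of_le le_sup_left
    have h2 : ((P : Subgroup G) ⊔ N).index ∣ N.index := index_dvd_of_le le_sup_right
    have h3 : IsPGroup p (G ⧸ N) := by
      intro g
      obtain ⟨g, rfl⟩ := QuotientGroup.mk'_surjective N g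
      refine ⟨1, ?_⟩
      rw [pow_one, ← map_pow, ← MonoidHom.mem_ker, QuotientGroup.ker_mk']
      exact hGN g
    obtain ⟨m, hm⟩ := IsPGroup.iff_card.mp h3
    have h4 : N.index = p ^ m := hm
    rw [h4] at h2
    have h5 : ¬ p ∣ (P : Subgroup G).index := P.not_dvd_index
    have h6 : (p ^ m).Coprime (P : Subgroup G).index :=
      Nat.Coprime.pow_left _ ((Nat.Prime.coprime_iff_not_dvd hp).mpr h5)
    exact Nat.eq_one_of_dvd_coprimes h6 h2 h1
  have hPn : ¬ (P : Subgroup G).Normal := by
    intro h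
    apply hnc
    refine ⟨P, ?_⟩
    ext g
    simp only [SetLike.mem_coe, Set.mem_setOf_eq]
    constructor
    · exact hexp P P.isPGroup' g
    · intro hg
      have h1 : IsPGroup p (zpowers g) := by
        intro x
        obtain ⟨k, hk⟩ := x.2
        refine ⟨1, Subtype.ext ?_⟩
        have hk' : (x : G) = g ^ k := hk.symm
        rw [pow_one]
        show (x : G) ^ p = 1
        rw [hk', ← zpow_natCast, ← zpow_mul, mul_comm, zpow_mul, zpow_natCast, hg, one_zpow]
      obtain ⟨T, hT⟩ := h1.exists_le_sylow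
      have h2 : (T : Subgroup G) = P := by
        obtain ⟨x, hx⟩ := MulAction.exists_smul_eq G P T
        have h3 : (T : Subgroup G) = MulAut.conj x • (P : Subgroup G) := by rw [← hx]; rfl
        rw [h3]
        exact H1.Basic.conj_of_normal x (P : Subgroup G)
      rw [← h2]
      exact hT (mem_zpowers g)
  have hcl : ∀ H : Subgroup G, H ≠ ⊤ → Cfsg.IsPClosed p H := by
    intro H hH Q
    obtain ⟨S, hS⟩ := hsub H hH
    have hSp : IsPGroup p S := by
      intro s
      have h1 : (s : H) ∈ (S : Set H) := s.2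
      rw [hS] at h1
      exact ⟨1, Subtype.ext (by rw [pow_one]; exact h1)⟩
    have hQS : (Q : Subgroup H) ≤ S := by
      intro x hx
      rw [← SetLike.mem_coe, hS]
      have h1 := hexp ((Q : Subgroup H).map H.subtype) (Q.isPGroup'.map H.subtype) x ⟨x, hx, rfl⟩
      exact Subtype.ext h1
    have h1 : S = Q := Q.is_maximal' hSp hQS
    rw [← h1]
    constructor
    intro x hx g
    rw [← SetLike.mem_coe, hS] at hx ⊢
    show (g * x * g⁻¹) ^ p = 1
    rw [conj_pow]
    have h2 : x ^ p = 1 := hx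
    rw [h2]; simp
  obtain ⟨⟨q, hq, hqp, hNq⟩, hsub0, x, hx, hxc, hxP⟩ :=
    H22.MinPCl.core N P hNb hmin hNp P.isPGroup' hPN hPn hcl
  have hPcen : ¬ (P : Subgroup G) ≤ centralizer (N : Set G) := fun h => hxc (h hx)
  have hPp : Nat.card (P : Subgroup G) = p := by
    rw [← hxP, Nat.card_zpowers]
    have h1 : orderOf x ∣ p := orderOf_dvd_of_pow_eq_one (hexp P P.isPGroup' x hx)
    rcases (Nat.dvd_prime hp).mp h1 with h | h
    · exfalso
      rw [orderOf_eq_one_iff] at h
      exact hxc (h ▸ one_mem _)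
    · exact h
  obtain ⟨h1, h2⟩ := H22.MinPCl.core_card N P hmin hPp hPN hq hqp hNq hPcen
  exact ⟨q, hq, hqp, h2, N, hN, h1, hNq, hmin⟩

end Cfsg.Agent.S3873
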