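import Cfsg.Statements.S3875
import Cfsg.Agent.S0999
import Cfsg.Agent.H11_Cores
import Cfsg.Agent.H4_Util
import Cfsg.Agent.H5_SmallIso

set_option autoImplicit false
open Cfsg

namespace Cfsg.Agent.S3875

open Cfsg.Agent.H4.Util

theorem card_prod_le {G : Type*} [Group G] [Finite G] {P Q : Subgroup G} (h : P ⊓ Q = ⊥) : Nat.card P * Nat.card Q ≤ Nat.card G := by
  rw [← Nat.card_prod]
  refine Nat.card_le_card_of_injective (fun x : P × Q => (x.1 : G) * x.2) ?_
  rintro ⟨a, b⟩ ⟨c, d⟩ hab
  have hab' : (a : G) * b = c * d := hab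
  have h1 : (c : G)⁻¹ * a = d * (b : G)⁻¹ := by
    rw [inv_mul_eq_iff_eq_mul, ← mul_assoc, eq_mul_inv_iff_mul_eq]; exact hab'
  have h2 : (c : G)⁻¹ * a ∈ P ⊓ Q := Subgroup.mem_inf.2 ⟨mul_mem (inv_mem c.2) a.2, by rw [h1]; exact mul_mem d.2 (inv_mem b.2)⟩
  rw [h, Subgroup.mem_bot] at h2
  have h3 : (a : G) = c := (inv_mul_eq_one.1 h2).symm
  rw [h3] at hab'
  exact Prod.ext (Subtype.ext h3) (Subtype.ext (mul_left_cancel hab'))

theorem key {G : Type*} [Group G] [Finite G] {p q : ℕ} [hp : Fact p.Prime] (hq : q.Prime) (hpq : q ≠ p) {P Q : Subgroup G}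
    (hP : IsPGroup p P) (hQ : IsPGroup q Q) (hn : ∀ x ∈ P, ∀ y ∈ Q, x * y * x⁻¹ ∈ Q) (hnc : ¬ ∀ x ∈ P, ∀ y ∈ Q, x * y = y * x) :
    ∃ k, IsPrimePow k ∧ k % p = 1 ∧ p * k ≤ Nat.card G := by
  haveI : Fact q.Prime := ⟨hq⟩
  letI act : MulAction P Q :=
    { smul := fun x y => ⟨x * y * (x : G)⁻¹, hn x x.2 y y.2⟩
      one_smul := fun y => Subtype.ext (by change (1 : G) * y * (1 : G)⁻¹ = y; group)
      mul_smul := fun x x' y => Subtype.ext (by
        change ((x : G) * x') * y * ((x : G) * x')⁻¹ = x * (x' * y * (x' : G)⁻¹) * (x : G)⁻¹; group) }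
  let C : Subgroup Q := (Subgroup.centralizer (P : Set G)).subgroupOf Q
  have hfix : Nat.card (MulAction.fixedPoints P Q) = Nat.card C := by
    have : (MulAction.fixedPoints P Q) = (C : Set Q) := by
      ext y
      rw [MulAction.mem_fixedPoints, SetLike.mem_coe, Subgroup.mem_subgroupOf, Subgroup.mem_centralizer_iff]
      constructor
      · intro h x hx
        have := congrArg Subtype.val (h ⟨x, hx⟩)
        have h2 : x * (y : G) * x⁻¹ = y := this
        rw [mul_inv_eq_iff_eq_mul] at h2
        exact h2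
      · rintro h ⟨x, hx⟩
        apply Subtype.ext
        change x * (y : G) * x⁻¹ = y
        rw [mul_inv_eq_iff_eq_mul]
        exact h x hx
    rw [this]; rfl
  have h1 := hP.card_modEq_card_fixedPoints Q
  rw [hfix] at h1
  obtain ⟨a, ha⟩ := IsPGroup.iff_card.1 hQ
  have hCd : Nat.card C ∣ q ^ a := by rw [← ha]; exact Subgroup.card_subgroup_dvd_card C
  obtain ⟨b, hba, hb⟩ := (Nat.dvd_prime_pow hq).1 hCd
  have hlt : b < a := by
    rcases Nat.lt_or_ge b a with h | h
    · exact h
    · exfalso
      have hab : b = a := le_antisymm hba h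
      have hC : C = ⊤ := by
        apply Subgroup.eq_top_of_card_eq
        rw [hb, ha, hab]
      apply hnc
      intro x hx y hy
      have : (⟨y, hy⟩ : Q) ∈ C := by rw [hC]; trivial
      exact (Subgroup.mem_centralizer_iff.1 (Subgroup.mem_subgroupOf.1 this) x hx)
  obtain ⟨c, rfl⟩ : ∃ c, a = b + c := ⟨a - b, by omega⟩
  have hqp : q.Coprime p := (Nat.coprime_primes hq hp.out).2 hpq
  have h2 : q ^ c ≡ 1 [MOD p] := by
    rw [ha, hb, pow_add] at h1
    have h3 : q ^ b * q ^ c ≡ q ^ b * 1 [MOD p] := by rw [mul_one]; exact h1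
    exact Nat.ModEq.cancel_left_of_coprime (Nat.Coprime.pow_left b hqp).symm h3
  refine ⟨q ^ c, hq.isPrimePow.pow (by omega), ?_, ?_⟩
  · rw [h2, Nat.mod_eq_of_lt hp.out.one_lt]
  · have hd : P ⊓ Q = ⊥ := by
      have hcop : (Nat.card P).Coprime (Nat.card Q) := by
        obtain ⟨e, he⟩ := IsPGroup.iff_card.1 hP
        rw [he, ha]
        exact Nat.Coprime.pow _ _ hqp.symm
      exact disjoint_iff.1 (Subgroup.disjoint_of_coprime_natCard hcop)
    have h3 := card_prod_le hd
    have h4 : p ≤ Nat.card P := by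
      obtain ⟨e, he⟩ := IsPGroup.iff_card.1 hP
      rw [he]
      rcases Nat.eq_zero_or_pos e with h0 | h0
      · exfalso
        rw [h0, pow_zero] at he
        apply hnc
        intro x hx y hy
        have := Subgroup.card_eq_one.1 he
        rw [this, Subgroup.mem_bot] at hx
        rw [hx, one_mul, mul_one]
      · calc p = p ^ 1 := (pow_one p).symm
          _ ≤ p ^ e := Nat.pow_le_pow_right hp.out.pos h0
    have h5 : q ^ c ≤ Nat.card Q := by
      rw [ha]; exact Nat.pow_le_pow_right hq.pos (by omega)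
    exact (Nat.mul_le_mul h4 h5).trans h3

theorem arith2 {p k : ℕ} (hk : p = 2 ^ k + 1) (h3 : 3 < p) : p * (p ^ 2 - 1) / 2 ≤ 2 ^ k * (2 ^ k - 1) * (2 ^ k + 1) := by
  obtain ⟨a, ha⟩ : ∃ a, 2 ^ k = a + 4 := by
    rcases k with _ | _ | k
    · simp at hk; omega
    · simp at hk; omega
    · refine ⟨2 ^ (k + 2) - 4, ?_⟩
      have : 2 ^ 2 ≤ 2 ^ (k + 2) := Nat.pow_le_pow_right (by norm_num) (by omega)
      have e : k + 1 + 1 = k + 2 := rfl
      rw [e]; omega
  rw [ha] at hk ⊢
  subst hk
  apply Nat.div_le_of_le_mul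
  have e1 : (a + 4 + 1) ^ 2 - 1 = (a + 4) * (a + 6) := by
    have : (a + 4 + 1) ^ 2 = (a + 4) * (a + 6) + 1 := by ring
    omega
  rw [e1]
  have e2 : a + 4 - 1 = a + 3 := by omega
  rw [e2]
  nlinarith [mul_nonneg (Nat.zero_le a) (Nat.zero_le a)]

theorem lower (p : ℕ) [hp : Fact p.Prime] (m : ℕ) (hleast : ∀ k : ℕ, IsPrimePow k → k % p = 1 → m ≤ k) :
    ∀ n : ℕ, ∀ (H : Type) [Group H] [Finite H], Nat.card H ≤ n → Nat.card H < p * m → Nat.card H < p * (p ^ 2 - 1) / 2 →
      Cfsg.IsPClosed p H := by
  intro n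
  induction n with
  | zero => intro H _ _ h0; exact absurd h0 (by have : 0 < Nat.card H := Nat.card_pos; omega)
  | succ n ih =>
    intro H _ _ hcard hlt1 hlt2
    by_contra hcl
    have hsub : ∀ K : Subgroup H, K ≠ ⊤ → Cfsg.IsPClosed p K := by
      intro K hK
      have h1 := Cfsg.Agent.H11.Cores.card_lt_of_lt_top (lt_top_iff_ne_top.2 hK)
      exact ih K (by omega) (by omega) (by omega)
    have hquo : ∀ (N : Subgroup H) [N.Normal], N ≠ ⊥ → Cfsg.IsPClosed p (H ⧸ N) := by
      intro N _ hN
      have h1 := Subgroup.card_mul_index N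
      rw [Subgroup.index_eq_card] at h1
      have h2 : Nat.card N ≠ 1 := fun h0 => hN (Subgroup.card_eq_one.1 h0)
      have h3 : 0 < Nat.card N := Nat.card_pos
      have h4 : 0 < Nat.card (H ⧸ N) := Nat.card_pos
      have h5 : Nat.card (H ⧸ N) < Nat.card H := by
        rw [← h1]
        exact lt_mul_of_one_lt_left h4 (by omega)
      exact ih (H ⧸ N) (by omega) (by omega) (by omega)
    -- all Sylow subgroups are non-normal
    have hPn : ∀ P : Sylow p H, ¬ (P : Subgroup H).Normal := by
      intro P hP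
      apply hcl
      intro Q
      haveI := Sylow.unique_of_normal P hP
      rw [Subsingleton.elim Q P]; exact hP
    -- the quotient argument
    have hquo2 : ∀ (N : Subgroup H) [N.Normal], N ≠ ⊥ → ∀ P : Sylow p H, ((P : Subgroup H) ⊔ N).Normal := by
      intro N _ hN P
      have h1 := hquo N hN (P.mapSurjective (QuotientGroup.mk'_surjective N))
      have h2 : (((P.mapSurjective (QuotientGroup.mk'_surjective N) : Sylow p (H ⧸ N)) : Subgroup (H ⧸ N)).comap (QuotientGroup.mk' N)).Normal :=
        h1.comap _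
      rw [Sylow.coe_mapSurjective, Subgroup.comap_map_eq, QuotientGroup.ker_mk'] at h2
      exact h2
    have hcore : Cfsg.pCore p H = ⊥ := by
      by_contra h0
      obtain ⟨P⟩ : Nonempty (Sylow p H) := inferInstance
      have h1 := hquo2 _ h0 P
      have hle : Cfsg.pCore p H ≤ (P : Subgroup H) := by
        obtain ⟨R, hR⟩ := (Cfsg.Agent.H11.Cores.pCore_isPGroup (G := H) (p := p)).exists_le_sylow
        obtain ⟨a, ha⟩ := MulAction.exists_smul_eq H R P
        intro x hx
        rw [← ha, mem_smul_sylow]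
        apply hR
        have := (inferInstance : (Cfsg.pCore p H).Normal).conj_mem x hx a⁻¹
        rwa [inv_inv] at this
      rw [sup_eq_left.2 hle] at h1
      exact hPn P h1
    by_cases hs : IsSimpleGroup H
    · obtain ⟨P⟩ : Nonempty (Sylow p H) := inferInstance
      have hdvd : p ∣ Nat.card H := by
        by_contra h0
        apply hPn P
        have h1 : (P : Subgroup H) = ⊥ := by
          rw [← Subgroup.card_eq_one, P.card_eq_multiplicity, Nat.factorization_eq_zero_of_not_dvd h0, pow_zero]
        rw [h1]; infer_instance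
      have hnc : ¬ IsCyclic H := by
        intro hc
        apply hPn P
        letI := IsCyclic.commGroup (α := H)
        infer_instance
      have hbig : Nat.card H < p ^ 3 := by
        refine lt_of_lt_of_le hlt2 ?_
        apply Nat.div_le_of_le_mul
        calc p * (p ^ 2 - 1) ≤ p * p ^ 2 := Nat.mul_le_mul_left _ (Nat.sub_le _ _)
          _ = p ^ 3 := by ring
          _ ≤ 2 * p ^ 3 := by omega
      rcases Cfsg.Agent.S0999.result hnc p hp.out hdvd hbig with ⟨F, i1, i2, hF, h3, ⟨e⟩⟩ | ⟨k, F, i1, i2, hF, hk, h3, ⟨e⟩⟩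
      · have h4 := Cfsg.Agent.H5.SmallIso.card_PSL2 (F := F)
        rw [← Nat.card_congr e.toEquiv, hF] at h4
        have hodd : p % 2 = 1 := hp.out.eq_two_or_odd.resolve_left (by omega)
        have h5 : Nat.gcd 2 (p - 1) = 2 := Nat.gcd_eq_left (by omega)
        rw [h5] at h4
        have h6 : p * (p ^ 2 - 1) = 2 * Nat.card H := by
          rw [h4, mul_assoc]
          congr 1
          obtain ⟨r, rfl⟩ : ∃ r, p = r + 1 := ⟨p - 1, by omega⟩
          have : (r + 1) ^ 2 = r * (r + 2) + 1 := by ring
          rw [this, Nat.add_sub_cancel, Nat.add_sub_cancel]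
        rw [h6, Nat.mul_div_cancel_left _ (by norm_num)] at hlt2
        exact lt_irrefl _ hlt2
      · have h4 := Cfsg.Agent.H5.SmallIso.card_PSL2 (F := F)
        rw [← Nat.card_congr e.toEquiv, hF] at h4
        have h5 : Nat.gcd 2 (2 ^ k - 1) = 1 := by
          rw [← Nat.coprime_iff_gcd_eq_one, Nat.coprime_two_left, Nat.odd_iff]
          have hk1 : k ≠ 0 := by rintro rfl; simp at hk; omega
          obtain ⟨j, rfl⟩ := Nat.exists_eq_succ_of_ne_zero hk1
          rw [Nat.succ_eq_add_one, pow_succ]
          have : 0 < 2 ^ j := by positivity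
          omega
        rw [h5, one_mul] at h4
        have h6 := arith2 hk h3
        omega
    · obtain ⟨P⟩ : Nonempty (Sylow p H) := inferInstance
      have hnt : Nontrivial H := by
        by_contra h0
        rw [not_nontrivial_iff_subsingleton] at h0
        apply hPn P
        have : (P : Subgroup H) = ⊥ := Subsingleton.elim _ _
        rw [this]; infer_instance
      obtain ⟨N, hN, hN1, hN2⟩ : ∃ N : Subgroup H, N.Normal ∧ N ≠ ⊥ ∧ N ≠ ⊤ := by
        by_contra hcon
        push Not at hcon
        exact hs ⟨fun N hN => or_iff_not_imp_left.2 (fun h1 => hcon N hN h1)⟩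
      haveI := hN
      -- p does not divide |N|
      have hpN : ¬ p ∣ Nat.card N := by
        intro hd
        obtain ⟨R⟩ : Nonempty (Sylow p N) := inferInstance
        have h1 := hsub N hN2 R
        haveI : (R : Subgroup N).Characteristic := Sylow.characteristic_of_normal R h1
        have h2 : ((R : Subgroup N).map N.subtype).Normal := Cfsg.Agent.H11.Cores.map_subtype_normal_of_characteristic N _
        have h3 := Cfsg.Agent.H11.Cores.le_pCore p (N := (R : Subgroup N).map N.subtype) (R.isPGroup'.map _)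
        rw [hcore, le_bot_iff, Subgroup.map_eq_bot_iff_of_injective _ N.subtype_injective] at h3
        have h4 := R.dvd_card_of_dvd_card hd
        rw [h3, Subgroup.card_bot] at h4
        exact hp.out.one_lt.ne' (Nat.dvd_one.1 h4)
      have hsup : ∀ P : Sylow p H, (P : Subgroup H) ⊔ N = ⊤ := by
        intro P
        by_contra h0
        have h1 := hquo2 N hN1 P
        set S : Subgroup H := (P : Subgroup H) ⊔ N with hS
        have hPS : (P : Subgroup H) ≤ S := le_sup_left
        haveI := h1
        have h2 := hsub _ h0 (P.subtype hPS)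
        haveI : ((P.subtype hPS : Sylow p S) : Subgroup S).Characteristic := Sylow.characteristic_of_normal _ h2
        have h3 : (((P.subtype hPS : Sylow p S) : Subgroup S).map S.subtype).Normal :=
          Cfsg.Agent.H11.Cores.map_subtype_normal_of_characteristic _ _
        rw [Sylow.coe_subtype, Subgroup.map_subgroupOf_eq_of_le hPS] at h3
        exact hPn P h3
      -- P centralizes a full Sylow q-subgroup of N for each q, or we are done
      have hno : ∀ (q : ℕ) (hq : q.Prime) (P Q : Subgroup H), q ≠ p → IsPGroup p P → IsPGroup q Q →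
          (∀ x ∈ P, ∀ y ∈ Q, x * y * x⁻¹ ∈ Q) → ∀ x ∈ P, ∀ y ∈ Q, x * y = y * x := by
        intro q hq P Q hqp hP hQ hn
        by_contra hnc
        obtain ⟨k, hk1, hk2, hk3⟩ := key hq hqp hP hQ hn hnc
        have h1 := hleast k hk1 hk2
        have h2 : p * m ≤ p * k := Nat.mul_le_mul_left _ h1
        omega
      have hcent : N ≤ Subgroup.centralizer ((P : Subgroup H) : Set H) := by
        rw [← Subgroup.relIndex_eq_one]
        by_contra hr
        obtain ⟨q, hq, hqr⟩ := Nat.exists_prime_and_dvd hr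
        haveI : Fact q.Prime := ⟨hq⟩
        have hrN : (Subgroup.centralizer ((P : Subgroup H) : Set H)).relIndex N ∣ Nat.card N := Subgroup.relIndex_dvd_card _ _
        have hqN : q ∣ Nat.card N := hqr.trans hrN
        have hqp : q ≠ p := fun h0 => hpN (h0 ▸ hqN)
        obtain ⟨Q⟩ : Nonempty (Sylow q N) := inferInstance
        have hFrat := Sylow.normalizer_sup_eq_top Q
        set Q' : Subgroup H := (Q : Subgroup N).map N.subtype with hQ'
        -- a Sylow p-subgroup of H normalizing Q'
        obtain ⟨R⟩ : Nonempty (Sylow p (Subgroup.normalizer (Q' : Set H))) := inferInstance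
        have hRcard : Nat.card (P : Subgroup H) ∣ Nat.card (R : Subgroup (Subgroup.normalizer (Q' : Set H))) := by
          have h1 : N.index ∣ Nat.card (Subgroup.normalizer (Q' : Set H)) := by
            have h2 : N.relIndex (Subgroup.normalizer (Q' : Set H)) = N.index := by
              rw [← Subgroup.relIndex_sup_right, hFrat, Subgroup.relIndex_top_right]
            rw [← h2]; exact Subgroup.relIndex_dvd_card _ _
          rw [P.card_eq_multiplicity, R.card_eq_multiplicity]
          apply pow_dvd_pow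
          rw [← Subgroup.card_mul_index N, Nat.factorization_mul Nat.card_pos.ne' Subgroup.index_ne_zero_of_finite,
            Finsupp.add_apply, Nat.factorization_eq_zero_of_not_dvd hpN, zero_add]
          exact (Nat.factorization_le_iff_dvd Subgroup.index_ne_zero_of_finite Nat.card_pos.ne').2 h1 p
        let R' : Subgroup H := (R : Subgroup (Subgroup.normalizer (Q' : Set H))).map (Subgroup.normalizer (Q' : Set H)).subtype
        have hR'p : IsPGroup p R' := R.isPGroup'.map _
        have hR'n : ∀ x ∈ R', ∀ y ∈ Q', x * y * x⁻¹ ∈ Q' := by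
          rintro _ ⟨x, -, rfl⟩ y hy
          exact (Subgroup.mem_set_normalizer_iff.1 x.2 y).1 hy
        have hQ'q : IsPGroup q Q' := Q.isPGroup'.map _
        have hcomm := hno q hq R' Q' hqp hR'p hQ'q hR'n
        obtain ⟨a, ha⟩ := exists_conj_le P R' hR'p
        -- a R' a⁻¹ = P
        have hcR' : Nat.card R' = Nat.card (R : Subgroup (Subgroup.normalizer (Q' : Set H))) :=
          (Nat.card_congr (Subgroup.equivMapOfInjective _ _ (Subgroup.subtype_injective _)).toEquiv).symm
        have hmapeq : R'.map (MulAut.conj a).toMonoidHom = (P : Subgroup H) := by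
          apply Subgroup.eq_of_le_of_card_ge
          · rintro _ ⟨x, hx, rfl⟩
            exact ha x hx
          · rw [← Nat.card_congr (Subgroup.equivMapOfInjective R' (MulAut.conj a).toMonoidHom (MulAut.conj a).injective).toEquiv, hcR']
            exact Nat.le_of_dvd Nat.card_pos hRcard
        have hQc : Q'.map (MulAut.conj a).toMonoidHom ≤ Subgroup.centralizer ((P : Subgroup H) : Set H) ⊓ N := by
          rintro _ ⟨y, hy, rfl⟩
          refine Subgroup.mem_inf.2 ⟨?_, ?_⟩
          · rw [Subgroup.mem_centralizer_iff]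
            intro z hz
            have hz' : z ∈ R'.map (MulAut.conj a).toMonoidHom := by rw [hmapeq]; exact hz
            obtain ⟨x, hx, rfl⟩ := hz'
            change a * x * a⁻¹ * (a * y * a⁻¹) = a * y * a⁻¹ * (a * x * a⁻¹)
            have := hcomm x hx y hy
            calc a * x * a⁻¹ * (a * y * a⁻¹) = a * (x * y) * a⁻¹ := by group
              _ = a * (y * x) * a⁻¹ := by rw [this]
              _ = _ := by group
          · obtain ⟨y', -, rfl⟩ := hy
            exact hN.conj_mem _ y'.2 a
        have hcard1 : Nat.card (Q : Subgroup N) ∣ Nat.card ↥(Subgroup.centralizer ((P : Subgroup H) : Set H) ⊓ N) := by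
          have h1 := Subgroup.card_dvd_of_le hQc
          rw [← Nat.card_congr (Subgroup.equivMapOfInjective Q' (MulAut.conj a).toMonoidHom (MulAut.conj a).injective).toEquiv] at h1
          rw [← Nat.card_congr (Subgroup.equivMapOfInjective (Q : Subgroup N) N.subtype N.subtype_injective).toEquiv] at h1
          exact h1
        have hcard2 : Nat.card ↥(Subgroup.centralizer ((P : Subgroup H) : Set H) ⊓ N) * (Subgroup.centralizer ((P : Subgroup H) : Set H)).relIndex N = Nat.card N := by
          rw [mul_comm, Subgroup.relIndex, ← Subgroup.card_mul_index ((Subgroup.centralizer ((P : Subgroup H) : Set H)).subgroupOf N), mul_comm]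
          congr 1
          have : (Subgroup.centralizer ((P : Subgroup H) : Set H)).subgroupOf N = (Subgroup.centralizer ((P : Subgroup H) : Set H) ⊓ N).subgroupOf N := by
            ext x; simp [Subgroup.mem_subgroupOf]
          rw [this]
          exact (Nat.card_congr (Subgroup.subgroupOfEquivOfLe inf_le_right).toEquiv).symm
        apply Q.not_dvd_index
        have h1 := Subgroup.card_mul_index (Q : Subgroup N)
        obtain ⟨c, hc⟩ := hcard1
        rw [← hcard2, hc, mul_assoc] at h1
        have h2 := Nat.eq_of_mul_eq_mul_left Nat.card_pos h1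
        rw [h2]
        exact Dvd.dvd.mul_left hqr c
      apply hPn P
      rw [← Subgroup.normalizer_eq_top_iff, eq_top_iff, ← hsup P, sup_le_iff]
      exact ⟨Subgroup.le_normalizer, hcent.trans (Subgroup.centralizer_le_normalizer _)⟩
theorem exists_a (p : ℕ) [hp : Fact p.Prime] (m : ℕ) (hm : IsPrimePow m) (hm1 : m % p = 1) :
    ∃ (H : Type) (_ : Group H) (_ : Finite H), Nat.card H = p * m ∧ ¬ Cfsg.IsPClosed p H := by
  classical
  obtain ⟨q, k, hq, hk, rfl⟩ := hm
  haveI : Fact q.Prime := ⟨hq.nat_prime⟩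
  let F := GaloisField q k
  haveI : Fintype F := Fintype.ofFinite _
  have hF : Fintype.card F = q ^ k := by
    rw [← Nat.card_eq_fintype_card, GaloisField.card q k hk.ne']
  have hdvd : p ∣ Nat.card Fˣ := by
    rw [Nat.card_eq_fintype_card, Fintype.card_units, hF]
    exact (Nat.modEq_iff_dvd' (Nat.one_le_pow _ _ hq.nat_prime.pos)).1 (by
      change 1 % p = q ^ k % p
      rw [hm1, Nat.mod_eq_of_lt hp.out.one_lt])
  obtain ⟨u, hu⟩ := exists_prime_orderOf_dvd_card' p hdvd
  let φ : Subgroup.zpowers u →* MulAut (Multiplicative F) :=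
    { toFun := fun v => AddEquiv.toMultiplicative (DistribMulAction.toAddEquiv F (v : Fˣ))
      map_one' := by
        ext x
        change Multiplicative.ofAdd (((1 : Fˣ) • x.toAdd : F)) = x
        rw [one_smul]; rfl
      map_mul' := fun a b => by
        ext x
        change Multiplicative.ofAdd ((((a : Fˣ) * b) • x.toAdd : F)) = Multiplicative.ofAdd (((a : Fˣ) • ((b : Fˣ) • x.toAdd) : F))
        rw [mul_smul] }
  let H := Multiplicative F ⋊[φ] Subgroup.zpowers u
  haveI : Finite H := Finite.of_equiv _ SemidirectProduct.equivProd.symm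
  have hcU : Nat.card (Subgroup.zpowers u) = p := by rw [Nat.card_zpowers, hu]
  have hcF : Nat.card (Multiplicative F) = q ^ k := by
    rw [Nat.card_congr Multiplicative.toAdd, Nat.card_eq_fintype_card, hF]
  refine ⟨H, inferInstance, inferInstance, ?_, ?_⟩
  · rw [SemidirectProduct.card, hcU, hcF, mul_comm]
  · intro hcl
    let x : H := SemidirectProduct.inr ⟨u, Subgroup.mem_zpowers u⟩
    let y : H := SemidirectProduct.inl (Multiplicative.ofAdd (1 : F))
    have hx : x ^ p = 1 := by
      change (SemidirectProduct.inr ⟨u, Subgroup.mem_zpowers u⟩ : H) ^ p = 1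
      rw [← map_pow]
      have : (⟨u, Subgroup.mem_zpowers u⟩ : Subgroup.zpowers u) ^ p = 1 := Subtype.ext (by
        change u ^ p = 1
        rw [← hu, pow_orderOf_eq_one])
      rw [this, map_one]
    have hxp : IsPGroup p (Subgroup.zpowers x) := by
      have hd : orderOf x ∣ p ^ 1 := by rw [pow_one]; exact orderOf_dvd_of_pow_eq_one hx
      obtain ⟨j, -, hj⟩ := (Nat.dvd_prime_pow hp.out).1 hd
      exact zpowers_isPGroup hj
    obtain ⟨P, hP⟩ := hxp.exists_le_sylow
    have hPn := hcl P
    have hxP : x ∈ (P : Subgroup H) := hP (Subgroup.mem_zpowers x)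
    have h1 : y * x * y⁻¹ * x⁻¹ ∈ (P : Subgroup H) := mul_mem (hPn.conj_mem x hxP y) (inv_mem hxP)
    -- this element lies in the image of inl
    have h2 : y * x * y⁻¹ * x⁻¹ = SemidirectProduct.inl (Multiplicative.ofAdd (1 : F) * (φ ⟨u, Subgroup.mem_zpowers u⟩ (Multiplicative.ofAdd (1 : F)))⁻¹) := by
      have h3 : x * y⁻¹ * x⁻¹ = SemidirectProduct.inl (φ ⟨u, Subgroup.mem_zpowers u⟩ (Multiplicative.ofAdd (1 : F)))⁻¹ := by
        rw [← map_inv (φ ⟨u, Subgroup.mem_zpowers u⟩), SemidirectProduct.inl_aut, map_inv, map_inv]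
      rw [map_mul, ← h3]
      change y * x * y⁻¹ * x⁻¹ = y * (x * y⁻¹ * x⁻¹)
      group
    set w := (Multiplicative.ofAdd (1 : F) * (φ ⟨u, Subgroup.mem_zpowers u⟩ (Multiplicative.ofAdd (1 : F)))⁻¹) with hw
    rw [h2] at h1
    obtain ⟨j, hj⟩ := P.isPGroup' ⟨_, h1⟩
    have hj' : (SemidirectProduct.inl w : H) ^ p ^ j = 1 := congrArg Subtype.val hj
    rw [← map_pow, ← map_one (SemidirectProduct.inl : Multiplicative F →* H)] at hj'
    have h4 : w ^ p ^ j = 1 := SemidirectProduct.inl_injective hj'
    have h5 : w ^ q ^ k = 1 := by rw [← hcF]; exact pow_card_eq_one'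
    have hqp : (q ^ k).Coprime (p ^ j) := by
      apply Nat.Coprime.pow_right
      rw [Nat.coprime_comm, Nat.Prime.coprime_iff_not_dvd hp.out]
      intro h6
      rw [Nat.mod_eq_zero_of_dvd h6] at hm1
      exact absurd hm1 (by norm_num)
    have h6 : w = 1 := by
      have h7 := Nat.dvd_gcd (orderOf_dvd_of_pow_eq_one h5) (orderOf_dvd_of_pow_eq_one h4)
      rw [hqp] at h7
      exact orderOf_eq_one_iff.1 (Nat.dvd_one.1 h7)
    rw [hw, mul_inv_eq_one] at h6
    have h7 : (1 : F) = (u : F) * 1 := congrArg Multiplicative.toAdd h6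
    rw [mul_one] at h7
    have h8 : u = 1 := Units.ext h7.symm
    rw [h8, orderOf_one] at hu
    exact hp.out.one_lt.ne hu

theorem exists_b (p : ℕ) [hp : Fact p.Prime] (h5 : 5 ≤ p) :
    ∃ (H : Type) (_ : Group H) (_ : Finite H), Nat.card H = p * (p ^ 2 - 1) / 2 ∧ ¬ Cfsg.IsPClosed p H := by
  classical
  have h4 := Cfsg.Agent.H5.SmallIso.card_PSL2 (F := ZMod p)
  rw [ZMod.card] at h4
  have hodd : p % 2 = 1 := hp.out.eq_two_or_odd.resolve_left (by omega)
  have hg : Nat.gcd 2 (p - 1) = 2 := Nat.gcd_eq_left (by omega)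
  rw [hg] at h4
  have h6 : p * (p ^ 2 - 1) = 2 * Nat.card (Matrix.ProjectiveSpecialLinearGroup (Fin 2) (ZMod p)) := by
    rw [h4, mul_assoc]
    congr 1
    obtain ⟨r, rfl⟩ : ∃ r, p = r + 1 := ⟨p - 1, by omega⟩
    have : (r + 1) ^ 2 = r * (r + 2) + 1 := by ring
    rw [this, Nat.add_sub_cancel, Nat.add_sub_cancel]
  have hpos : 0 < p ^ 2 - 1 := by
    have : 1 < p ^ 2 := Nat.one_lt_pow (by norm_num) (by omega)
    omega
  have hpos2 : 0 < p * (p ^ 2 - 1) := Nat.mul_pos hp.out.pos hpos
  haveI hfin : Finite (Matrix.ProjectiveSpecialLinearGroup (Fin 2) (ZMod p)) := Nat.finite_of_card_ne_zero (by omega)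
  have hs : IsSimpleGroup (Matrix.ProjectiveSpecialLinearGroup (Fin 2) (ZMod p)) :=
    Matrix.ProjectiveSpecialLinearGroup.rank_two_simple (by rw [Nat.card_zmod]; omega)
  refine ⟨_, inferInstance, hfin, ?_, ?_⟩
  · rw [h6, Nat.mul_div_cancel_left _ (by norm_num)]
  · intro hcl
    obtain ⟨P⟩ : Nonempty (Sylow p (Matrix.ProjectiveSpecialLinearGroup (Fin 2) (ZMod p))) := inferInstance
    have hdvd : p ∣ Nat.card (Matrix.ProjectiveSpecialLinearGroup (Fin 2) (ZMod p)) := by
      have h7 : p ∣ 2 * Nat.card (Matrix.ProjectiveSpecialLinearGroup (Fin 2) (ZMod p)) := by rw [← h6]; exact Dvd.intro _ rfl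
      exact (hp.out.dvd_mul.1 h7).resolve_left (fun h => by
        have := Nat.le_of_dvd (by norm_num) h
        omega)
    have h7 := P.dvd_card_of_dvd_card hdvd
    rcases hs.eq_bot_or_eq_top_of_normal _ (hcl P) with h0 | h0
    · rw [h0, Subgroup.card_bot] at h7
      exact hp.out.one_lt.ne' (Nat.dvd_one.1 h7)
    · -- then the group is a p-group; but 2 divides...
      have h8 : IsPGroup p (Matrix.ProjectiveSpecialLinearGroup (Fin 2) (ZMod p)) := by
        intro x
        have hx : x ∈ (P : Subgroup _) := by rw [h0]; trivial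
        obtain ⟨j, hj⟩ := P.isPGroup' ⟨x, hx⟩
        exact ⟨j, congrArg Subtype.val hj⟩
      obtain ⟨j, hj⟩ := IsPGroup.iff_card.1 h8
      rw [hj, mul_comm 2, mul_comm p] at h6
      have h9 : (p - 1) ∣ p ^ j * 2 := by
        rw [← h6]
        refine Dvd.dvd.mul_right ?_ _
        exact ⟨p + 1, by
          obtain ⟨r, rfl⟩ : ∃ r, p = r + 1 := ⟨p - 1, by omega⟩
          have : (r + 1) ^ 2 = r * (r + 2) + 1 := by ring
          rw [this, Nat.add_sub_cancel, Nat.add_sub_cancel]⟩
      have h10 : (p - 1).Coprime (p ^ j) := by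
        apply Nat.Coprime.pow_right
        rw [Nat.coprime_comm, Nat.Prime.coprime_iff_not_dvd hp.out]
        intro h11
        have := Nat.le_of_dvd (by omega) h11
        omega
      have h11 := Nat.le_of_dvd (by norm_num) (h10.dvd_of_dvd_mul_left h9)
      omega

/-- Let p be an odd prime and let m be the least prime power congruent to 1 modulo p. Then the least order of a finite group whose Sylow p-subgroups are not normal is the smaller of p · m and p(p² − 1)/2: every finite group whose Sylow p-subgroups are not normal has at least that order, and some group of exactly that order has non-normal Sylow p-subgroups. -/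
theorem result (p : ℕ) [Fact p.Prime] (hp : p ≠ 2) (m : ℕ) (hm : IsPrimePow m) (hm1 : m % p = 1)
    (hleast : ∀ k : ℕ, IsPrimePow k → k % p = 1 → m ≤ k) :
    (∀ (H : Type) [Group H] [Finite H], ¬ Cfsg.IsPClosed p H → min (p * m) (p * (p ^ 2 - 1) / 2) ≤ Nat.card H) ∧
      ∃ (H : Type) (_ : Group H) (_ : Finite H), Nat.card H = min (p * m) (p * (p ^ 2 - 1) / 2) ∧ ¬ Cfsg.IsPClosed p H := by
  haveI hp' : Fact p.Prime := inferInstance
  refine ⟨fun H _ _ hcl => ?_, ?_⟩
  · by_contra hlt
    push Not at hlt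
    rw [lt_min_iff] at hlt
    exact hcl (lower p m hleast (Nat.card H) H le_rfl hlt.1 hlt.2)
  · rcases le_total (p * m) (p * (p ^ 2 - 1) / 2) with h | h
    · rw [min_eq_left h]
      exact exists_a p m hm hm1
    · by_cases h5 : 5 ≤ p
      · rw [min_eq_right h]
        exact exists_b p h5
      · have h2 := hp'.out.two_le
        have h3 : p = 3 := by
          have h4 : p ≠ 4 := by rintro rfl; exact absurd hp'.out (by norm_num)
          omega
        subst h3
        have hm4 : m ≤ 4 := hleast 4 ⟨2, 2, Nat.prime_two.prime, by norm_num, by norm_num⟩ (by norm_num)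
        have h6 : min (3 * m) (3 * (3 ^ 2 - 1) / 2) = 3 * m := by
          apply min_eq_left
          omega
        rw [h6]
        exact exists_a 3 m hm hm1

end Cfsg.Agent.S3875
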