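import Cfsg.Statements.S3889

set_option autoImplicit false
open Cfsg

namespace Cfsg.Agent.S3889

/-- A finite abelian group that is the union of a family of proper subgroups any two of which intersect trivially is elementary abelian: its exponent is a prime. -/
theorem result {G : Type*} [CommGroup G] [Finite G] (𝓑 : Set (Subgroup G)) (hprop : ∀ B ∈ 𝓑, B ≠ ⊤)
    (hcov : ∀ g : G, ∃ B ∈ 𝓑, g ∈ B) (hdisj : ∀ B ∈ 𝓑, ∀ C ∈ 𝓑, B ≠ C → B ⊓ C = ⊥) :
    (Monoid.exponent G).Prime := by
  have key : ∀ B ∈ 𝓑, ∀ C ∈ 𝓑, B ≠ C → ∀ x ∈ B, ∀ y ∈ C, y ≠ 1 → x ^ orderOf y = 1 := by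
    intro B hB C hC hBC x hx y hy hy1
    by_contra hne
    obtain ⟨D, hD, hxy⟩ := hcov (x * y)
    have h1 : x ^ orderOf y ∈ D := by
      have := pow_mem hxy (orderOf y)
      rwa [mul_pow, pow_orderOf_eq_one, mul_one] at this
    have hBD : B = D := by
      by_contra hBD
      have : x ^ orderOf y ∈ B ⊓ D := Subgroup.mem_inf.mpr ⟨pow_mem hx _, h1⟩
      rw [hdisj B hB D hD hBD, Subgroup.mem_bot] at this
      exact hne this
    subst hBD
    have hyB : y ∈ B := by
      have := mul_mem (inv_mem hx) hxy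
      rwa [inv_mul_cancel_left] at this
    have : y ∈ B ⊓ C := Subgroup.mem_inf.mpr ⟨hyB, hy⟩
    rw [hdisj B hB C hC hBC, Subgroup.mem_bot] at this
    exact hy1 this
  have hord : ∀ B ∈ 𝓑, ∀ C ∈ 𝓑, B ≠ C → ∀ x ∈ B, ∀ y ∈ C, x ≠ 1 → y ≠ 1 → orderOf x = orderOf y := by
    intro B hB C hC hBC x hx y hy hx1 hy1
    exact Nat.dvd_antisymm (orderOf_dvd_of_pow_eq_one (key B hB C hC hBC x hx y hy hy1))
      (orderOf_dvd_of_pow_eq_one (key C hC B hB hBC.symm y hy x hx hx1))
  -- G is nontrivial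
  obtain ⟨B₀, hB₀, _⟩ := hcov 1
  obtain ⟨g, hg⟩ : ∃ g : G, g ∉ B₀ := by
    by_contra h
    push Not at h
    exact hprop B₀ hB₀ (by rw [eq_top_iff]; intro x _; exact h x)
  have hg1 : g ≠ 1 := fun h => hg (h ▸ one_mem _)
  -- every nontrivial element has the order of g
  have hall : ∀ x : G, x ≠ 1 → orderOf x = orderOf g := by
    intro x hx1
    obtain ⟨B, hB, hxB⟩ := hcov x
    obtain ⟨C, hC, hgC⟩ := hcov g
    by_cases hBC : B = C
    · subst hBC
      obtain ⟨y, hy⟩ : ∃ y : G, y ∉ B := by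
        by_contra h
        push Not at h
        exact hprop B hB (by rw [eq_top_iff]; intro x _; exact h x)
      have hy1 : y ≠ 1 := fun h => hy (h ▸ one_mem _)
      obtain ⟨D, hD, hyD⟩ := hcov y
      have hBD : B ≠ D := fun h => hy (h ▸ hyD)
      rw [hord B hB D hD hBD x hxB y hyD hx1 hy1, hord B hB D hD hBD g hgC y hyD hg1 hy1]
    · exact hord B hB C hC hBC x hxB g hgC hx1 hg1
  have hprime : (orderOf g).Prime := by
    have hne : orderOf g ≠ 1 := by rwa [Ne, orderOf_eq_one_iff]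
    obtain ⟨p, hp, hpd⟩ := Nat.exists_prime_and_dvd hne
    have h1 : orderOf (g ^ (orderOf g / p)) = p := by
      rw [orderOf_pow_orderOf_div (orderOf_pos g).ne' hpd]
    have h2 : g ^ (orderOf g / p) ≠ 1 := by
      intro h
      rw [h, orderOf_one] at h1
      exact hp.one_lt.ne h1
    rw [← hall _ h2, h1]; exact hp
  have : Monoid.exponent G = orderOf g := by
    apply Nat.dvd_antisymm
    · rw [Monoid.exponent_dvd]
      intro x
      by_cases hx : x = 1
      · rw [hx, orderOf_one]; exact one_dvd _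
      · rw [hall x hx]
    · exact Monoid.order_dvd_exponent g
  rw [this]; exact hprime

end Cfsg.Agent.S3889
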