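import Cfsg.Statements.S3890
import Cfsg.Agent.H18_NC

set_option autoImplicit false
open Cfsg

namespace Cfsg.Agent.S3890

open Subgroup
open Cfsg.Agent.H13.Syl (cj mem_cj)

/-- A cover of a group is a finite set of proper subgroups whose union is the whole group; it is minimal when no cover has fewer members, and nilpotent when all its members are nilpotent. Let G be a finite group with trivial center admitting a nilpotent minimal cover 𝓐, and let P be an abelian Sylow p-subgroup of G that is not normal. Then either P is elementary abelian of order greater than p, or P is a Sylow p-subgroup of some member A of 𝓐, the normalizer N of P is a maximal subgroup of G, N meets each of its conjugates by elements outside N in a subgroup of order prime to p, and the centralizer of P equals A. -/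
theorem result {G : Type*} [Group G] [Finite G] (hZ : Subgroup.center G = ⊥) (𝓐 : Finset (Subgroup G))
    (h𝓐 : ((∀ A ∈ 𝓐, A ≠ ⊤) ∧ (∀ g : G, ∃ A ∈ 𝓐, g ∈ A)) ∧ (∀ 𝓑 : Finset (Subgroup G), (∀ A ∈ 𝓑, A ≠ ⊤) ∧ (∀ g : G, ∃ A ∈ 𝓑, g ∈ A) → 𝓐.card ≤ 𝓑.card) ∧ (∀ A ∈ 𝓐, Group.IsNilpotent ↥A)) {p : ℕ} [Fact p.Prime] (P : Sylow p G) (hab : IsMulCommutative ↥(P : Subgroup G))
    (hnn : ¬ (P : Subgroup G).Normal) :
    (Cfsg.IsElementaryAbelian p (P : Subgroup G) ∧ p < Nat.card ↥(P : Subgroup G)) ∨
    (∃ A ∈ 𝓐, (P : Subgroup G) ≤ A ∧ ¬ p ∣ ((P : Subgroup G).subgroupOf A).index ∧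
      IsCoatom (Subgroup.normalizer ((P : Subgroup G) : Set G)) ∧
      (∀ g : G, g ∉ Subgroup.normalizer ((P : Subgroup G) : Set G) →
        ¬ p ∣ Nat.card ↥(Subgroup.normalizer ((P : Subgroup G) : Set G) ⊓
          (Subgroup.normalizer ((P : Subgroup G) : Set G)).map (MulAut.conj g).toMonoidHom)) ∧
      Subgroup.centralizer ((P : Subgroup G) : Set G) = A) := by
  classical
  have hN : Cfsg.Agent.H18.NC.NMC 𝓐 := ⟨h𝓐.1, fun 𝓑 h => h𝓐.2.1 𝓑 h, h𝓐.2.2⟩
  have hc : ∀ x ∈ (P : Subgroup G), ∀ y ∈ (P : Subgroup G), x * y = y * x := fun x hx y hy =>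
    congrArg Subtype.val (hab.is_comm.comm ⟨x, hx⟩ ⟨y, hy⟩)
  have hne : (P : Subgroup G) ≠ ⊥ := by
    intro hb
    apply hnn
    rw [hb]; infer_instance
  by_cases hleft : Cfsg.IsElementaryAbelian p (P : Subgroup G) ∧ p < Nat.card ↥(P : Subgroup G)
  · exact Or.inl hleft
  right
  have hSP : Cfsg.Agent.H18.NC.SP p (P : Subgroup G) := by
    refine ⟨hc, hne, ?_⟩
    by_cases hel : Cfsg.IsElementaryAbelian p (P : Subgroup G)
    · left
      have hle : Nat.card ↥(P : Subgroup G) ≤ p := by
        by_contra h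
        exact hleft ⟨hel, by omega⟩
      obtain ⟨z, hz⟩ := (Subgroup.ne_bot_iff_exists_ne_one).mp hne
      refine ⟨z, z.2, ?_⟩
      have hz1 : (z : G) ≠ 1 := fun h => hz (Subtype.ext h)
      have ho : orderOf (z : G) = p := orderOf_eq_prime (hel.2 z z.2) hz1
      have hle2 : zpowers (z : G) ≤ (P : Subgroup G) := by rw [zpowers_le]; exact z.2
      have := Subgroup.eq_of_le_of_card_ge hle2 (by rw [Nat.card_zpowers, ho]; exact hle)
      exact this.ge
    · right
      by_contra hcon
      apply hel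
      refine ⟨hab, fun a ha => ?_⟩
      by_contra h1
      exact hcon ⟨a, ha, h1⟩
  obtain ⟨A, hA, hPA⟩ := hN.full hZ hSP
  refine ⟨A, hA, hPA, ?_, hN.coatom hZ hSP hnn, ?_, hN.centP hZ hSP hA hPA⟩
  · intro hd
    apply P.not_dvd_index
    have h1 : (P : Subgroup G).relIndex A * A.index = (P : Subgroup G).index := relIndex_mul_index hPA
    rw [← h1]
    exact hd.mul_right _
  · intro g hg hd
    obtain ⟨y, hy⟩ := exists_prime_orderOf_dvd_card' p hd
    have hy1 : (y : G) ≠ 1 := by
      intro h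
      have h2 : y = 1 := Subtype.ext h
      rw [h2, orderOf_one] at hy
      exact (Fact.out : p.Prime).one_lt.ne hy
    have key : ∀ x ∈ normalizer ((P : Subgroup G) : Set G), orderOf x = p → x ∈ (P : Subgroup G) := by
      intro x hx ho
      have hxp : IsPGroup p (zpowers x) := IsPGroup.of_card (n := 1) (by rw [Nat.card_zpowers, ho, pow_one])
      have h2 := hxp.inf_normalizer_sylow P
      have h3 : x ∈ zpowers x ⊓ normalizer (P : Set G) := ⟨mem_zpowers x, hx⟩
      rw [h2] at h3
      exact h3.2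
    have hyo : orderOf (y : G) = p := by rw [Subgroup.orderOf_coe]; exact hy
    have h1 := key y y.2.1 hyo
    have h2 : (g⁻¹ * y * g : G) ∈ (P : Subgroup G) := by
      have h3 : (y : G) ∈ cj g (normalizer ((P : Subgroup G) : Set G)) := y.2.2
      rw [mem_cj] at h3
      apply key _ h3
      have : g⁻¹ * (y : G) * g = MulAut.conj g⁻¹ (y : G) := by simp [MulAut.conj_apply]
      rw [this, MulEquiv.orderOf_eq, hyo]
    have h4 : (y : G) ∈ ((g • P : Sylow p G) : Subgroup G) := by
      change (y : G) ∈ cj g (P : Subgroup G)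
      rw [mem_cj]; exact h2
    have hPg : P ≠ g • P := by
      intro h
      exact hg (Sylow.smul_eq_iff_mem_normalizer.mp h.symm)
    have h5 := hN.ti hZ hSP hPg
    have h6 : (y : G) ∈ (P : Subgroup G) ⊓ ((g • P : Sylow p G) : Subgroup G) := ⟨h1, h4⟩
    rw [h5, mem_bot] at h6
    exact hy1 h6

end Cfsg.Agent.S3890
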