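import Cfsg.Statements.S3891
import Cfsg.Agent.H18_NC

set_option autoImplicit false
open Cfsg

namespace Cfsg.Agent.S3891

open Subgroup

/-- A cover of a group is a finite set of proper subgroups whose union is the whole group; it is minimal when no cover has fewer members, and nilpotent when all its members are nilpotent. Let G be a finite group with trivial center admitting a nilpotent minimal cover, and let P be a non-normal Sylow p-subgroup of G that is cyclic, or abelian but not elementary abelian. Then the centralizer of P is nilpotent and the normalizer of P is the unique maximal subgroup of G containing the centralizer of P. -/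
theorem result {G : Type*} [Group G] [Finite G] (hZ : Subgroup.center G = ⊥) (𝓐 : Finset (Subgroup G))
    (h𝓐 : ((∀ A ∈ 𝓐, A ≠ ⊤) ∧ (∀ g : G, ∃ A ∈ 𝓐, g ∈ A)) ∧ (∀ 𝓑 : Finset (Subgroup G), (∀ A ∈ 𝓑, A ≠ ⊤) ∧ (∀ g : G, ∃ A ∈ 𝓑, g ∈ A) → 𝓐.card ≤ 𝓑.card) ∧ (∀ A ∈ 𝓐, Group.IsNilpotent ↥A)) {p : ℕ} [Fact p.Prime] (P : Sylow p G)
    (hP : IsCyclic ↥(P : Subgroup G) ∨ (IsMulCommutative ↥(P : Subgroup G) ∧ ¬ Cfsg.IsElementaryAbelian p (P : Subgroup G)))
    (hnn : ¬ (P : Subgroup G).Normal) :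
    Group.IsNilpotent ↥(Subgroup.centralizer ((P : Subgroup G) : Set G)) ∧
      IsCoatom (Subgroup.normalizer ((P : Subgroup G) : Set G)) ∧
      ∀ M : Subgroup G, IsCoatom M → Subgroup.centralizer ((P : Subgroup G) : Set G) ≤ M →
        M = Subgroup.normalizer ((P : Subgroup G) : Set G) := by
  classical
  have hN : Cfsg.Agent.H18.NC.NMC 𝓐 := ⟨h𝓐.1, fun 𝓑 h => h𝓐.2.1 𝓑 h, h𝓐.2.2⟩
  have hne : (P : Subgroup G) ≠ ⊥ := by
    intro hb
    apply hnn
    rw [hb]; infer_instance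
  have hSP : Cfsg.Agent.H18.NC.SP p (P : Subgroup G) := by
    rcases hP with hcyc | ⟨hab, hel⟩
    · obtain ⟨z, hz⟩ := (isCyclic_iff_exists_zpowers_eq_top).mp hcyc
      refine ⟨?_, hne, Or.inl ⟨z, z.2, ?_⟩⟩
      · intro x hx y hy
        have hx' : (⟨x, hx⟩ : (P : Subgroup G)) ∈ zpowers z := by rw [hz]; trivial
        have hy' : (⟨y, hy⟩ : (P : Subgroup G)) ∈ zpowers z := by rw [hz]; trivial
        obtain ⟨i, hi⟩ := mem_zpowers_iff.mp hx'
        obtain ⟨j, hj⟩ := mem_zpowers_iff.mp hy'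
        have : (⟨x, hx⟩ : (P : Subgroup G)) * ⟨y, hy⟩ = ⟨y, hy⟩ * ⟨x, hx⟩ := by
          rw [← hi, ← hj, ← zpow_add, ← zpow_add, add_comm]
        exact congrArg Subtype.val this
      · intro x hx
        have hx' : (⟨x, hx⟩ : (P : Subgroup G)) ∈ zpowers z := by rw [hz]; trivial
        obtain ⟨i, hi⟩ := mem_zpowers_iff.mp hx'
        refine mem_zpowers_iff.mpr ⟨i, ?_⟩
        simpa using congrArg Subtype.val hi
    · refine ⟨fun x hx y hy => congrArg Subtype.val (hab.is_comm.comm ⟨x, hx⟩ ⟨y, hy⟩), hne, Or.inr ?_⟩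
      by_contra hcon
      apply hel
      refine ⟨hab, fun a ha => ?_⟩
      by_contra h1
      exact hcon ⟨a, ha, h1⟩
  obtain ⟨A, hA, hPA⟩ := hN.full hZ hSP
  have hco := hN.coatom hZ hSP hnn
  refine ⟨?_, hco, ?_⟩
  · rw [hN.centP hZ hSP hA hPA]
    exact hN.nil A hA
  · intro M hM hCM
    have h1 := hN.main hZ hSP hM.1 hCM
    by_contra hne'
    exact hco.1 (hM.2 _ (lt_of_le_of_ne h1 hne'))

end Cfsg.Agent.S3891
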