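import Cfsg.Statements.S3892
import Cfsg.Agent.H22_Cover

set_option autoImplicit false
open Cfsg

namespace Cfsg.Agent.S3892

open Equiv Equiv.Perm
open scoped Pointwise

theorem exists_prime (n : ℕ) (hn : 6 ≤ n) : ∃ q : ℕ, q.Prime ∧ n < 2 * q ∧ q < n ∧ 5 ≤ q := by
  have h5 : ∀ q : ℕ, q.Prime → 3 < q → 5 ≤ q := by
    intro q hq h
    rcases Nat.lt_or_ge q 5 with h1 | h1
    · have : q = 4 := by omega
      subst this
      exact absurd hq (by norm_num)
    · exact h1
  rcases Nat.even_or_odd' n with ⟨m, rfl | rfl⟩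
  · obtain ⟨p, hp, h1, h2⟩ := Nat.exists_prime_lt_and_le_two_mul m (by omega)
    refine ⟨p, hp, by omega, ?_, h5 p hp (by omega)⟩
    rcases Nat.lt_or_ge p (2 * m) with h3 | h3
    · exact h3
    · exfalso
      have h4 : p = 2 * m := by omega
      rcases (Nat.dvd_prime hp).mp (show 2 ∣ p by rw [h4]; exact dvd_mul_right 2 m) with h6 | h6 <;> omega
  · obtain ⟨p, hp, h1, h2⟩ := Nat.exists_prime_lt_and_le_two_mul m (by omega)
    exact ⟨p, hp, by omega, by omega, h5 p hp (by omega)⟩

theorem not_sq_dvd (n q : ℕ) (hq : q.Prime) (h : n < 2 * q) (h5 : 5 ≤ q) : ¬ q ^ 2 ∣ n.factorial := by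
  intro hd
  have hlog : Nat.log q n < 2 := Nat.log_lt_of_lt_pow' (by norm_num) (by nlinarith)
  have := (Nat.Prime.pow_dvd_factorial_iff hq hlog).mp hd
  rw [show Finset.Ico 1 2 = {1} from rfl, Finset.sum_singleton, pow_one] at this
  have h2 : n / q < 2 := Nat.div_lt_of_lt_mul (by omega)
  omega

theorem main {G : Type*} [Group G] [Finite G] {n : ℕ} (hn : 6 ≤ n) (ι : G →* Perm (Fin n)) (hι : Function.Injective ι)
    (hr : alternatingGroup (Fin n) ≤ ι.range) :
    ¬ ∃ 𝓐 : Finset (Subgroup G), ((∀ A ∈ 𝓐, A ≠ ⊤) ∧ (∀ g : G, ∃ A ∈ 𝓐, g ∈ A)) ∧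
      (∀ 𝓑 : Finset (Subgroup G), (∀ A ∈ 𝓑, A ≠ ⊤) ∧ (∀ g : G, ∃ A ∈ 𝓑, g ∈ A) → 𝓐.card ≤ 𝓑.card) ∧
      (∀ A ∈ 𝓐, Group.IsNilpotent ↥A) := by
  obtain ⟨q, hq, hq1, hq2, hq5⟩ := exists_prime n hn
  obtain ⟨c, hcc⟩ := (Equiv.Perm.exists_with_cycleType_iff (Fin n) (m := {q})).mpr
    ⟨by rw [Multiset.sum_singleton, Fintype.card_fin]; exact hq2.le, by
      intro a ha; rw [Multiset.mem_singleton] at ha; omega⟩
  have hcyc : c.IsCycle := Equiv.Perm.card_cycleType_eq_one.mp (by rw [hcc]; rfl)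
  have hsupp : c.support.card = q := by
    have := Equiv.Perm.sum_cycleType c
    rw [hcc, Multiset.sum_singleton] at this
    exact this.symm
  have hord : orderOf c = q := by rw [hcyc.orderOf, hsupp]
  have hqodd : Odd q := hq.odd_of_ne_two (by omega)
  have hsign : sign c = 1 := by
    rw [hcyc.sign, hsupp, hqodd.neg_one_pow, neg_neg]
  -- distinct points
  obtain ⟨x, hx⟩ := hcyc.nonempty_support
  rw [mem_support] at hx
  have hpow : ∀ k, 0 < k → k < q → (c ^ k) x ≠ x := by
    intro k hk hkq h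
    have h1 := (hcyc.pow_eq_one_iff' hx).mpr h
    have h2 := orderOf_dvd_of_pow_eq_one h1
    rw [hord] at h2
    exact absurd (Nat.le_of_dvd hk h2) (not_le.mpr hkq)
  set s : Perm (Fin n) := swap x (c x) with hs
  set c' := s * c * s⁻¹ with hc'
  have hss : s⁻¹ = s := swap_inv _ _
  have hsx : s x = c x := swap_apply_left _ _
  have hscx : s (c x) = x := swap_apply_right _ _
  have h2x : c (c x) ≠ x := hpow 2 (by omega) (by omega)
  have h2cx : c (c x) ≠ c x := fun h => hx (c.injective h)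
  have h3x : c (c (c x)) ≠ x := hpow 3 (by omega) (by omega)
  have h3cx : c (c (c x)) ≠ c x := fun h => h2x (c.injective h)
  have hs2 : s (c (c x)) = c (c x) := swap_apply_of_ne_of_ne h2x h2cx
  have hs3 : s (c (c (c x))) = c (c (c x)) := swap_apply_of_ne_of_ne h3x h3cx
  have hnc : c * c' ≠ c' * c := by
    intro h
    have h1 : (c * c') (c x) = (c' * c) (c x) := by rw [h]
    rw [hc', hss] at h1
    simp only [Perm.mul_apply, hscx, hs2, hs3] at h1
    exact h3cx h1.symm
  have hord' : orderOf c' = q := by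
    rw [hc', ← hord]
    exact orderOf_injective (MulAut.conj s).toMonoidHom (MulAut.conj s).injective c
  have hsign' : sign c' = 1 := by rw [hc', map_mul, map_mul, hsign, map_inv, mul_one, mul_inv_cancel]
  have hsupp' : c'.support = c.support := by
    rw [hc', support_conj]
    ext y
    rw [Finset.mem_map_equiv]
    show s.symm y ∈ c.support ↔ _
    have : s.symm = s := hss
    rw [this, mem_support, mem_support]
    by_cases h1 : y = x
    · rw [h1, hsx]; exact ⟨fun _ => hx, fun _ => h2cx⟩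
    · by_cases h2 : y = c x
      · rw [h2, hscx]; exact ⟨fun _ => h2cx, fun _ => hx⟩
      · rw [hs, swap_apply_of_ne_of_ne h1 h2]
  obtain ⟨g, hg⟩ := hr (mem_alternatingGroup.mpr hsign)
  obtain ⟨g', hg'⟩ := hr (mem_alternatingGroup.mpr hsign')
  -- the subgroup
  let M : Subgroup G := (MulAction.stabilizer (Perm (Fin n)) (c.support : Set (Fin n))).comap ι
  have hM : M ≠ ⊤ := by
    obtain ⟨y, hy⟩ : ∃ y, y ∉ c.support := by
      by_contra hcon
      push Not at hcon
      have : c.support = Finset.univ := Finset.eq_univ_iff_forall.mpr hcon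
      rw [this, Finset.card_univ, Fintype.card_fin] at hsupp
      omega
    have hyx : y ≠ x := by rintro rfl; exact hy (mem_support.mpr hx)
    have hycx : y ≠ c x := by rintro rfl; exact hy (mem_support.mpr h2cx)
    have h3 : (swap x y * swap x (c x)) ∈ alternatingGroup (Fin n) := by
      rw [mem_alternatingGroup, map_mul, sign_swap hyx.symm, sign_swap hx.symm]; rfl
    obtain ⟨t, ht⟩ := hr h3
    intro htop
    have h4 : t ∈ M := by rw [htop]; trivial
    have h5 : ι t • (c.support : Set (Fin n)) = (c.support : Set (Fin n)) := h4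
    have h6 : ι t • (c x) ∈ (c.support : Set (Fin n)) := by
      rw [← h5]
      exact Set.smul_mem_smul_set (mem_support.mpr h2cx)
    rw [ht] at h6
    have h7 : (swap x y * swap x (c x)) • (c x) = y := by
      show swap x y (swap x (c x) (c x)) = y
      rw [swap_apply_right, swap_apply_left]
    rw [h7] at h6
    exact hy h6
  have hqG : ¬ q ^ 2 ∣ Nat.card G := by
    intro h
    apply not_sq_dvd n q hq hq1 hq5
    have h1 : Nat.card G ∣ Nat.card (Perm (Fin n)) := Subgroup.card_dvd_of_injective ι hι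
    rw [Nat.card_perm, Nat.card_fin] at h1
    exact h.trans h1
  have hleM : ∀ (u : G) (d : Perm (Fin n)), ι u = d → orderOf d = q → d.support = c.support →
      ∀ N : Subgroup G, Group.IsNilpotent N → u ∈ N → N ≤ M := by
    intro u d hud hd hds N hN huN v hv
    have hou : orderOf u = q := by rw [← orderOf_injective ι hι, hud, hd]
    have h1 := H22.Cover.le_centralizer_of_nilpotent hq hqG hou hN huN hv
    have h2 : v * u = u * v := Subgroup.mem_centralizer_singleton_iff.mp h1
    have h3 : ι v * d = d * ι v := by rw [← hud, ← map_mul, ← map_mul, h2]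
    show ι v • (c.support : Set (Fin n)) = (c.support : Set (Fin n))
    rw [← hds]
    have h4 : ∀ w : Perm (Fin n), w * d = d * w → ∀ y, y ∈ d.support → w y ∈ d.support := by
      intro w hw y hy
      rw [mem_support] at hy ⊢
      intro h5
      apply hy
      have h6 : (d * w) y = (w * d) y := by rw [hw]
      simp only [Perm.mul_apply] at h6
      rw [h5] at h6
      exact (w.injective h6).symm
    apply Set.Subset.antisymm
    · rintro _ ⟨y, hy, rfl⟩
      exact h4 _ h3 y hy
    · intro y hy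
      refine ⟨(ι v)⁻¹ y, ?_, by simp⟩
      apply h4 _ _ y hy
      have : Commute (ι v) d := h3
      exact this.inv_left
  apply H22.Cover.no_nilpotent_cover M hM g g' (hleM g c hg hord rfl) (hleM g' c' hg' hord' hsupp')
  intro N hN h1 h2
  have hou : orderOf g = q := by rw [← orderOf_injective ι hι, hg, hord]
  have h3 := H22.Cover.le_centralizer_of_nilpotent hq hqG hou hN h1 h2
  have h4 : g' * g = g * g' := Subgroup.mem_centralizer_singleton_iff.mp h3
  apply hnc
  rw [← hg, ← hg', ← map_mul, ← map_mul, h4]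

/-- small cases -/
theorem small {G : Type*} [Group G] [Finite G] {q : ℕ} (hq : q.Prime) (hqG : ¬ q ^ 2 ∣ Nat.card G) (M : Subgroup G)
    (hM : M ≠ ⊤) (c c' : G) (hc : orderOf c = q) (hc' : orderOf c' = q) (hcc : c' * c ≠ c * c')
    (h1 : ∀ g : G, g * c = c * g → g ∈ M) (h2 : ∀ g : G, g * c' = c' * g → g ∈ M) :
    ¬ ∃ 𝓐 : Finset (Subgroup G), ((∀ A ∈ 𝓐, A ≠ ⊤) ∧ (∀ g : G, ∃ A ∈ 𝓐, g ∈ A)) ∧
      (∀ 𝓑 : Finset (Subgroup G), (∀ A ∈ 𝓑, A ≠ ⊤) ∧ (∀ g : G, ∃ A ∈ 𝓑, g ∈ A) → 𝓐.card ≤ 𝓑.card) ∧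
      (∀ A ∈ 𝓐, Group.IsNilpotent ↥A) := by
  apply H22.Cover.no_nilpotent_cover M hM c c'
  · intro N hN hcN g hg
    exact h1 g (Subgroup.mem_centralizer_singleton_iff.mp (H22.Cover.le_centralizer_of_nilpotent hq hqG hc hN hcN hg))
  · intro N hN hcN g hg
    exact h2 g (Subgroup.mem_centralizer_singleton_iff.mp (H22.Cover.le_centralizer_of_nilpotent hq hqG hc' hN hcN hg))
  · intro N hN hcN hcN'
    exact hcc (Subgroup.mem_centralizer_singleton_iff.mp (H22.Cover.le_centralizer_of_nilpotent hq hqG hc hN hcN hcN'))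

theorem s4_comm : ∀ g : Perm (Fin 4), g * (swap 0 1 * swap 1 2) = (swap 0 1 * swap 1 2) * g → sign g = 1 := by
  decide +kernel

theorem s4_comm' : ∀ g : Perm (Fin 4), g * (swap 0 1 * swap 1 3) = (swap 0 1 * swap 1 3) * g → sign g = 1 := by
  decide +kernel

theorem s5_comm : ∀ g : Perm (Fin 5), g * (swap 0 1 * swap 1 2 * swap 2 3 * swap 3 4) =
    (swap 0 1 * swap 1 2 * swap 2 3 * swap 3 4) * g → sign g = 1 := by
  decide +kernel

theorem s5_comm' : ∀ g : Perm (Fin 5), g * (swap 0 1 * swap 1 2 * swap 2 4 * swap 4 3) =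
    (swap 0 1 * swap 1 2 * swap 2 4 * swap 4 3) * g → sign g = 1 := by
  decide +kernel

theorem a5_comm : ∀ g : Perm (Fin 5), sign g = 1 → g * (swap 0 1 * swap 1 2) = (swap 0 1 * swap 1 2) * g → g 4 = 4 := by
  decide +kernel

theorem a5_comm' : ∀ g : Perm (Fin 5), sign g = 1 → g * (swap 0 1 * swap 1 3) = (swap 0 1 * swap 1 3) * g → g 4 = 4 := by
  decide +kernel

theorem card_perm (n : ℕ) : Nat.card (Perm (Fin n)) = n.factorial := by rw [Nat.card_perm, Nat.card_fin]

theorem alt_ne_top (n : ℕ) (hn : 2 ≤ n) : alternatingGroup (Fin n) ≠ ⊤ := by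
  intro h
  have h1 : swap (⟨0, by omega⟩ : Fin n) ⟨1, by omega⟩ ∈ alternatingGroup (Fin n) := by rw [h]; trivial
  rw [mem_alternatingGroup, sign_swap (by simp [Fin.ext_iff])] at h1
  exact absurd h1 (by decide)

theorem order_of_prime {G : Type*} [Group G] {g : G} {q : ℕ} (hq : q.Prime) (h : g ^ q = 1) (h1 : g ≠ 1) : orderOf g = q :=
  haveI : Fact q.Prime := ⟨hq⟩
  orderOf_eq_prime h h1

/-- A cover of a group is a finite set of proper subgroups whose union is the whole group; it is minimal when no cover has fewer members, and nilpotent when all its members are nilpotent. The alternating groups of degree at least 5 and the symmetric groups of degree at least 4 have no nilpotent minimal cover. -/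
theorem result (n : ℕ) :
    (5 ≤ n → ¬ ∃ 𝓐 : Finset (Subgroup ↥(alternatingGroup (Fin n))), ((∀ A ∈ 𝓐, A ≠ ⊤) ∧ (∀ g : ↥(alternatingGroup (Fin n)), ∃ A ∈ 𝓐, g ∈ A)) ∧ (∀ 𝓑 : Finset (Subgroup ↥(alternatingGroup (Fin n))), (∀ A ∈ 𝓑, A ≠ ⊤) ∧ (∀ g : ↥(alternatingGroup (Fin n)), ∃ A ∈ 𝓑, g ∈ A) → 𝓐.card ≤ 𝓑.card) ∧ (∀ A ∈ 𝓐, Group.IsNilpotent ↥A)) ∧
    (4 ≤ n → ¬ ∃ 𝓐 : Finset (Subgroup (Equiv.Perm (Fin n))), ((∀ A ∈ 𝓐, A ≠ ⊤) ∧ (∀ g : (Equiv.Perm (Fin n)), ∃ A ∈ 𝓐, g ∈ A)) ∧ (∀ 𝓑 : Finset (Subgroup (Equiv.Perm (Fin n))), (∀ A ∈ 𝓑, A ≠ ⊤) ∧ (∀ g : (Equiv.Perm (Fin n)), ∃ A ∈ 𝓑, g ∈ A) → 𝓐.card ≤ 𝓑.card) ∧ (∀ A ∈ 𝓐, Group.IsNilpotent ↥A)) := by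
  constructor
  · intro hn
    rcases Nat.lt_or_ge n 6 with h6 | h6
    · obtain rfl : n = 5 := by omega
      have h1 : swap 0 1 * swap 1 2 ∈ alternatingGroup (Fin 5) := by rw [mem_alternatingGroup]; decide +kernel
      have h2 : swap 0 1 * swap 1 3 ∈ alternatingGroup (Fin 5) := by rw [mem_alternatingGroup]; decide +kernel
      refine small (q := 3) (by norm_num) ?_ ((MulAction.stabilizer (Perm (Fin 5)) (4 : Fin 5)).subgroupOf (alternatingGroup (Fin 5)))
        ?_ ⟨_, h1⟩ ⟨_, h2⟩ ?_ ?_ ?_ ?_ ?_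
      · intro h
        have h3 : Nat.card (alternatingGroup (Fin 5)) ∣ Nat.card (Perm (Fin 5)) := Subgroup.card_subgroup_dvd_card _
        rw [card_perm] at h3
        exact absurd (h.trans h3) (by decide)
      · intro h
        have h3 : swap 2 3 * swap 3 4 ∈ alternatingGroup (Fin 5) := by rw [mem_alternatingGroup]; decide +kernel
        have h4 : (⟨_, h3⟩ : alternatingGroup (Fin 5)) ∈ ((MulAction.stabilizer (Perm (Fin 5)) (4 : Fin 5)).subgroupOf (alternatingGroup (Fin 5))) := by
          rw [h]; trivial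
        have h5 : (swap 2 3 * swap 3 4 : Perm (Fin 5)) 4 = 4 := h4
        revert h5; decide +kernel
      · exact order_of_prime (by norm_num) (Subtype.ext (show (swap 0 1 * swap 1 2 : Perm (Fin 5)) ^ 3 = 1 by decide +kernel))
          (fun h => absurd (congrArg Subtype.val h) (show ¬ (swap 0 1 * swap 1 2 : Perm (Fin 5)) = 1 by decide +kernel))
      · exact order_of_prime (by norm_num) (Subtype.ext (show (swap 0 1 * swap 1 3 : Perm (Fin 5)) ^ 3 = 1 by decide +kernel))
          (fun h => absurd (congrArg Subtype.val h) (show ¬ (swap 0 1 * swap 1 3 : Perm (Fin 5)) = 1 by decide +kernel))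
      · intro h
        exact absurd (congrArg Subtype.val h) (show ¬ (swap 0 1 * swap 1 3 : Perm (Fin 5)) * (swap 0 1 * swap 1 2) =
          (swap 0 1 * swap 1 2) * (swap 0 1 * swap 1 3) by decide +kernel)
      · intro g hg
        exact a5_comm g g.2 (congrArg Subtype.val hg)
      · intro g hg
        exact a5_comm' g g.2 (congrArg Subtype.val hg)
    · exact main h6 (alternatingGroup (Fin n)).subtype (Subgroup.subtype_injective _) (by rw [Subgroup.range_subtype])
  · intro hn
    rcases Nat.lt_or_ge n 6 with h6 | h6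
    · have h45 : n = 4 ∨ n = 5 := by omega
      rcases h45 with rfl | rfl
      · refine small (q := 3) (by norm_num) ?_ (alternatingGroup (Fin 4)) (alt_ne_top 4 (by norm_num))
          (swap 0 1 * swap 1 2) (swap 0 1 * swap 1 3) ?_ ?_ ?_ ?_ ?_
        · rw [card_perm]; decide
        · exact order_of_prime (by norm_num) (by decide +kernel) (by decide +kernel)
        · exact order_of_prime (by norm_num) (by decide +kernel) (by decide +kernel)
        · decide +kernel
        · intro g hg; exact s4_comm g hg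
        · intro g hg; exact s4_comm' g hg
      · refine small (q := 5) (by norm_num) ?_ (alternatingGroup (Fin 5)) (alt_ne_top 5 (by norm_num))
          (swap 0 1 * swap 1 2 * swap 2 3 * swap 3 4) (swap 0 1 * swap 1 2 * swap 2 4 * swap 4 3) ?_ ?_ ?_ ?_ ?_
        · rw [card_perm]; decide
        · exact order_of_prime (by norm_num) (by decide +kernel) (by decide +kernel)
        · exact order_of_prime (by norm_num) (by decide +kernel) (by decide +kernel)
        · decide +kernel
        · intro g hg; exact s5_comm g hg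
        · intro g hg; exact s5_comm' g hg
    · exact main h6 (MonoidHom.id _) Function.injective_id (by rw [MonoidHom.range_eq_top.mpr Function.surjective_id]; exact le_top)

end Cfsg.Agent.S3892
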