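import Cfsg.Statements.S3904
import Cfsg.Agent.H22_RelMax5

set_option autoImplicit false
open Cfsg

namespace Cfsg.Agent.S3904

open Subgroup
open scoped commutatorElement Pointwise

/-- Let G be a non-abelian finite group in which the centralizer of every non-central element is a maximal subgroup. Then G/Z(G) is either an elementary abelian p-group for some prime p, or a minimal non-abelian group (non-abelian with all proper subgroups abelian) of order p^a · q for distinct primes p, q with a normal Sylow p-subgroup. -/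
theorem result {G : Type*} [Group G] [Finite G] (hna : ¬ IsMulCommutative G)
    (h : ∀ x : G, x ∉ Subgroup.center G → IsCoatom (Subgroup.centralizer ({x} : Set G))) :
    (∃ p : ℕ, p.Prime ∧ Cfsg.IsElementaryAbelian p (⊤ : Subgroup (G ⧸ Subgroup.center G))) ∨
    (¬ IsMulCommutative (G ⧸ Subgroup.center G) ∧ (∀ H : Subgroup (G ⧸ Subgroup.center G), H ≠ ⊤ → IsMulCommutative ↥H) ∧
      ∃ p q a : ℕ, p.Prime ∧ q.Prime ∧ p ≠ q ∧ Nat.card (G ⧸ Subgroup.center G) = p ^ a * q ∧
        ∀ P : Subgroup (G ⧸ Subgroup.center G), Nat.card ↥P = p ^ a → P.Normal) := by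
  have hcen : ∀ x : G, x ∈ centralizer ((⊤ : Subgroup G) : Set G) ↔ x ∈ center G := by
    intro x
    rw [mem_center_iff, mem_centralizer_iff]
    exact ⟨fun h g => h g trivial, fun h g _ => h g⟩
  have hyp : H22.RelMax.Hyp (⊤ : Subgroup G) := by
    intro x _ hx
    exact h x (fun hc => hx ((hcen x).mpr hc))
  let π := QuotientGroup.mk' (center G)
  have hπs : Function.Surjective π := QuotientGroup.mk'_surjective _
  have hπk : π.ker = center G := QuotientGroup.ker_mk' _
  have hπ1 : ∀ n : G, π n = 1 ↔ n ∈ center G := by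
    intro n
    rw [← MonoidHom.mem_ker, hπk]
  by_cases hnil : Group.IsNilpotent (⊤ : Subgroup G)
  · left
    obtain ⟨h1, p, hp, h2⟩ := H22.RelMax.nilp_case hyp hnil
    refine ⟨p, hp, ⟨⟨?_⟩⟩, ?_⟩
    · rintro ⟨a, _⟩ ⟨b, _⟩
      apply Subtype.ext
      show a * b = b * a
      obtain ⟨a, rfl⟩ := hπs a
      obtain ⟨b, rfl⟩ := hπs b
      rw [← map_mul, ← map_mul]
      apply QuotientGroup.eq.mpr
      have h3 : (a * b)⁻¹ * (b * a) = ⁅b⁻¹, a⁻¹⁆ := by
        rw [commutatorElement_def]; group
      rw [h3, ← hcen]
      exact h1 (commutator_mem_commutator trivial trivial)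
    · intro a _
      obtain ⟨a, rfl⟩ := hπs a
      rw [← map_pow, hπ1, ← hcen]
      exact h2 a trivial
  · right
    obtain ⟨K, hKn, hKN, hZK, hKab, hr⟩ := H22.RelMax.main hyp hnil
    obtain ⟨Q, K', p, hp, -, -, -, -, hel, hK'⟩ := H22.RelMax.final hyp hnil hKN hZK hKab hr
    have hexp : ∀ k ∈ K, k ^ p ∈ center G := by
      intro k hk
      have h1 := hel.2 (QuotientGroup.mk' (center (⊤ : Subgroup G)) ⟨k, trivial⟩) (by
        rw [hK']; exact ⟨_, hk, rfl⟩)
      rw [← map_pow, ← MonoidHom.mem_ker, QuotientGroup.ker_mk', H22.RelMax.mem_center_iff'] at h1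
      exact (hcen _).mp h1
    rw [relIndex_top_right] at hr
    set r := K.index with hrdef
    have hZK' : center G ≤ K := fun z hz => hZK ⟨trivial, (hcen z).mpr hz⟩
    set Kb := K.map π with hKb
    have hmemKb : ∀ n : G, π n ∈ Kb ↔ n ∈ K := by
      intro n
      rw [hKb, ← mem_comap, comap_map_eq, hπk, sup_eq_left.mpr hZK']
    have hKbn : Kb.Normal := hKn.map π hπs
    have hKbi : Kb.index = r := by
      rw [hKb, index_map_eq _ hπs (by rw [hπk]; exact hZK')]
    have hKbab : ∀ x ∈ Kb, ∀ y ∈ Kb, x * y = y * x := by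
      rintro _ ⟨x, hx, rfl⟩ _ ⟨y, hy, rfl⟩
      rw [← map_mul, ← map_mul, hKab x hx y hy]
    have hnc : ¬ IsMulCommutative (G ⧸ center G) := by
      intro hc
      apply hnil
      apply H22.RelMax.nilp_of_comm
      rw [commutator_le]
      intro a _ b _
      rw [hcen, ← hπ1, commutatorElement_def, map_mul, map_mul, map_mul, map_inv, map_inv, hc.is_comm.comm (π a) (π b)]
      group
    have hpg : IsPGroup p Kb := by
      rintro ⟨_, k, hk, rfl⟩
      refine ⟨1, Subtype.ext ?_⟩
      show (π k) ^ (p ^ 1) = 1
      rw [pow_one, ← map_pow, hπ1]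
      exact hexp k hk
    have hfp : Fact p.Prime := ⟨hp⟩
    obtain ⟨a, ha⟩ := IsPGroup.iff_card.mp hpg
    have hcard : Nat.card (G ⧸ center G) = p ^ a * r := by
      rw [← ha, ← hKbi, Kb.card_mul_index]
    have hpr : p ≠ r := by
      intro hpr
      apply hnil
      apply H22.RelMax.isPGroup_quot_nilp (p := p)
      have h1 : IsPGroup p (G ⧸ center G) := IsPGroup.of_card (n := a + 1) (by rw [hcard, ← hpr, pow_succ])
      intro n _
      obtain ⟨j, hj⟩ := h1 (π n)
      refine ⟨j, ?_⟩
      rw [← map_pow, hπ1] at hj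
      exact (hcen _).mpr hj
    refine ⟨hnc, ?_, p, r, a, hp, hr, hpr, hcard, ?_⟩
    · intro H hH
      by_cases hHK : H ≤ Kb
      · refine ⟨⟨?_⟩⟩
        rintro ⟨x, hx⟩ ⟨y, hy⟩
        exact Subtype.ext (hKbab x (hHK hx) y (hHK hy))
      · obtain ⟨yb, hyH, hyK⟩ := SetLike.not_le_iff_exists.mp hHK
        obtain ⟨y, rfl⟩ := hπs yb
        have hyK' : y ∉ K := fun hc => hyK ((hmemKb y).mpr hc)
        obtain ⟨-, h2, -⟩ := H22.RelMax.final0 hyp hnil hKN hZK hKab (by rw [relIndex_top_right]; exact hr)
          (y := y) trivial hyK'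
        have hgen : (⊤ : Subgroup G) ≤ K ⊔ zpowers y := by
          refine H22.RelMax.relIndex_step hr (A := K) le_sup_left le_top (relIndex_top_right K) ?_
          intro h1
          exact hyK' (h1 (mem_sup_right (mem_zpowers y)))
        set U := (H ⊓ Kb).comap π with hU
        have hUK : U ≤ K := by
          intro u hu
          exact (hmemKb u).mp hu.2
        have hUn : U.Normal := by
          rw [← normalizer_eq_top_iff, eq_top_iff]
          refine hgen.trans (sup_le ?_ ?_)
          · intro k hk
            apply H22.Basic.mem_normalizer_of_cj_le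
            rintro _ ⟨u, hu, rfl⟩
            have h1 : k * u = u * k := hKab k hk u (hUK hu)
            show k * u * k⁻¹ ∈ U
            rw [h1]; simpa using hu
          · rw [zpowers_le]
            apply H22.Basic.mem_normalizer_of_cj_le
            rintro _ ⟨u, hu, rfl⟩
            show π (y * u * y⁻¹) ∈ H ⊓ Kb
            rw [map_mul, map_mul, map_inv]
            have hu1 : π u ∈ H := hu.1
            have h5 : π y * π u * (π y)⁻¹ ∈ H := mul_mem (mul_mem hyH hu1) (inv_mem hyH)
            exact ⟨h5, hKbn.conj_mem _ hu.2 _⟩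
        have hZU : (⊤ : Subgroup G) ⊓ centralizer ((⊤ : Subgroup G) : Set G) ≤ U := by
          intro z hz
          have h1 : π z = 1 := (hπ1 z).mpr ((hcen z).mp hz.2)
          show π z ∈ H ⊓ Kb
          rw [h1]; exact one_mem _
        rcases h2 U hZU hUK (by rw [normalizer_eq_top U]; exact le_top) with h3 | h3
        · -- H ∩ K = 1
          have hinf : H ⊓ Kb = ⊥ := by
            rw [eq_bot_iff]
            intro z hz
            obtain ⟨z, rfl⟩ := hπs z
            have h4 : z ∈ U := hz
            rw [h3] at h4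
            rw [mem_bot, hπ1]
            exact (hcen z).mp h4.2
          have hHc : Nat.card H ∣ r := by
            have h4 := H1.Basic.card_map_of_inf_ker_eq_bot (QuotientGroup.mk' Kb) H (by
              rw [QuotientGroup.ker_mk']; exact hinf)
            rw [← h4, ← hKbi]
            exact card_subgroup_dvd_card _
          rcases (Nat.dvd_prime hr).mp hHc with h5 | h5
          · rw [card_eq_one] at h5
            rw [h5]
            infer_instance
          · have hfr : Fact r.Prime := ⟨hr⟩
            have := isCyclic_of_prime_card h5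
            exact this.isMulCommutative
        · exfalso
          apply hH
          rw [eq_top_iff, ← map_top_of_surjective π hπs]
          refine (map_mono hgen).trans ?_
          rw [Subgroup.map_sup]
          refine sup_le ?_ ?_
          · rintro _ ⟨k, hk, rfl⟩
            have h4 : k ∈ U := by rw [h3]; exact hk
            exact h4.1
          · rw [map_le_iff_le_comap, zpowers_le]
            exact hyH
    · intro P hP
      have hfac : (Nat.card (G ⧸ center G)).factorization p = a := by
        rw [hcard, Nat.factorization_mul (pow_ne_zero _ hp.ne_zero) hr.ne_zero]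
        simp only [Finsupp.coe_add, Pi.add_apply]
        rw [Nat.Prime.factorization_pow hp, Finsupp.single_eq_same,
          Nat.factorization_eq_zero_of_not_dvd (fun hd => hpr ((Nat.prime_dvd_prime_iff_eq hp hr).mp hd)), add_zero]
      let S1 : Sylow p (G ⧸ center G) := Sylow.ofCard P (by rw [hP, hfac])
      let S2 : Sylow p (G ⧸ center G) := Sylow.ofCard Kb (by rw [ha, hfac])
      obtain ⟨g, hg⟩ := MulAction.exists_smul_eq (G ⧸ center G) S2 S1
      have h3 : (S1 : Subgroup (G ⧸ center G)) = MulAut.conj g • (S2 : Subgroup (G ⧸ center G)) := by rw [← hg]; rfl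
      have h4 : P = MulAut.conj g • Kb := h3
      rw [h4, H1.Basic.conj_of_normal g Kb]
      exact hKbn

end Cfsg.Agent.S3904
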