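import Cfsg.Statements.S3905
import Cfsg.Agent.H22_RelMax5

set_option autoImplicit false
open Cfsg

namespace Cfsg.Agent.S3905

open scoped commutatorElement

/-- Let N be a normal subgroup of the finite group G such that for every element x of N outside the center of N the centralizer C_G(x) is a maximal subgroup of G. Then N/Z(N) is either an elementary abelian p-group for some prime p, or a Frobenius group whose kernel is an elementary abelian normal subgroup and whose complement has prime order. -/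
theorem result {G : Type*} [Group G] [Finite G] (N : Subgroup G) [N.Normal]
    (h : ∀ x : G, x ∈ N → x ∉ Subgroup.centralizer (N : Set G) → IsCoatom (Subgroup.centralizer ({x} : Set G))) :
    (∃ p : ℕ, p.Prime ∧ Cfsg.IsElementaryAbelian p (⊤ : Subgroup (↥N ⧸ Subgroup.center ↥N))) ∨
    (∃ (Q K : Subgroup (↥N ⧸ Subgroup.center ↥N)) (p : ℕ), p.Prime ∧ Cfsg.IsFrobeniusComplement Q ∧ (Nat.card ↥Q).Prime ∧
      K.Normal ∧ (K : Set (↥N ⧸ Subgroup.center ↥N)) = Cfsg.frobeniusKernel Q ∧ Cfsg.IsElementaryAbelian p K) := by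
  by_cases hnil : Group.IsNilpotent N
  · left
    obtain ⟨h1, p, hp, h2⟩ := H22.RelMax.nilp_case h hnil
    refine ⟨p, hp, ⟨⟨?_⟩⟩, ?_⟩
    · rintro ⟨a, _⟩ ⟨b, _⟩
      apply Subtype.ext
      show a * b = b * a
      obtain ⟨a, rfl⟩ := QuotientGroup.mk'_surjective _ a
      obtain ⟨b, rfl⟩ := QuotientGroup.mk'_surjective _ b
      rw [← map_mul, ← map_mul]
      apply QuotientGroup.eq.mpr
      rw [H22.RelMax.mem_center_iff']
      have h3 : (((a * b)⁻¹ * (b * a) : N) : G) = ⁅(b : G)⁻¹, (a : G)⁻¹⁆ := by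
        rw [commutatorElement_def]
        simp only [Subgroup.coe_mul, Subgroup.coe_inv]
        group
      rw [h3]
      exact h1 (Subgroup.commutator_mem_commutator (inv_mem b.2) (inv_mem a.2))
    · intro a _
      obtain ⟨a, rfl⟩ := QuotientGroup.mk'_surjective _ a
      rw [← map_pow, ← MonoidHom.mem_ker, QuotientGroup.ker_mk', H22.RelMax.mem_center_iff']
      exact h2 a a.2
  · right
    obtain ⟨K, hKn, hKN, hZK, hKab, hr⟩ := H22.RelMax.main h hnil
    obtain ⟨Q, K', p, hp, h1, h2, h3, h4, h5, -⟩ := H22.RelMax.final h hnil hKN hZK hKab hr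
    exact ⟨Q, K', p, hp, h1, h2, h3, h4, h5⟩

end Cfsg.Agent.S3905
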