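import Cfsg.Statements.S3946
import Mathlib
import Cfsg.Agent.H24_Hughes2

set_option autoImplicit false
open Cfsg

namespace Cfsg.Agent.S3946

/-- Call an automorphism α of order n of a group G splitting when x · α(x) · α²(x) ⋯ α^(n−1)(x) = 1 for every x ∈ G. A finite group admitting a splitting automorphism of prime order is nilpotent (this contains the case of a fixed-point-free automorphism of prime order). -/
theorem result {G : Type*} [Group G] [Finite G] (α : MulAut G) (hp : (orderOf α).Prime)
    (hsplit : ∀ x : G, (((List.range (orderOf α)).map (fun i : ℕ => (α ^ i) x)).prod = 1)) : Group.IsNilpotent G := by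
  set p := orderOf α with hpdef
  let A := Subgroup.zpowers α
  let φ : A →* MulAut G := A.subtype
  have hA : Nat.card A = p := Nat.card_zpowers α
  let a : A := ⟨α, Subgroup.mem_zpowers α⟩
  have hap : a ^ p = 1 := by
    apply Subtype.ext
    exact pow_orderOf_eq_one α
  -- formula for powers
  have hform : ∀ (x : G) (n : ℕ), ((SemidirectProduct.inl x * SemidirectProduct.inr a : G ⋊[φ] A)) ^ n =
      SemidirectProduct.inl (((List.range n).map (fun i : ℕ => (α ^ i) x)).prod) * SemidirectProduct.inr (a ^ n) := by
    intro x n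
    induction n with
    | zero => simp
    | succ n ih =>
      rw [pow_succ, ih, List.range_succ, List.map_append, List.prod_append, List.map_singleton, List.prod_singleton,
        map_mul, pow_succ a n, map_mul]
      have h1 : (SemidirectProduct.inl ((α ^ n) x) : G ⋊[φ] A) =
          SemidirectProduct.inr (a ^ n) * SemidirectProduct.inl x * SemidirectProduct.inr (a ^ n)⁻¹ := by
        rw [← SemidirectProduct.inl_aut]; rfl
      rw [h1, map_inv]
      group
  have hp1 : ∀ x : G, ((SemidirectProduct.inl x * SemidirectProduct.inr a : G ⋊[φ] A)) ^ p = 1 := by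
    intro x
    rw [hform, hsplit, hap, map_one, map_one, one_mul]
  have hp2 : ∀ (i : ℕ), 0 < i → i < p → ∀ g : G,
      ((SemidirectProduct.inl g * SemidirectProduct.inr (a ^ i) : G ⋊[φ] A)) ^ p = 1 := by
    intro i hi0 hip g
    let f : G → G := fun y => ((List.range i).map (fun i : ℕ => (α ^ i) y)).prod
    have hcop : i.Coprime p := by
      rw [Nat.coprime_comm, Nat.Prime.coprime_iff_not_dvd hp]
      intro h
      have := Nat.le_of_dvd hi0 h
      omega
    have hf : Function.Injective f := by
      intro y y' h
      have h1 : ((SemidirectProduct.inl y * SemidirectProduct.inr a : G ⋊[φ] A)) ^ i =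
          (SemidirectProduct.inl y' * SemidirectProduct.inr a) ^ i := by
        rw [hform, hform]
        have : ((List.range i).map (fun i : ℕ => (α ^ i) y)).prod =
          ((List.range i).map (fun i : ℕ => (α ^ i) y')).prod := h
        rw [this]
      obtain ⟨m, hm⟩ := Nat.exists_mul_mod_eq_one_of_coprime hcop hp.one_lt
      have h3 : ∀ w : G ⋊[φ] A, w ^ p = 1 → w = (w ^ i) ^ m := by
        intro w hw
        rw [← pow_mul]
        rw [← Nat.mod_add_div (i * m) p, pow_add, pow_mul, hw, one_pow, mul_one, hm.2, pow_one]
      have h4 := (h3 _ (hp1 y)).trans ((congrArg (· ^ m) h1).trans (h3 _ (hp1 y')).symm)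
      exact SemidirectProduct.inl_injective (mul_right_cancel h4)
    obtain ⟨y, hy⟩ := (Finite.injective_iff_surjective.1 hf) g
    have h5 : (SemidirectProduct.inl g * SemidirectProduct.inr (a ^ i) : G ⋊[φ] A) =
        (SemidirectProduct.inl y * SemidirectProduct.inr a) ^ i := by
      rw [hform, ← hy]
    rw [h5, ← pow_mul, mul_comm, pow_mul, hp1, one_pow]
  haveI : Finite (G ⋊[φ] A) := Finite.of_equiv _ SemidirectProduct.equivProd.symm
  let H : Subgroup (G ⋊[φ] A) := (SemidirectProduct.inl : G →* G ⋊[φ] A).range
  have hHk : H = (SemidirectProduct.rightHom : G ⋊[φ] A →* A).ker :=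
    SemidirectProduct.range_inl_eq_ker_rightHom
  have hHn : H.Normal := by rw [hHk]; infer_instance
  have hnil := Cfsg.Agent.H24.Hughes.main hp (Nat.card (G ⋊[φ] A)) (G ⋊[φ] A) H rfl hHn (by
    intro h
    have h1 : (SemidirectProduct.inr a : G ⋊[φ] A) ∈ H := by rw [h]; trivial
    rw [hHk, MonoidHom.mem_ker, SemidirectProduct.rightHom_inr] at h1
    have h2 : α = 1 := congrArg Subtype.val h1
    rw [hpdef, h2, orderOf_one] at hp
    exact Nat.not_prime_one hp) (by
    intro x hx
    have h1 : x = SemidirectProduct.inl x.left * SemidirectProduct.inr x.right :=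
      (SemidirectProduct.inl_left_mul_inr_right x).symm
    obtain ⟨k, hk⟩ := Subgroup.mem_zpowers_iff.1 x.right.2
    have hpk : (0 : ℤ) < p := by exact_mod_cast hp.pos
    obtain ⟨i, hi⟩ : ∃ i : ℕ, (i : ℤ) = k % p := ⟨(k % p).toNat, Int.toNat_of_nonneg (Int.emod_nonneg _ hpk.ne')⟩
    have hip : i < p := by
      have := Int.emod_lt_of_pos k hpk
      omega
    have hri : x.right = a ^ i := by
      apply Subtype.ext
      rw [← hk]
      change α ^ k = α ^ i
      rw [← zpow_natCast, hi, hpdef, zpow_mod_orderOf]
    rcases Nat.eq_zero_or_pos i with h0 | h0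
    · exfalso
      apply hx
      rw [h1, hri, h0, pow_zero, map_one, mul_one]
      exact ⟨_, rfl⟩
    · rw [h1, hri]
      exact hp2 i h0 hip _)
  exact Group.nilpotent_of_mulEquiv (MonoidHom.ofInjective (SemidirectProduct.inl_injective (φ := φ))).symm

end Cfsg.Agent.S3946
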