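import Cfsg.Statements.S4001
import Mathlib
import Cfsg.Agent.H1_Frob
import Cfsg.Agent.H1_Frob2
import Cfsg.Agent.H1_Frob3
import Cfsg.Agent.H1_Fpf
import Cfsg.Agent.H3_Fpf
import Cfsg.Agent.H12_CN
import Cfsg.Agent.H12_CN3
import Cfsg.Agent.H21_Frob
import Cfsg.Agent.H24_Tools


set_option autoImplicit false
open Cfsg

namespace Cfsg.Agent.S4001
open Subgroup
open scoped Pointwise

section

/-- basic facts on a Frobenius group `X` with complement `C` and kernel `N` -/
theorem fk {X : Type*} [Group X] [Finite X] {C N : Subgroup X} (hC : Cfsg.IsFrobeniusComplement C)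
    (hN : Cfsg.frobeniusKernel C = (N : Set X)) :
    C.index = Nat.card N ∧ Nat.card C * Nat.card N = Nat.card X ∧ (Nat.card C).Coprime (Nat.card N) ∧
    (∀ c ∈ C, c ∈ N → c = 1) ∧ (∀ c ∈ C, c ≠ 1 → ∀ n ∈ N, n * c = c * n → n = 1) ∧
    (∀ n ∈ N, n ≠ 1 → ∀ x, x * n = n * x → x ∈ N) := by
  have h1 : C.index = Nat.card N := by
    have := H1.Frob.card_kernel hC
    rw [hN] at this
    exact this.symm
  have h2 : Nat.card C * Nat.card N = Nat.card X := by rw [← h1, C.card_mul_index]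
  have h3 : (Nat.card C).Coprime (Nat.card N) := by
    have := H1.Frob.index_mod_card hC
    rw [h1] at this
    have h4 : Nat.gcd (Nat.card N) (Nat.card C) = Nat.gcd 1 (Nat.card C) := Nat.ModEq.gcd_eq this
    rw [Nat.gcd_one_left] at h4
    rw [Nat.coprime_comm]
    exact h4
  have hmem : ∀ y : X, y ∈ N ↔ y = 1 ∨ ∀ g : X, y ∉ MulAut.conj g • C := by
    intro y
    change y ∈ (N : Set X) ↔ _
    rw [← hN]; rfl
  have h4 : ∀ c ∈ C, c ∈ N → c = 1 := by
    intro c hc hcN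
    rcases (hmem c).1 hcN with h | h
    · exact h
    · exact absurd (by simpa using hc) (h 1)
  refine ⟨h1, h2, h3, h4, ?_, ?_⟩
  · intro c hc hc1 n hn hnc
    exact h4 n (H1.Frob.centralizer_le hC hc hc1 hnc) hn
  · intro n hn hn1 x hx
    rw [hmem]
    by_contra hcon
    push Not at hcon
    obtain ⟨hx1, g, hg⟩ := hcon
    have h5 : g⁻¹ * x * g ∈ C := by
      rw [← Cfsg.Agent.H24.Tools.mem_conj]; exact hg
    have h6 : g⁻¹ * x * g ≠ 1 := by
      intro h
      apply hx1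
      calc x = g * (g⁻¹ * x * g) * g⁻¹ := by group
        _ = 1 := by rw [h]; group
    have h7 : g⁻¹ * n * g ∈ C := by
      apply H1.Frob.centralizer_le hC h5 h6
      calc g⁻¹ * n * g * (g⁻¹ * x * g) = g⁻¹ * (n * x) * g := by group
        _ = g⁻¹ * (x * n) * g := by rw [hx]
        _ = _ := by group
    rcases (hmem n).1 hn with h | h
    · exact hn1 h
    · apply h g
      rw [Cfsg.Agent.H24.Tools.mem_conj]; exact h7

/-- data of a 2-Frobenius group -/
structure TF {G : Type*} [Group G] (H K C : Subgroup G) [H.Normal] [K.Normal] (D : Subgroup (G ⧸ H)) (b : ℕ) : Prop where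
  hlt : H < K
  hCK : C ≤ K
  cC : Nat.card C = b
  hCne : C ≠ ⊥
  hDne : D ≠ ⊥
  hHne : H ≠ ⊥
  cK : b * Nat.card H = Nat.card K
  cop1 : b.Coprime (Nat.card H)
  cop2 : b.Coprime (Nat.card (G ⧸ K))
  cB : Nat.card (K.map (QuotientGroup.mk' H)) = b
  cD : Nat.card D = Nat.card (G ⧸ K)
  c1 : ∀ c ∈ C, c ∈ H → c = 1
  c2 : ∀ c ∈ C, c ≠ 1 → ∀ n ∈ H, n * c = c * n → n = 1
  c3 : ∀ n ∈ H, n ≠ 1 → ∀ x ∈ K, x * n = n * x → x ∈ H
  d1 : ∀ c ∈ D, c ∈ K.map (QuotientGroup.mk' H) → c = 1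
  d3 : ∀ n ∈ K.map (QuotientGroup.mk' H), n ≠ 1 → ∀ x, x * n = n * x → x ∈ K.map (QuotientGroup.mk' H)
  nH : Group.IsNilpotent H
  nB : Group.IsNilpotent (K.map (QuotientGroup.mk' H))
  cj : ∀ g : G, ∃ k ∈ K, ∀ c ∈ C, k⁻¹ * g * c * (k⁻¹ * g)⁻¹ ∈ C

theorem tf_of {G : Type*} [Group G] [Finite G] (H K : Subgroup G) [H.Normal] [K.Normal] (hlt : H < K)
    (hK : ∃ C : Subgroup ↥K, Cfsg.IsFrobeniusComplement C ∧ Cfsg.frobeniusKernel C = (H.subgroupOf K : Set ↥K))
    (hGH : ∃ C : Subgroup (G ⧸ H), Cfsg.IsFrobeniusComplement C ∧ Cfsg.frobeniusKernel C = (K.map (QuotientGroup.mk' H) : Set (G ⧸ H))) :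
    ∃ (C : Subgroup G) (D : Subgroup (G ⧸ H)), TF H K C D (Nat.card (↥K ⧸ H.subgroupOf K)) := by
  obtain ⟨C, hC, hCN⟩ := hK
  obtain ⟨D, hD, hDN⟩ := hGH
  obtain ⟨e1, e2, e3, e4, e5, e6⟩ := fk hC hCN
  obtain ⟨f1, f2, f3, f4, f5, f6⟩ := fk hD hDN
  have hHc : Nat.card (H.subgroupOf K) = Nat.card H := Nat.card_congr (Subgroup.subgroupOfEquivOfLe hlt.le).toEquiv
  have hb : Nat.card (↥K ⧸ H.subgroupOf K) * Nat.card H = Nat.card K := by
    rw [← hHc]; exact (Subgroup.card_eq_card_quotient_mul_card_subgroup (H.subgroupOf K)).symm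
  have hCc : Nat.card C = Nat.card (↥K ⧸ H.subgroupOf K) := by
    rw [hHc, ← hb] at e2
    exact Nat.eq_of_mul_eq_mul_right Nat.card_pos e2
  have hCc' : Nat.card (C.map K.subtype) = Nat.card C := Subgroup.card_map_of_injective K.subtype_injective
  have hBi : (K.map (QuotientGroup.mk' H)).index = K.index := by
    rw [Subgroup.index_map, MonoidHom.range_eq_top.2 (QuotientGroup.mk'_surjective H), Subgroup.index_top, mul_one,
      QuotientGroup.ker_mk', sup_eq_left.2 hlt.le]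
  have hB : Nat.card (K.map (QuotientGroup.mk' H)) = Nat.card (↥K ⧸ H.subgroupOf K) := by
    have h1 := (K.map (QuotientGroup.mk' H)).card_mul_index
    rw [hBi] at h1
    have h2 := Subgroup.card_eq_card_quotient_mul_card_subgroup H
    have h3 := K.card_mul_index
    have h4 : Nat.card (K.map (QuotientGroup.mk' H)) * (K.index * Nat.card H) = Nat.card (↥K ⧸ H.subgroupOf K) * (K.index * Nat.card H) := by
      calc Nat.card (K.map (QuotientGroup.mk' H)) * (K.index * Nat.card H) = (Nat.card (K.map (QuotientGroup.mk' H)) * K.index) * Nat.card H := by ring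
        _ = Nat.card (G ⧸ H) * Nat.card H := by rw [h1]
        _ = Nat.card K * K.index := by rw [← h2, h3]
        _ = (Nat.card (↥K ⧸ H.subgroupOf K) * Nat.card H) * K.index := by rw [hb]
        _ = _ := by ring
    exact Nat.eq_of_mul_eq_mul_right (Nat.mul_pos (Nat.pos_of_ne_zero Subgroup.index_ne_zero_of_finite) Nat.card_pos) h4
  have hDc : Nat.card D = Nat.card (G ⧸ K) := by
    have h1 := (K.map (QuotientGroup.mk' H)).card_mul_index
    rw [hBi, ← f2, mul_comm] at h1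
    have h2 := Nat.eq_of_mul_eq_mul_right Nat.card_pos h1
    rw [← h2]; rfl
  refine ⟨C.map K.subtype, D, ⟨hlt, Subgroup.map_subtype_le _, by rw [hCc', hCc], ?_, hD.1, ?_, hb, (by rw [← hCc, ← hHc]; exact e3),
    (by rw [← hDc, ← hB, Nat.coprime_comm]; exact f3), hB, hDc, ?_, ?_, ?_, f4, f6, ?_, ?_, ?_⟩⟩
  · intro h
    exact hC.1 ((Subgroup.map_eq_bot_iff_of_injective _ K.subtype_injective).1 h)
  · intro h
    apply hC.2.1
    rw [← Subgroup.index_eq_one, e1, hHc, h, Subgroup.card_bot]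
  · rintro _ ⟨c, hc, rfl⟩ hcH
    rw [e4 c hc hcH]; rfl
  · rintro _ ⟨c, hc, rfl⟩ hc1 n hn hnc
    have h1 := e5 c hc (fun h => hc1 (by rw [h]; rfl)) ⟨n, hlt.le hn⟩ hn (Subtype.ext hnc)
    exact congrArg Subtype.val h1
  · intro n hn hn1 x hx hxn
    exact e6 ⟨n, hlt.le hn⟩ hn (fun h => hn1 (congrArg Subtype.val h)) ⟨x, hx⟩ (Subtype.ext hxn)
  · obtain ⟨N, hN, -, hnil⟩ := Cfsg.Agent.H3.Fpf.frobenius_nilpotent C hC
    rw [hCN] at hN
    have : N = H.subgroupOf K := SetLike.coe_injective hN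
    rw [this] at hnil
    exact Cfsg.Agent.H12.CN.nilpotent_of_injective hnil (Subgroup.subgroupOfEquivOfLe hlt.le).symm.toMonoidHom (Subgroup.subgroupOfEquivOfLe hlt.le).symm.injective
  · obtain ⟨N, hN, -, hnil⟩ := Cfsg.Agent.H3.Fpf.frobenius_nilpotent D hD
    rw [hDN] at hN
    have : N = K.map (QuotientGroup.mk' H) := SetLike.coe_injective hN
    rwa [this] at hnil
  · intro g
    have hnorm : ∀ c : K, g * c * g⁻¹ ∈ K := fun c => ‹K.Normal›.conj_mem c c.2 g
    let L : Subgroup K := ((C.map K.subtype).map (MulAut.conj g).toMonoidHom).subgroupOf K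
    have hL : Nat.card L = Nat.card C := by
      have h1 : (C.map K.subtype).map (MulAut.conj g).toMonoidHom ≤ K := by
        rintro _ ⟨_, ⟨c, hc, rfl⟩, rfl⟩
        exact hnorm c
      rw [Nat.card_congr (Subgroup.subgroupOfEquivOfLe h1).toEquiv, Subgroup.card_map_of_injective (MulAut.conj g).injective, hCc']
    obtain ⟨k, hk⟩ := Cfsg.Agent.H1.Frob2.le_conj_of_card_dvd hC (L := L) (by rw [hL])
    refine ⟨k, k.2, ?_⟩
    rintro _ ⟨c, hc, rfl⟩
    have h1 : (⟨g * c * g⁻¹, hnorm c⟩ : K) ∈ L := by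
      change g * c * g⁻¹ ∈ (C.map K.subtype).map (MulAut.conj g).toMonoidHom
      exact ⟨c, ⟨c, hc, rfl⟩, rfl⟩
    have h2 := hk h1
    rw [Cfsg.Agent.H24.Tools.mem_conj] at h2
    refine ⟨_, h2, ?_⟩
    change (k : G)⁻¹ * (g * c * g⁻¹) * k = (k : G)⁻¹ * g * c * ((k : G)⁻¹ * g)⁻¹
    group

variable {G : Type*} [Group G] [Finite G] {H K C : Subgroup G} [H.Normal] [K.Normal] {D : Subgroup (G ⧸ H)} {b : ℕ}

theorem TF.inj (h : TF H K C D b) {c c' : G} (hc : c ∈ C) (hc' : c' ∈ C) (e : (c : G ⧸ H) = c') : c = c' := by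
  rw [QuotientGroup.eq] at e
  have := h.c1 _ (mul_mem (inv_mem hc) hc') e
  exact (inv_mul_eq_one.1 this)

theorem TF.surj (h : TF H K C D b) {y : G ⧸ H} (hy : y ∈ K.map (QuotientGroup.mk' H)) : ∃ c ∈ C, (c : G ⧸ H) = y := by
  have h1 : C.map (QuotientGroup.mk' H) = K.map (QuotientGroup.mk' H) := by
    apply Subgroup.eq_of_le_of_card_ge (Subgroup.map_mono h.hCK)
    rw [h.cB, ← h.cC]
    apply Nat.card_le_card_of_injective (fun c : C => (⟨QuotientGroup.mk' H c, ⟨c, c.2, rfl⟩⟩ : C.map (QuotientGroup.mk' H)))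
    intro c c' hcc
    exact Subtype.ext (h.inj c.2 c'.2 (congrArg Subtype.val hcc))
  rw [← h1] at hy
  obtain ⟨c, hc, rfl⟩ := hy
  exact ⟨c, hc, rfl⟩

theorem TF.V (h : TF H K C D b) : ∃ V : Subgroup G, V.Normal ∧ V ≤ H ∧ V ≠ ⊥ ∧ IsMulCommutative V ∧
    ∀ c ∈ C, c ≠ 1 → V ⊓ centralizer {c} = ⊥ := by
  refine ⟨(center H).map H.subtype, inferInstance, Subgroup.map_subtype_le _, ?_, ?_, ?_⟩
  · intro hbot
    have h1 := (Subgroup.map_eq_bot_iff_of_injective _ H.subtype_injective).1 hbot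
    haveI := h.nH
    have h2 := Cfsg.Agent.H1.Nilp.normal_inf_center_ne_bot (⊤ : Subgroup H) (by
      intro h3
      apply h.hHne
      rw [← Subgroup.card_eq_one, ← Subgroup.card_top (G := H), h3, Subgroup.card_bot])
    rw [top_inf_eq] at h2
    exact h2 h1
  · refine ⟨⟨?_⟩⟩
    rintro ⟨_, ⟨a, ha, rfl⟩⟩ ⟨_, ⟨a', ha', rfl⟩⟩
    apply Subtype.ext
    have h1 := (Subgroup.mem_center_iff.1 ha a').symm
    exact congrArg (fun (z : H) => (z : G)) h1
  · intro c hc hc1
    rw [eq_bot_iff]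
    rintro v ⟨hv, hvc⟩
    rw [mem_bot]
    exact h.c2 c hc hc1 v (Subgroup.map_subtype_le _ hv) (mem_centralizer_singleton_iff.1 hvc)

theorem TF.cyc (h : TF H K C D b) : Odd b ∧ IsCyclic C ∧ IsCyclic (K.map (QuotientGroup.mk' H)) ∧ IsCyclic D := by
  obtain ⟨V, hVn, hVH, hVb, hVc, hVf⟩ := h.V
  haveI := hVc
  have hCN : C ≤ normalizer (V : Set G) := by rw [Subgroup.normalizer_eq_top]; exact le_top
  have hodd : ¬ 2 ∣ b := by
    intro h2
    haveI : Fact (Nat.Prime 2) := ⟨Nat.prime_two⟩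
    rw [← h.cC] at h2
    obtain ⟨t, ht⟩ := exists_prime_orderOf_dvd_card' 2 h2
    have huniq : ∀ s ∈ C, ∀ s' ∈ C, s ≠ 1 → s' ≠ 1 → s * s = 1 → s' * s' = 1 → s = s' := by
      intro s hs s' hs' hs1 hs1' hss hss'
      have i1 := Cfsg.Agent.H12.CN.inverts_of_fpf hss (hCN hs) (hVf s hs hs1)
      have i2 := Cfsg.Agent.H12.CN.inverts_of_fpf hss' (hCN hs') (hVf s' hs' hs1')
      by_contra hne
      have h3 : s * s' ≠ 1 := by
        intro h4
        apply hne
        have : s' = s⁻¹ := (inv_eq_of_mul_eq_one_right h4).symm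
        rw [this, inv_eq_of_mul_eq_one_left hss]
      have h4 := hVf (s * s') (mul_mem hs hs') h3
      apply hVb
      rw [eq_bot_iff]
      intro v hv
      rw [← h4]
      refine ⟨hv, ?_⟩
      change v ∈ centralizer {s * s'}
      rw [mem_centralizer_singleton_iff]
      have h5 : s * s' * v * (s * s')⁻¹ = v := by
        calc s * s' * v * (s * s')⁻¹ = s * (s' * v * s'⁻¹) * s⁻¹ := by group
          _ = v := by rw [i2 v hv, i1 _ (inv_mem hv), inv_inv]
      rw [mul_inv_eq_iff_eq_mul] at h5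
      exact h5.symm
    have hto : orderOf (t : G) = 2 := by rw [Subgroup.orderOf_coe, ht]
    have htt : (t : G) * t = 1 := by rw [← sq, ← hto, pow_orderOf_eq_one]
    have ht1 : (t : G) ≠ 1 := by
      intro h3; rw [h3, orderOf_one] at hto; norm_num at hto
    obtain ⟨y, hyD, hy1⟩ := (Subgroup.bot_or_exists_ne_one D).resolve_left h.hDne
    have htB : ((t : G) : G ⧸ H) ∈ K.map (QuotientGroup.mk' H) := ⟨t, h.hCK t.2, rfl⟩
    obtain ⟨s, hs, hse⟩ := h.surj ((inferInstance : (K.map (QuotientGroup.mk' H)).Normal).conj_mem _ htB y)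
    have hss : s * s = 1 := by
      apply h.inj (mul_mem hs hs) (one_mem _)
      rw [QuotientGroup.mk_mul, hse, QuotientGroup.mk_one]
      calc y * ((t : G) : G ⧸ H) * y⁻¹ * (y * ((t : G) : G ⧸ H) * y⁻¹) = y * (((t : G) : G ⧸ H) * ((t : G) : G ⧸ H)) * y⁻¹ := by group
        _ = y * (((t : G) * (t : G) : G) : G ⧸ H) * y⁻¹ := rfl
        _ = 1 := by rw [htt, QuotientGroup.mk_one]; group
    have hs1 : s ≠ 1 := by
      intro h3
      rw [h3, QuotientGroup.mk_one] at hse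
      have h4 : ((t : G) : G ⧸ H) = 1 := by
        have : ((t : G) : G ⧸ H) = y⁻¹ * (y * ((t : G) : G ⧸ H) * y⁻¹) * y := by group
        rw [this, ← hse]; group
      exact ht1 (h.inj t.2 (one_mem _) (by rw [h4, QuotientGroup.mk_one]))
    have hst := huniq s hs t t.2 hs1 ht1 hss htt
    rw [hst] at hse
    have h5 : y * ((t : G) : G ⧸ H) = ((t : G) : G ⧸ H) * y := by
      rw [← mul_inv_eq_iff_eq_mul]; exact hse.symm
    have h6 : ((t : G) : G ⧸ H) ≠ 1 := fun h7 => ht1 (h.inj t.2 (one_mem _) (by rw [h7, QuotientGroup.mk_one]))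
    exact hy1 (h.d1 y hyD (h.d3 _ htB h6 y h5))
  have hoddb : Odd b := Nat.not_even_iff_odd.1 (fun h2 => hodd h2.two_dvd)
  let φ : C →* K.map (QuotientGroup.mk' H) := ((QuotientGroup.mk' H).comp C.subtype).codRestrict _ (fun c => ⟨c, h.hCK c.2, rfl⟩)
  have hφi : Function.Injective φ := by
    intro c c' e
    exact Subtype.ext (h.inj c.2 c'.2 (congrArg Subtype.val e))
  have hφs : Function.Surjective φ := by
    rintro ⟨y, hy⟩
    obtain ⟨c, hc, e⟩ := h.surj hy
    exact ⟨⟨c, hc⟩, Subtype.ext e⟩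
  haveI hCnil : Group.IsNilpotent C := Cfsg.Agent.H12.CN.nilpotent_of_injective h.nB φ hφi
  haveI hCz : IsZGroup C := by
    refine ⟨fun p hp P => ?_⟩
    haveI : Fact p.Prime := ⟨hp⟩
    by_cases hp2 : p = 2
    · subst hp2
      have h1 : (P : Subgroup C) = ⊥ := by
        obtain ⟨k, hk⟩ := P.2.exists_card_eq
        rcases k with _ | k
        · rw [pow_zero] at hk; exact Subgroup.card_eq_one.1 hk
        · exfalso
          apply hodd
          rw [← h.cC]
          exact (dvd_pow_self 2 (Nat.succ_ne_zero k)).trans (hk ▸ Subgroup.card_subgroup_dvd_card (P : Subgroup C))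
      rw [h1]
      infer_instance
    · have h1 := Cfsg.Agent.H12.CN.sylow_cyclic_of_fpf (P := (P : Subgroup C).map C.subtype) (V := V) hp2 (P.2.map _) hVb
        ((Subgroup.map_subtype_le _).trans hCN) (fun e he => hVf e (Subgroup.map_subtype_le _ he))
      exact isCyclic_of_surjective ((P : Subgroup C).equivMapOfInjective C.subtype C.subtype_injective).symm.toMonoidHom
        ((P : Subgroup C).equivMapOfInjective C.subtype C.subtype_injective).symm.surjective
  haveI hCc : IsCyclic C := inferInstance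
  haveI hBc : IsCyclic (K.map (QuotientGroup.mk' H)) := isCyclic_of_surjective φ hφs
  refine ⟨hoddb, hCc, hBc, ?_⟩
  have hBn : (K.map (QuotientGroup.mk' H)).Normal := inferInstance
  have hBcomm : ∀ x ∈ K.map (QuotientGroup.mk' H), ∀ y ∈ K.map (QuotientGroup.mk' H), x * y = y * x := by
    intro x hx y hy
    letI : CommGroup (K.map (QuotientGroup.mk' H)) := IsCyclic.commGroup
    exact congrArg Subtype.val (mul_comm (⟨x, hx⟩ : K.map (QuotientGroup.mk' H)) ⟨y, hy⟩)
  haveI : IsMulCommutative (K.map (QuotientGroup.mk' H)) := ⟨⟨fun x y => Subtype.ext (hBcomm x x.2 y y.2)⟩⟩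
  have hBb : K.map (QuotientGroup.mk' H) ≠ ⊥ := by
    intro h1
    apply h.hCne
    rw [← Subgroup.card_eq_one, h.cC, ← h.cB, h1, Subgroup.card_bot]
  obtain ⟨b0, hb0⟩ := hBc.exists_generator
  have hb1 : (b0 : G ⧸ H) ≠ 1 := by
    intro h1
    apply hBb
    rw [eq_bot_iff]
    intro x hx
    obtain ⟨k, hk⟩ := hb0 ⟨x, hx⟩
    have hk' : (b0 : G ⧸ H) ^ k = x := congrArg Subtype.val hk
    rw [← hk', h1, one_zpow]
    exact one_mem _
  have hconj : ∀ y : G ⧸ H, ∃ i : ℤ, y * b0 * y⁻¹ = (b0 : G ⧸ H) ^ i := by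
    intro y
    obtain ⟨k, hk⟩ := hb0 ⟨_, hBn.conj_mem _ b0.2 y⟩
    exact ⟨k, (congrArg Subtype.val hk).symm⟩
  haveI : IsMulCommutative D := by
    refine ⟨⟨?_⟩⟩
    rintro ⟨y, hy⟩ ⟨z, hz⟩
    apply Subtype.ext
    change y * z = z * y
    obtain ⟨i, hi⟩ := hconj y
    obtain ⟨j, hj⟩ := hconj z
    have e1 : y * z * b0 * (y * z)⁻¹ = (b0 : G ⧸ H) ^ (i * j) := by
      calc y * z * b0 * (y * z)⁻¹ = y * (z * b0 * z⁻¹) * y⁻¹ := by group
        _ = (y * b0 * y⁻¹) ^ j := by rw [hj, conj_zpow]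
        _ = _ := by rw [hi, zpow_mul]
    have e2 : z * y * b0 * (z * y)⁻¹ = (b0 : G ⧸ H) ^ (i * j) := by
      calc z * y * b0 * (z * y)⁻¹ = z * (y * b0 * y⁻¹) * z⁻¹ := by group
        _ = (z * b0 * z⁻¹) ^ i := by rw [hi, conj_zpow]
        _ = _ := by rw [hj, mul_comm i j, zpow_mul]
    have e3 : ((z * y)⁻¹ * (y * z)) * b0 = b0 * ((z * y)⁻¹ * (y * z)) := by
      have e4 : y * z * b0 * (y * z)⁻¹ = z * y * b0 * (z * y)⁻¹ := e1.trans e2.symm
      calc ((z * y)⁻¹ * (y * z)) * b0 = (z * y)⁻¹ * (y * z * b0 * (y * z)⁻¹) * (y * z) := by group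
        _ = (z * y)⁻¹ * (z * y * b0 * (z * y)⁻¹) * (y * z) := by rw [e4]
        _ = _ := by group
    have e5 := h.d3 _ b0.2 hb1 _ e3
    have e6 := h.d1 _ (mul_mem (inv_mem (mul_mem hz hy)) (mul_mem hy hz)) e5
    exact (inv_mul_eq_one.1 e6).symm
  apply Cfsg.Agent.H1.Fpf.isCyclic_of_fpf_comm D (K.map (QuotientGroup.mk' H)) hBb
    (by rw [Subgroup.normalizer_eq_top]; exact le_top)
  intro a ha ha1
  rw [eq_bot_iff]
  rintro n ⟨hn, hna⟩
  rw [mem_bot]
  by_contra hn1
  have hna' : n * a = a * n := mem_centralizer_singleton_iff.1 hna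
  exact ha1 (h.d1 a ha (h.d3 n hn hn1 a hna'.symm))

theorem TF.gk (h : TF H K C D b) : IsCyclic (G ⧸ K) := by
  obtain ⟨-, -, -, hD⟩ := h.cyc
  let ψ : G ⧸ H →* G ⧸ K := QuotientGroup.map H K (MonoidHom.id G) h.hlt.le
  have hψ : ∀ y : G ⧸ H, ψ y = 1 → y ∈ K.map (QuotientGroup.mk' H) := by
    intro y hy
    obtain ⟨g, rfl⟩ := QuotientGroup.mk_surjective y
    have : (g : G ⧸ K) = 1 := hy
    exact ⟨g, (QuotientGroup.eq_one_iff g).1 this, rfl⟩
  have hinj : Function.Injective (ψ.comp D.subtype) := by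
    rw [injective_iff_map_eq_one]
    intro d hd
    exact Subtype.ext (h.d1 d d.2 (hψ d hd))
  have hbij : Function.Bijective (ψ.comp D.subtype) := (Nat.bijective_iff_injective_and_card _).2 ⟨hinj, h.cD⟩
  exact isCyclic_of_surjective _ hbij.2

theorem TF.solv (h : TF H K C D b) : Group.IsSolvable G := by
  haveI := h.gk
  haveI : Group.IsSolvable (G ⧸ K) := by
    letI : CommGroup (G ⧸ K) := IsCyclic.commGroup
    infer_instance
  haveI : Group.IsSolvable (G ⧸ H) := by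
    obtain ⟨-, -, hB, hD⟩ := h.cyc
    haveI : Group.IsSolvable (K.map (QuotientGroup.mk' H)) := by
      haveI := h.nB
      infer_instance
    let ψ : G ⧸ H →* G ⧸ K := QuotientGroup.map H K (MonoidHom.id G) h.hlt.le
    apply Group.isSolvable_of_ker_le_range (K.map (QuotientGroup.mk' H)).subtype ψ
    intro y hy
    obtain ⟨g, rfl⟩ := QuotientGroup.mk_surjective y
    have : (g : G ⧸ K) = 1 := hy
    rw [Subgroup.range_subtype]
    exact ⟨g, (QuotientGroup.eq_one_iff g).1 this, rfl⟩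
  haveI : Group.IsSolvable H := by
    haveI := h.nH
    infer_instance
  apply Group.isSolvable_of_ker_le_range H.subtype (QuotientGroup.mk' H)
  rw [QuotientGroup.ker_mk', Subgroup.range_subtype]

theorem TF.cardG (h : TF H K C D b) : Nat.card G = b * Nat.card H * Nat.card (G ⧸ K) := by
  rw [h.cK, mul_comm]
  exact Subgroup.card_eq_card_quotient_mul_card_subgroup K

theorem TF.mp (h : TF H K C D b) {p q : ℕ} (hp : p.Prime) (hq : q.Prime) (hpb : p ∣ b) (hqb : ¬ q ∣ b) (g : G)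
    (hg : orderOf g = p * q) : False := by
  have hop : orderOf (g ^ q) = p := by
    rw [orderOf_pow_of_dvd hq.ne_zero (hg ▸ dvd_mul_left q p), hg, Nat.mul_div_cancel _ hq.pos]
  have hoq : orderOf (g ^ p) = q := by
    rw [orderOf_pow_of_dvd hp.ne_zero (hg ▸ dvd_mul_right p q), hg, Nat.mul_div_cancel_left _ hp.pos]
  have hcomm : g ^ p * g ^ q = g ^ q * g ^ p := by rw [← pow_add, ← pow_add, add_comm]
  have hpK : g ^ q ∈ K := by
    rw [← QuotientGroup.eq_one_iff, ← orderOf_eq_one_iff]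
    have h1 : orderOf ((g ^ q : G) : G ⧸ K) ∣ p := hop ▸ orderOf_map_dvd (QuotientGroup.mk' K) (g ^ q)
    have h2 : orderOf ((g ^ q : G) : G ⧸ K) ∣ Nat.card (G ⧸ K) := orderOf_dvd_natCard _
    exact Nat.eq_one_of_dvd_coprimes (h.cop2.of_dvd_left hpb) h1 h2
  have hpH : g ^ q ∉ H := by
    intro h1
    have h2 := Subgroup.orderOf_dvd_natCard H h1
    rw [hop] at h2
    exact hp.one_lt.ne' (Nat.eq_one_of_dvd_coprimes h.cop1 hpb h2)
  have hqB : ((g ^ p : G) : G ⧸ H) ∈ K.map (QuotientGroup.mk' H) := by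
    apply h.d3 ((g ^ q : G) : G ⧸ H) ⟨g ^ q, hpK, rfl⟩ (fun h1 => hpH ((QuotientGroup.eq_one_iff _).1 h1))
    rw [← QuotientGroup.mk_mul, hcomm, QuotientGroup.mk_mul]
  have hqH : g ^ p ∈ H := by
    rw [← QuotientGroup.eq_one_iff, ← orderOf_eq_one_iff]
    have h1 : orderOf ((g ^ p : G) : G ⧸ H) ∣ q := hoq ▸ orderOf_map_dvd (QuotientGroup.mk' H) (g ^ p)
    have h2 := Subgroup.orderOf_dvd_natCard _ hqB
    rw [h.cB] at h2
    exact Nat.eq_one_of_dvd_coprimes ((Nat.Prime.coprime_iff_not_dvd hq).2 hqb) h1 h2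
  have hq1 : g ^ p ≠ 1 := by
    intro h1
    rw [h1, orderOf_one] at hoq
    exact hq.one_lt.ne hoq
  exact hpH (h.c3 _ hqH hq1 _ hpK hcomm.symm)

theorem TF.fixr (h : TF H K C D b) {p q : ℕ} (hp : p.Prime) (hq : q.Prime) (hpq : p ≠ q) (hpH : p ∣ Nat.card H)
    (hqH : ¬ q ∣ Nat.card H) (hqb : ¬ q ∣ b) (hqG : q ∣ Nat.card G) : ∃ g : G, orderOf g = p * q := by
  haveI : Fact p.Prime := ⟨hp⟩
  haveI : Fact q.Prime := ⟨hq⟩
  by_contra hno
  have hqK : ¬ q ∣ Nat.card K := by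
    rw [← h.cK]
    intro h1
    rcases hq.dvd_mul.1 h1 with h1 | h1
    · exact hqb h1
    · exact hqH h1
  have hqGK : q ∣ Nat.card (G ⧸ K) := by
    rw [h.cardG, h.cK] at hqG
    exact (hq.dvd_mul.1 hqG).resolve_left hqK
  obtain ⟨P0⟩ : Nonempty (Sylow p H) := inferInstance
  have hP0n : (P0 : Subgroup H).Normal := by
    haveI := h.nH
    have h0 : ∀ (p : ℕ) (_ : Fact p.Prime) (P : Sylow p H), (P : Subgroup H).Normal :=
      (Group.isNilpotent_of_finite_tfae (G := H).out 0 3).mp h.nH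
    exact h0 p ⟨hp⟩ P0
  haveI : (P0 : Subgroup H).Characteristic := P0.characteristic_of_normal hP0n
  set S : Subgroup G := (P0 : Subgroup H).map H.subtype with hS
  haveI hSn : S.Normal := inferInstance
  have hSH : S ≤ H := Subgroup.map_subtype_le _
  have hSp : IsPGroup p S := P0.2.map _
  haveI : Nontrivial S := by
    rw [Subgroup.nontrivial_iff_ne_bot]
    intro h1
    have h2 := (Subgroup.map_eq_bot_iff_of_injective _ H.subtype_injective).1 h1
    have h3 := P0.card_eq_multiplicity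
    have h4 : Nat.card (P0 : Subgroup H) = 1 := by rw [h2, Subgroup.card_bot]
    have h5 : 1 ≤ (Nat.card H).factorization p := (hp.dvd_iff_one_le_factorization Nat.card_pos.ne').1 hpH
    have h6 : p ∣ Nat.card (P0 : Subgroup H) := by
      have h7 : Nat.card (P0 : Subgroup H) = p ^ (Nat.card H).factorization p := h3
      rw [h7]; exact dvd_pow_self p (by omega)
    rw [h4] at h6
    exact hp.one_lt.ne' (Nat.dvd_one.1 h6)
  haveI := hSp.center_nontrivial
  set V : Subgroup G := (center S).map S.subtype with hV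
  have hVn : V.Normal := inferInstance
  have hVS : V ≤ S := Subgroup.map_subtype_le _
  have hVb : V ≠ ⊥ := by
    intro h1
    have h2 := (Subgroup.map_eq_bot_iff_of_injective _ S.subtype_injective).1 h1
    exact (Subgroup.nontrivial_iff_ne_bot _).1 (inferInstance : Nontrivial (center S)) h2
  have hVcomm : ∀ a ∈ V, ∀ b ∈ V, a * b = b * a := by
    rintro _ ⟨a, ha, rfl⟩ _ ⟨a', ha', rfl⟩
    have h1 := (Subgroup.mem_center_iff.1 ha a').symm
    exact congrArg (fun (z : S) => (z : G)) h1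
  -- the element of order q normalizing C
  have hsurj : Function.Surjective ((QuotientGroup.mk' K).comp (normalizer (C : Set G)).subtype) := by
    intro y
    obtain ⟨g, rfl⟩ := QuotientGroup.mk_surjective y
    obtain ⟨k, hk, hkC⟩ := h.cj g
    refine ⟨⟨k⁻¹ * g, Cfsg.Agent.H24.Tools.mem_normalizer hkC⟩, ?_⟩
    change ((k⁻¹ * g : G) : G ⧸ K) = g
    rw [QuotientGroup.mk_mul, QuotientGroup.mk_inv, (QuotientGroup.eq_one_iff k).2 hk, inv_one, one_mul]
  have hqN : q ∣ Nat.card (normalizer (C : Set G)) := hqGK.trans (Subgroup.card_dvd_of_surjective _ hsurj)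
  obtain ⟨x, hx⟩ := exists_prime_orderOf_dvd_card' q hqN
  have hxo : orderOf (x : G) = q := by rw [Subgroup.orderOf_coe, hx]
  apply hVb
  apply Cfsg.Agent.H21.Frob.frob_internal V C hVcomm (by rw [Subgroup.normalizer_eq_top]; exact le_top) (x : G)
    (by rw [Subgroup.normalizer_eq_top]; exact mem_top _) q hq.pos (by rw [← hxo]; exact pow_orderOf_eq_one _)
    (fun u hu => (mem_normalizer_iff.1 x.2 u).1 hu)
  · intro i hi0 hiq u hu hxu
    by_contra hu1
    have h1 : ((u : G) : G ⧸ H) ≠ 1 := fun h2 => hu1 (h.inj hu (one_mem _) (by rw [h2, QuotientGroup.mk_one]))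
    have h2 := h.d3 ((u : G) : G ⧸ H) ⟨u, h.hCK hu, rfl⟩ h1 (((x : G) ^ i : G) : G ⧸ H) (by
      rw [← QuotientGroup.mk_mul, hxu, QuotientGroup.mk_mul])
    have h3 : (x : G) ^ i ∈ K := by
      obtain ⟨k, hk, e⟩ := h2
      have e' : (k : G ⧸ H) = (((x : G) ^ i : G) : G ⧸ H) := e
      rw [QuotientGroup.eq] at e'
      have := mul_mem hk (h.hlt.le e')
      rwa [mul_inv_cancel_left] at this
    have h4 : (x : G) ∈ K := by
      apply Cfsg.Agent.H24.Tools.coprime_pow_mem h3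
      rw [hxo]
      exact (Nat.coprime_of_lt_prime hi0.ne' hiq hq)
    have h5 := Subgroup.orderOf_dvd_natCard K h4
    rw [hxo] at h5
    exact hqK h5
  · intro v hv hxv
    by_contra hv1
    apply hno
    have h1 : v * x = x * v := by
      rw [mul_inv_eq_iff_eq_mul] at hxv
      exact hxv.symm
    apply Cfsg.Agent.H21.Frob.exists_orderOf_mul h1 hp hq hpq
    · obtain ⟨k, hk⟩ := hSp ⟨v, hVS hv⟩
      have hk' : v ^ p ^ k = 1 := congrArg Subtype.val hk
      obtain ⟨i, -, hi⟩ := (Nat.dvd_prime_pow hp).1 (orderOf_dvd_of_pow_eq_one hk')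
      rcases i with _ | i
      · rw [pow_zero, orderOf_eq_one_iff] at hi
        exact absurd hi hv1
      · rw [hi]; exact dvd_pow_self p (Nat.succ_ne_zero i)
    · rw [hxo]
  · intro v hv hvC
    obtain ⟨c, hc, hc1⟩ := (Subgroup.bot_or_exists_ne_one C).resolve_left h.hCne
    have h1 := hvC c hc
    rw [mul_inv_eq_iff_eq_mul] at h1
    exact h.c2 c hc hc1 v (hSH (hVS hv)) h1.symm
  · rw [h.cC]
    exact h.cop1.of_dvd_right (Subgroup.card_dvd_of_le (hVS.trans hSH))

theorem TF.mpr (h : TF H K C D b) {p q : ℕ} (hp : p.Prime) (hq : q.Prime) (hpq : p ≠ q) (hpG : p ∣ Nat.card G) (hqG : q ∣ Nat.card G)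
    (hiff : p ∣ b ↔ q ∣ b) : ∃ g : G, orderOf g = p * q := by
  haveI : Fact p.Prime := ⟨hp⟩
  haveI : Fact q.Prime := ⟨hq⟩
  have hcyc : ∀ (X : Type _) [Group X] [Finite X], IsCyclic X → p ∣ Nat.card X → q ∣ Nat.card X → ∃ g : X, orderOf g = p * q := by
    intro X _ _ hX h1 h2
    obtain ⟨g, hg⟩ := hX.exists_ofOrder_eq_natCard
    exact Cfsg.Agent.H21.Frob.exists_orderOf_mul (x := g) (y := g) rfl hp hq hpq (by rwa [hg]) (by rwa [hg])
  by_cases hpb : p ∣ b
  · have hqb := hiff.1 hpb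
    obtain ⟨-, hC, -, -⟩ := h.cyc
    exact Cfsg.Agent.H21.Frob.exists_orderOf_of_subgroup (hcyc C hC (by rwa [h.cC]) (by rwa [h.cC]))
  have hqb : ¬ q ∣ b := fun h1 => hpb (hiff.2 h1)
  have hor : ∀ r : ℕ, r.Prime → ¬ r ∣ b → r ∣ Nat.card G → ¬ r ∣ Nat.card H → r ∣ Nat.card (G ⧸ K) := by
    intro r hr h1 h2 h3
    rw [h.cardG] at h2
    rcases hr.dvd_mul.1 h2 with h4 | h4
    · rcases hr.dvd_mul.1 h4 with h5 | h5
      · exact absurd h5 h1
      · exact absurd h5 h3
    · exact h4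
  by_cases hpH : p ∣ Nat.card H
  · by_cases hqH : q ∣ Nat.card H
    · obtain ⟨x, hx⟩ := exists_prime_orderOf_dvd_card' p hpH
      obtain ⟨y, hy⟩ := exists_prime_orderOf_dvd_card' q hqH
      have hxo : orderOf (x : G) = p := by rw [Subgroup.orderOf_coe, hx]
      have hyo : orderOf (y : G) = q := by rw [Subgroup.orderOf_coe, hy]
      have h1 := Cfsg.Agent.H12.CN.le_centralizer_of_nilpotent (p := p) (L := H) (A := zpowers (x : G)) (B := zpowers (y : G)) h.nH
        (by rw [IsPGroup.iff_card, Nat.card_zpowers, hxo]; exact ⟨1, (pow_one p).symm⟩) (by rw [zpowers_le]; exact x.2)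
        (by rw [zpowers_le]; exact y.2) (by rw [Nat.card_zpowers, hyo]; exact (Nat.coprime_primes hq hp).2 hpq.symm)
      have h2 := mem_centralizer_iff.1 (h1 (mem_zpowers _)) (x : G) (mem_zpowers _)
      exact Cfsg.Agent.H21.Frob.exists_orderOf_mul h2 hp hq hpq (by rw [hxo]) (by rw [hyo])
    · exact h.fixr hp hq hpq hpH hqH hqb hqG
  · by_cases hqH : q ∣ Nat.card H
    · obtain ⟨g, hg⟩ := h.fixr hq hp hpq.symm hqH hpH hpb hpG
      exact ⟨g, by rw [hg, mul_comm]⟩
    · exact Cfsg.Agent.H21.Frob.exists_orderOf_of_quotient K (hcyc (G ⧸ K) h.gk (hor p hp hpb hpG hpH) (hor q hq hqb hqG hqH))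

end

/-- Let G be a 2-Frobenius group: it has normal subgroups H < K with K a Frobenius group with kernel H and G/H a Frobenius group with kernel K/H. Then G is solvable; K/H has odd order coprime to the order of H and to the order of G/K (it is the image of an odd-order Hall subgroup); G/K is cyclic; and the prime graph of G has exactly two connected components, both complete: for distinct primes p, q dividing the order of G, G has an element of order pq exactly when p and q either both divide the order of K/H or both do not. -/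
theorem result {G : Type*} [Group G] [Finite G] (H K : Subgroup G) [H.Normal] [K.Normal] (hlt : H < K)
    (hK : ∃ C : Subgroup ↥K, Cfsg.IsFrobeniusComplement C ∧ Cfsg.frobeniusKernel C = (H.subgroupOf K : Set ↥K))
    (hGH : ∃ C : Subgroup (G ⧸ H), Cfsg.IsFrobeniusComplement C ∧ Cfsg.frobeniusKernel C = (K.map (QuotientGroup.mk' H) : Set (G ⧸ H))) :
    Group.IsSolvable G ∧ Odd (Nat.card (↥K ⧸ H.subgroupOf K)) ∧
      Nat.Coprime (Nat.card (↥K ⧸ H.subgroupOf K)) (Nat.card ↥H * Nat.card (G ⧸ K)) ∧ IsCyclic (G ⧸ K) ∧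
      ∀ p q : ℕ, p.Prime → q.Prime → p ≠ q → p ∣ Nat.card G → q ∣ Nat.card G →
        ((∃ g : G, orderOf g = p * q) ↔ (p ∣ Nat.card (↥K ⧸ H.subgroupOf K) ↔ q ∣ Nat.card (↥K ⧸ H.subgroupOf K))) := by
  obtain ⟨C, D, h⟩ := tf_of H K hlt hK hGH
  obtain ⟨h1, -, -, -⟩ := h.cyc
  refine ⟨h.solv, h1, Nat.Coprime.mul_right h.cop1 h.cop2, h.gk, ?_⟩
  intro p q hp hq hpq hpG hqG
  constructor
  · rintro ⟨g, hg⟩
    constructor
    · intro h2
      by_contra h3
      exact h.mp hp hq h2 h3 g hg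
    · intro h2
      by_contra h3
      exact h.mp hq hp h2 h3 g (by rw [hg, mul_comm])
  · intro h2
    exact h.mpr hp hq hpq hpG hqG h2


end Cfsg.Agent.S4001
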