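import Cfsg.Statements.S4006
import Cfsg.Agent.H7_Ord4c

set_option autoImplicit false
open Cfsg

namespace Cfsg.Agent.S4006

/-- A finite group whose set of element orders is exactly {1, 2, 3, 4} has a normal subgroup N such that either N is a 2-group of exponent 4 and nilpotency class at most 2 with G/N of order 3, or N is an elementary abelian 2-group with G/N isomorphic to the symmetric group of degree 3, or N is an elementary abelian 3-group with G/N cyclic of order 4 or quaternion of order 8. -/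
theorem result {G : Type*} [Group G] [Finite G] (h : Set.range (orderOf : G → ℕ) = {k : ℕ | 1 ≤ k ∧ k ≤ 4}) :
    ∃ (N : Subgroup G) (_ : N.Normal),
      (IsPGroup 2 ↥N ∧ Monoid.exponent ↥N = 4 ∧ Group.nilpotencyClass ↥N ≤ 2 ∧ N.index = 3) ∨
      (Cfsg.IsElementaryAbelian 2 N ∧ Nonempty (G ⧸ N ≃* Equiv.Perm (Fin 3))) ∨
      (Cfsg.IsElementaryAbelian 3 N ∧ ((IsCyclic (G ⧸ N) ∧ N.index = 4) ∨ Nonempty (G ⧸ N ≃* QuaternionGroup 2))) := by
    classical
    haveI f3 : Fact (Nat.Prime 3) := ⟨Nat.prime_three⟩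
    haveI f2 : Fact (Nat.Prime 2) := ⟨Nat.prime_two⟩
    have ho : ∀ g : G, orderOf g ≤ 4 := by
      intro g
      have h1 : orderOf g ∈ Set.range (orderOf : G → ℕ) := ⟨g, rfl⟩
      rw [h] at h1
      exact h1.2
    obtain ⟨u, hu⟩ : ∃ u : G, orderOf u = 4 := by
      have h1 : (4 : ℕ) ∈ Set.range (orderOf : G → ℕ) := by rw [h]; exact ⟨by norm_num, le_refl _⟩
      exact h1
    obtain ⟨r, hr⟩ : ∃ u : G, orderOf u = 3 := by
      have h1 : (3 : ℕ) ∈ Set.range (orderOf : G → ℕ) := by rw [h]; exact ⟨by norm_num, by norm_num⟩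
      exact h1
    have hsol := _root_.H7.Ord4.solv ho
    have hn3 : (pCore 3 G).Normal := Cfsg.Agent.H1.Nilp.pCore_normal 3
    have hp3 : IsPGroup 3 (pCore 3 G) := Cfsg.Agent.H1.Nilp.pCore_isPGroup 3
    have hn2 : (pCore 2 G).Normal := Cfsg.Agent.H1.Nilp.pCore_normal 2
    have hp2 : IsPGroup 2 (pCore 2 G) := Cfsg.Agent.H1.Nilp.pCore_isPGroup 2
    have hcop : ∀ (p : ℕ) [Fact p.Prime] (x : G), x ∈ pPrimeCore p G → (orderOf x).Coprime p := by
      intro p _ x hx
      have hc := Cfsg.Agent.H1.Nilp.pPrimeCore_coprime (G := G) p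
      exact Nat.Coprime.coprime_dvd_left (Subgroup.orderOf_dvd_natCard _ hx) hc
    by_cases h3 : pCore 3 G = ⊥
    · -- case B
      have hpp : pPrimeCore 2 G = ⊥ := by
        rw [eq_bot_iff, ← h3]
        apply Cfsg.Agent.H1.Nilp.le_pCore (Cfsg.Agent.H1.Nilp.pPrimeCore_normal 2)
        rintro ⟨x, hx⟩
        refine ⟨1, Subtype.ext ?_⟩
        show x ^ 3 ^ 1 = 1
        rw [pow_one]
        rcases _root_.H7.Ord4.cases4 ho x with h | h
        · have h1 : orderOf x ∣ 2 ^ 2 := orderOf_dvd_of_pow_eq_one h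
          have h2 : orderOf x = 1 := Nat.eq_one_of_dvd_coprimes ((hcop 2 x hx).pow_right 2) dvd_rfl h1
          rw [orderOf_eq_one_iff.1 h2, one_pow]
        · exact h
      have hC := Cfsg.Agent.H1.Hall.centralizer_pCore_le 2 hpp
      refine ⟨pCore 2 G, hn2, ?_⟩
      rcases _root_.H7.Ord4.caseB ho hsol (pCore 2 G) hp2 (fun N hN hNp => Cfsg.Agent.H1.Nilp.le_pCore hN hNp) hC u hu r hr with h | h
      · exact Or.inl h
      · exact Or.inr (Or.inl h)
    · have h2 : pCore 2 G = ⊥ := by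
        by_contra h2
        obtain ⟨a, ha, ha1⟩ := (pCore 2 G).bot_or_exists_ne_one.resolve_left h2
        obtain ⟨b, hb, hb1⟩ := (pCore 3 G).bot_or_exists_ne_one.resolve_left h3
        have hd : Disjoint (pCore 2 G) (pCore 3 G) := by
          rw [disjoint_iff, eq_bot_iff]
          rintro x ⟨hx2, hx3⟩
          exact _root_.H7.Ord4.eq_one_of_both (_root_.H7.Ord4.two_of_mem hp2 ho hx2) (_root_.H7.Ord4.three_of_mem hp3 ho hx3)
        have hc := Subgroup.commute_of_normal_of_disjoint _ _ hn2 hn3 hd a b ha hb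
        rcases _root_.H7.Ord4.nc ho (_root_.H7.Ord4.two_of_mem hp2 ho ha) (_root_.H7.Ord4.three_of_mem hp3 ho hb) hc with h | h
        · exact ha1 h
        · exact hb1 h
      have hpp : pPrimeCore 3 G = ⊥ := by
        rw [eq_bot_iff, ← h2]
        apply Cfsg.Agent.H1.Nilp.le_pCore (Cfsg.Agent.H1.Nilp.pPrimeCore_normal 3)
        rintro ⟨x, hx⟩
        refine ⟨2, Subtype.ext ?_⟩
        show x ^ 2 ^ 2 = 1
        rcases _root_.H7.Ord4.cases4 ho x with h | h
        · exact h
        · have h1 : orderOf x ∣ 3 := orderOf_dvd_of_pow_eq_one h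
          have h2 : orderOf x = 1 := Nat.eq_one_of_dvd_coprimes (hcop 3 x hx) dvd_rfl h1
          rw [orderOf_eq_one_iff.1 h2, one_pow]
      have hC := Cfsg.Agent.H1.Hall.centralizer_pCore_le 3 hpp
      exact ⟨pCore 3 G, hn3, Or.inr (Or.inr (_root_.H7.Ord4.caseA ho (pCore 3 G) hp3 hC u hu))⟩

end Cfsg.Agent.S4006
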