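import Cfsg.Statements.S4014
import Cfsg.Agent.H23_DLen
import Cfsg.Agent.H1_Nilp
import Cfsg.Agent.H24_Tools


set_option autoImplicit false
open Cfsg

namespace Cfsg.Agent.S4014

open Subgroup
open scoped commutatorElement

universe u

/-- a subgroup of index `p ^ j` contains the `j`-th derived subgroup -/
theorem derived_le {p : ℕ} [hp : Fact p.Prime] (j : ℕ) : ∀ (P : Type u) [Group P] [Finite P] (H : Subgroup P), IsPGroup p P → H.index = p ^ j →
    derivedSeries P j ≤ H := by
  induction j with
  | zero =>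
    intro P _ _ H _ hH
    rw [pow_zero, Subgroup.index_eq_one] at hH
    rw [hH]; exact le_top
  | succ j ih =>
    intro P _ _ H hP hH
    have hHt : H ≠ ⊤ := by
      intro h
      rw [h, Subgroup.index_top] at hH
      exact absurd hH.symm (Nat.one_lt_pow (Nat.succ_ne_zero j) hp.out.one_lt).ne'
    obtain ⟨M, hM, hHM⟩ := H24.Tools.exists_coatom_ge hHt
    obtain ⟨hMn, hMi⟩ := H1.Nilp.index_eq_of_isCoatom_pgroup hP hM
    haveI := hMn
    have h1 : derivedSeries P 1 ≤ M := by
      rw [derivedSeries_one]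
      exact H1.Nilp.commutator_le_of_index_prime (by rw [hMi]; exact hp.out)
    refine (H23.DLen.derivedSeries_succ_le M h1 j).trans ?_
    have h2 : (H.subgroupOf M).index = p ^ j := by
      have h3 := Subgroup.relIndex_mul_index hHM
      rw [hH, hMi, pow_succ] at h3
      exact Nat.eq_of_mul_eq_mul_right hp.out.pos h3
    have h4 := ih M (H.subgroupOf M) (hP.to_subgroup M) h2
    refine (Subgroup.map_mono h4).trans ?_
    rw [Subgroup.subgroupOf_map_subtype]
    exact inf_le_left

open RegularWreathProduct in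
/-- evaluation at `1` on the base group -/
def ev (D Q : Type*) [Group D] [Group Q] : (rightHom (D := D) (Q := Q)).ker →* D where
  toFun w := w.1.left 1
  map_one' := rfl
  map_mul' a b := by
    have h : (a : D ≀ᵣ Q).right = 1 := a.2
    change (a.1 * b.1).left 1 = a.1.left 1 * b.1.left 1
    rw [RegularWreathProduct.mul_left, Pi.mul_apply, h, inv_one, one_mul]

open RegularWreathProduct in
theorem wreath (D Q : Type*) [Group D] [CommGroup Q] [Nontrivial Q] (j : ℕ) :
    derivedSeries D j ≤ ((derivedSeries (D ≀ᵣ Q) (j + 1)).subgroupOf (rightHom (D := D) (Q := Q)).ker).map (ev D Q) := by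
  classical
  induction j with
  | zero =>
    intro d _
    obtain ⟨q, hq⟩ := exists_ne (1 : Q)
    let f : D ≀ᵣ Q := ⟨Pi.mulSingle 1 d, 1⟩
    let t : D ≀ᵣ Q := ⟨1, q⟩
    have hker : ⁅f, t⁆ ∈ (rightHom (D := D) (Q := Q)).ker := by
      rw [MonoidHom.mem_ker, map_commutatorElement, commutatorElement_eq_one_iff_mul_comm]
      exact mul_comm _ _
    refine ⟨⟨⁅f, t⁆, hker⟩, ?_, ?_⟩
    · change ⁅f, t⁆ ∈ derivedSeries (D ≀ᵣ Q) 1
      rw [derivedSeries_one]
      exact Subgroup.commutator_mem_commutator (mem_top f) (mem_top t)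
    · change (⁅f, t⁆ : D ≀ᵣ Q).left 1 = d
      rw [commutatorElement_def]
      simp only [RegularWreathProduct.mul_left, RegularWreathProduct.mul_right, RegularWreathProduct.inv_left,
        RegularWreathProduct.inv_right, Pi.mul_apply, f, t, Pi.one_apply, inv_one, one_mul, mul_one, Pi.inv_apply,
        Pi.mulSingle_eq_same]
      have h1 : (Pi.mulSingle (1 : Q) d : Q → D) q⁻¹ = 1 := by
        apply Pi.mulSingle_eq_of_ne
        rw [Ne, inv_eq_one]; exact hq
      rw [h1, inv_one, mul_one]
  | succ j ih =>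
    rw [derivedSeries_succ, Subgroup.commutator_le]
    intro a ha b hb
    obtain ⟨wa, hwa, rfl⟩ := ih ha
    obtain ⟨wb, hwb, rfl⟩ := ih hb
    refine ⟨⁅wa, wb⁆, ?_, map_commutatorElement _ _ _⟩
    change ((⁅wa, wb⁆ : (rightHom (D := D) (Q := Q)).ker) : D ≀ᵣ Q) ∈ derivedSeries (D ≀ᵣ Q) (j + 2)
    rw [derivedSeries_succ]
    exact Subgroup.commutator_mem_commutator hwa hwb

theorem exists_wreath (p : ℕ) [hp : Fact p.Prime] (j : ℕ) : ∃ (D : Type) (_ : Group D) (_ : Finite D) (X : Type) (_ : Finite X) (_ : Nonempty X)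
    (_ : MulAction D X) (_ : FaithfulSMul D X), Nat.card X = p ^ (j + 1) ∧ IsPGroup p D ∧ derivedSeries D j ≠ ⊥ := by
  have hQ : Nat.card (Multiplicative (ZMod p)) = p := by
    rw [Nat.card_congr Multiplicative.toAdd]; exact Nat.card_zmod p
  haveI : Fact (1 < p) := ⟨hp.out.one_lt⟩
  haveI : Nontrivial (Multiplicative (ZMod p)) := inferInstance
  induction j with
  | zero =>
    refine ⟨Multiplicative (ZMod p), inferInstance, inferInstance, Multiplicative (ZMod p), inferInstance, inferInstance, inferInstance,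
      inferInstance, by rw [hQ]; simp, IsPGroup.of_card (n := 1) (by rw [hQ, pow_one]), ?_⟩
    rw [derivedSeries_zero]
    exact top_ne_bot
  | succ j ih =>
    obtain ⟨D, iD, fD, X, fX, nX, aX, faX, hX, hD, hd⟩ := ih
    refine ⟨D ≀ᵣ Multiplicative (ZMod p), inferInstance, inferInstance, X × Multiplicative (ZMod p), inferInstance, inferInstance,
      inferInstance, inferInstance, ?_, ?_, ?_⟩
    · rw [Nat.card_prod, hX, hQ]; ring
    · obtain ⟨n, hn⟩ := IsPGroup.iff_card.1 hD
      apply IsPGroup.of_card (n := n * p + 1)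
      rw [RegularWreathProduct.card, hQ, hn, pow_succ, pow_mul]
    · intro h
      apply hd
      rw [eq_bot_iff]
      refine (wreath D (Multiplicative (ZMod p)) j).trans ?_
      rw [h, Subgroup.bot_subgroupOf, Subgroup.map_bot]


/-- Let p be a prime, n ≥ 1, and P a Sylow p-subgroup of the symmetric group on n letters. Then the derived length of P is exactly k = ⌊log_p n⌋ (the largest k with p^k ≤ n): the k-th derived subgroup of P is trivial and, when k ≥ 1, the (k−1)-st is not. -/
theorem result (p : ℕ) [Fact p.Prime] (n : ℕ) (hn : 1 ≤ n) (P : Sylow p (Equiv.Perm (Fin n))) : derivedSeries ↥(P : Subgroup (Equiv.Perm (Fin n))) (Nat.log p n) = ⊥ ∧ (1 ≤ Nat.log p n → derivedSeries ↥(P : Subgroup (Equiv.Perm (Fin n))) (Nat.log p n - 1) ≠ ⊥) := by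

  classical
  constructor
  · rw [eq_bot_iff]
    intro g hg
    rw [mem_bot]
    apply Subtype.ext
    apply Equiv.ext
    intro x
    have h1 : derivedSeries P (Nat.log p n) ≤ MulAction.stabilizer P x := by
      have h2 : (MulAction.stabilizer P x).index ∣ Nat.card P := (MulAction.stabilizer P x).index_dvd_card
      obtain ⟨m, hm⟩ := IsPGroup.iff_card.1 P.2
      rw [hm] at h2
      obtain ⟨j, -, hj⟩ := (Nat.dvd_prime_pow (Fact.out : p.Prime)).1 h2
      have h3 : (MulAction.stabilizer P x).index ≤ n := by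
        rw [MulAction.index_stabilizer]
        have h4 := Set.ncard_le_card (MulAction.orbit P x)
        rwa [Nat.card_eq_fintype_card, Fintype.card_fin] at h4
      have h5 : j ≤ Nat.log p n := by
        rw [hj] at h3
        exact Nat.le_log_of_pow_le (Fact.out : p.Prime).one_lt h3
      exact (derivedSeries_antitone _ h5).trans (derived_le j P _ P.2 hj)
    exact h1 hg
  · intro hk
    obtain ⟨j, hj⟩ : ∃ j, Nat.log p n = j + 1 := ⟨Nat.log p n - 1, by omega⟩
    rw [hj, Nat.add_sub_cancel]
    obtain ⟨D, iD, fD, X, fX, nX, aX, faX, hX, hD, hd⟩ := exists_wreath p j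
    have hXn : Nat.card X ≤ n := by
      rw [hX, ← hj]
      exact Nat.pow_log_le_self p (by omega)
    letI := Fintype.ofFinite X
    obtain ⟨ι⟩ : Nonempty (X ↪ Fin n) := by
      rw [Function.Embedding.nonempty_iff_card_le, Fintype.card_fin, ← Nat.card_eq_fintype_card]
      exact hXn
    let φ : D →* Equiv.Perm (Fin n) := (Equiv.Perm.viaEmbeddingHom ι).comp (MulAction.toPermHom D X)
    have hφ : Function.Injective φ := (Equiv.Perm.viaEmbeddingHom_injective ι).comp MulAction.toPerm_injective
    have hrp : IsPGroup p φ.range := IsPGroup.of_surjective hD φ.rangeRestrict φ.rangeRestrict_surjective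
    obtain ⟨Q, hQ⟩ := hrp.exists_le_sylow
    let ψ : D →* (Q : Subgroup (Equiv.Perm (Fin n))) := φ.codRestrict _ (fun d => hQ ⟨d, rfl⟩)
    have hψ : Function.Injective ψ := by
      intro a b hab
      exact hφ (congrArg Subtype.val hab)
    let e : (Q : Subgroup (Equiv.Perm (Fin n))) ≃* (P : Subgroup (Equiv.Perm (Fin n))) := Sylow.equiv Q P
    intro h
    apply hd
    have h1 : (derivedSeries D j).map (e.toMonoidHom.comp ψ) ≤ ⊥ := by
      rw [← h]
      exact map_derivedSeries_le_derivedSeries _ _
    rw [eq_bot_iff]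
    intro d hdd
    have h2 : (e.toMonoidHom.comp ψ) d ∈ (⊥ : Subgroup _) := h1 ⟨d, hdd, rfl⟩
    rw [mem_bot] at h2 ⊢
    apply hψ
    apply e.injective
    rw [map_one, map_one]
    exact h2


end Cfsg.Agent.S4014
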