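import Cfsg.Statements.S4029
import Cfsg.Agent.H10_AbChar
import Cfsg.Agent.H3_CharCalc
import Cfsg.Agent.H2_PGroup
import Cfsg.Agent.H24_Tools
import Cfsg.Agent.H26_FSOdd

set_option autoImplicit false
open Cfsg

namespace Cfsg.Agent.S4029

open Subgroup
open scoped ComplexConjugate commutatorElement
open Cfsg.Agent.H3.CharIrr Cfsg.Agent.H3.CharComplete Cfsg.Agent.H3.CharInd Cfsg.Agent.H26.Basic

theorem le_real {P : Type*} [Group P] [Fintype P] (hP : IsPGroup 2 P) :
    Nat.card (P ⧸ frattini P) ≤ Nat.card {χ : IrrCharacter P // ∀ g, conj ((χ : P → ℂ) g) = (χ : P → ℂ) g} := by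
  classical
  haveI := Fintype.ofFinite (P ⧸ frattini P)
  have hab : ∀ a b : P ⧸ frattini P, a * b = b * a := by
    intro a b
    obtain ⟨a, rfl⟩ := QuotientGroup.mk'_surjective (frattini P) a
    obtain ⟨b, rfl⟩ := QuotientGroup.mk'_surjective (frattini P) b
    rw [← map_mul, ← map_mul]
    apply (QuotientGroup.eq).2
    have : (a * b)⁻¹ * (b * a) = ⁅b⁻¹, a⁻¹⁆ := by rw [commutatorElement_def]; group
    rw [this]
    exact H2.PGroup.commutator_le_frattini hP (commutator_mem_commutator (mem_top _) (mem_top _))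
  have hsq : ∀ a : P ⧸ frattini P, a * a = 1 := by
    intro a
    obtain ⟨a, rfl⟩ := QuotientGroup.mk'_surjective (frattini P) a
    rw [← map_mul, ← pow_two]
    haveI : Fact (Nat.Prime 2) := ⟨Nat.prime_two⟩
    exact (QuotientGroup.eq_one_iff _).2 (H2.PGroup.pow_mem_frattini hP a)
  rw [← H10.AbChar.card_irr_comm hab]
  let toHom : IrrCharacter (P ⧸ frattini P) → (P →* ℂ) := fun l =>
    { toFun := fun g => (l : P ⧸ frattini P → ℂ) (g : P ⧸ frattini P)
      map_one' := H10.AbChar.lin_one hab l
      map_mul' := fun a b => H10.AbChar.lin_mul hab l (a : P ⧸ frattini P) (b : P ⧸ frattini P) }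
  have hval : ∀ (l : IrrCharacter (P ⧸ frattini P)) (g : P), conj (toHom l g) = toHom l g := by
    intro l g
    have h1 : toHom l g * toHom l g = 1 := by
      change (l : P ⧸ frattini P → ℂ) (g : P ⧸ frattini P) * (l : P ⧸ frattini P → ℂ) (g : P ⧸ frattini P) = 1
      rw [← H10.AbChar.lin_mul hab, hsq, H10.AbChar.lin_one hab]
    rcases mul_self_eq_one_iff.1 h1 with h | h <;> rw [h] <;> simp
  let f : IrrCharacter (P ⧸ frattini P) → {χ : IrrCharacter P // ∀ g, conj ((χ : P → ℂ) g) = (χ : P → ℂ) g} :=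
    fun l => ⟨⟨fun g => toHom l g, isIrr_of_hom (toHom l)⟩, fun g => hval l g⟩
  apply Nat.card_le_card_of_injective f
  intro l m h
  apply Subtype.ext
  funext a
  obtain ⟨a, rfl⟩ := QuotientGroup.mk'_surjective (frattini P) a
  exact congrFun (congrArg (fun x => x.1.1) h) a

theorem real_card {P : Type*} [Group P] [Fintype P] :
    Nat.card {χ : IrrCharacter P // ∀ g, conj ((χ : P → ℂ) g) = (χ : P → ℂ) g} =
      Nat.card {C : ConjClasses P // ∃ x, ConjClasses.mk x = C ∧ IsConj x x⁻¹} := by
  classical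
  let π : IrrCharacter P → IrrCharacter P := fun χ => ⟨fun g => conj ((χ : P → ℂ) g), IsIrr.conj χ.2⟩
  let τ : ConjClasses P → ConjClasses P := fun C => Quotient.map (fun x : P => x⁻¹) (fun a b h => by
    obtain ⟨c, hc⟩ := isConj_iff.1 h
    exact isConj_iff.2 ⟨c, by rw [← hc]; group⟩) C
  have hτ : ∀ x : P, τ (ConjClasses.mk x) = ConjClasses.mk x⁻¹ := fun _ => rfl
  have h1 := Cfsg.Agent.H3.CharCalc.brauer_perm π τ (by
    intro χ g g' h
    rw [hτ] at h
    have h2 : (π χ : P → ℂ) g' = (π χ : P → ℂ) g⁻¹ :=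
      IsClass.eq_of_isConj (IsIrr.isClass (π χ).2) (ConjClasses.mk_eq_mk_iff_isConj.1 h)
    rw [h2]
    show conj ((χ : P → ℂ) g⁻¹) = _
    rw [inv_eq, Complex.conj_conj])
  have h2 : Nat.card {χ : IrrCharacter P // ∀ g, conj ((χ : P → ℂ) g) = (χ : P → ℂ) g} =
      Nat.card {χ : IrrCharacter P // π χ = χ} := by
    apply Nat.card_congr
    apply Equiv.subtypeEquivRight
    intro χ
    constructor
    · intro h
      exact Subtype.ext (funext h)
    · intro h g
      exact congrFun (congrArg Subtype.val h) g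
  rw [h2, h1]
  apply Nat.card_congr
  apply Equiv.subtypeEquivRight
  intro C
  constructor
  · intro h
    obtain ⟨x, rfl⟩ := ConjClasses.mk_surjective C
    rw [hτ, ConjClasses.mk_eq_mk_iff_isConj] at h
    exact ⟨x, rfl, h.symm⟩
  · rintro ⟨x, rfl, h⟩
    rw [hτ, ConjClasses.mk_eq_mk_iff_isConj]
    exact h.symm

/-- Let P be a finite 2-group in which N_P(⟨y⟩) = C_P(y) for every y ∈ P. If s is the number of conjugacy classes of involutions of P, then #(P/Φ(P)) ≤ s + 1; in particular the subgroup generated by the involutions of P has order at least #(P/Φ(P)). -/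
theorem result {P : Type*} [Group P] [Finite P] (hP : IsPGroup 2 P)
    (hirr : ∀ y : P, Subgroup.normalizer ((Subgroup.zpowers y : Subgroup P) : Set P) ≤ Subgroup.centralizer {y}) :
    Nat.card (P ⧸ frattini P) ≤ Nat.card {c : ConjClasses P // ∃ y : P, ConjClasses.mk y = c ∧ orderOf y = 2} + 1 ∧
    Nat.card (P ⧸ frattini P) ≤ Nat.card (Subgroup.closure {y : P | orderOf y = 2}) := by

  classical
  haveI := Fintype.ofFinite P
  have hreal : ∀ x : P, IsConj x x⁻¹ → x = 1 ∨ orderOf x = 2 := by
    intro x hx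
    obtain ⟨g, hg⟩ := isConj_iff.1 hx
    have h1 : g ∈ normalizer ((zpowers x : Subgroup P) : Set P) := by
      apply H24.Tools.mem_normalizer
      rintro _ ⟨k, rfl⟩
      refine ⟨-k, ?_⟩
      change x ^ (-k) = g * x ^ k * g⁻¹
      rw [← conj_zpow, hg, inv_zpow, zpow_neg]
    have h2 := mem_centralizer_singleton_iff.1 (hirr x h1)
    have h3 : x⁻¹ = x := by rw [← hg, h2, mul_inv_cancel_right]
    have h4 : x ^ 2 = 1 := by rw [pow_two]; nth_rewrite 1 [← h3]; exact inv_mul_cancel x
    rcases eq_or_ne x 1 with h | h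
    · exact Or.inl h
    · exact Or.inr (orderOf_eq_prime h4 h)
  have h0 := le_real hP
  rw [real_card] at h0
  let f : {C : ConjClasses P // ∃ x, ConjClasses.mk x = C ∧ IsConj x x⁻¹} →
      Option {c : ConjClasses P // ∃ y : P, ConjClasses.mk y = c ∧ orderOf y = 2} := fun C =>
    if h : ∃ y : P, ConjClasses.mk y = C.1 ∧ orderOf y = 2 then some ⟨C.1, h⟩ else none
  have hf : Function.Injective f := by
    intro C D h
    have hC : ∀ C : {C : ConjClasses P // ∃ x, ConjClasses.mk x = C ∧ IsConj x x⁻¹},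
        (¬ ∃ y : P, ConjClasses.mk y = C.1 ∧ orderOf y = 2) → C.1 = ConjClasses.mk 1 := by
      rintro ⟨C, x, rfl, hx⟩ hn
      rcases hreal x hx with rfl | h2
      · rfl
      · exact absurd ⟨x, rfl, h2⟩ hn
    simp only [f] at h
    split_ifs at h with h1 h2 h2
    · have h3 := Option.some.inj h
      exact Subtype.ext (Subtype.mk.inj h3)
    · exact Subtype.ext ((hC C h1).trans (hC D h2).symm)
  have h1 := Nat.card_le_card_of_injective f hf
  rw [Finite.card_option] at h1
  refine ⟨h0.trans h1, (h0.trans h1).trans ?_⟩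
  let g : Option {c : ConjClasses P // ∃ y : P, ConjClasses.mk y = c ∧ orderOf y = 2} →
      Subgroup.closure {y : P | orderOf y = 2} := fun o => match o with
    | none => 1
    | some c => ⟨c.2.choose, subset_closure c.2.choose_spec.2⟩
  have hg : Function.Injective g := by
    rintro (_ | c) (_ | d) h
    · rfl
    · exfalso
      have h2 : (1 : P) = d.2.choose := congrArg Subtype.val h
      have h3 := d.2.choose_spec.2
      rw [← h2, orderOf_one] at h3
      omega
    · exfalso
      have h2 : c.2.choose = (1 : P) := congrArg Subtype.val h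
      have h3 := c.2.choose_spec.2
      rw [h2, orderOf_one] at h3
      omega
    · have h2 : c.2.choose = d.2.choose := congrArg Subtype.val h
      congr 1
      apply Subtype.ext
      rw [← c.2.choose_spec.1, ← d.2.choose_spec.1, h2]
  have h2 := Nat.card_le_card_of_injective g hg
  rw [Finite.card_option] at h2
  exact h2


end Cfsg.Agent.S4029
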