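import Cfsg.Statements.S4040
import Cfsg.Agent.H23_NilMax
import Cfsg.Agent.H2_ZJ2
import Cfsg.Agent.H2_Fusion4


set_option autoImplicit false
open Cfsg

namespace Cfsg.Agent.S4040

open Subgroup
open Cfsg.Agent.H17.Base

universe u


/-- A finite group possessing a maximal subgroup that is nilpotent of odd order is solvable. -/
theorem result {G : Type*} [Group G] [Finite G]
    (M : Subgroup G) (hmax : IsCoatom M) (hnil : Group.IsNilpotent M) (hodd : Odd (Nat.card M)) :
    Group.IsSolvable G := by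

  refine H23.NilMax.main _ (fun G _ M => Odd (Nat.card M)) ?_ ?_ G M rfl hmax hnil hodd
  · intro G _ _ N _ M _ h
    have h1 : Nat.card (M.map (QuotientGroup.mk' N)) ∣ Nat.card M := Subgroup.card_map_dvd M _
    exact h.of_dvd_nat h1
  · intro G _ _ M hmax hnil hcore h q hq hqM
    haveI : Fact q.Prime := ⟨hq⟩
    have hq2 : q ≠ 2 := by
      rintro rfl
      exact (Nat.not_even_iff_odd.2 h) (even_iff_two_dvd.2 hqM)
    have hS := H23.NilMax.syl_top hmax hcore hnil hqM
    set S := H23.NilMax.Syl M q with hSdef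
    have hSM : S ≤ M := H23.NilMax.syl_in.1
    have h1 : Nz (H12.ZJ.ZJJ 0 S) = M := H23.NilMax.nz_eq hmax hcore ((H12.ZJ.ZJJ_le 0 S).trans hSM)
      (H2.ZJ2.ZJJ_ne_bot (dvd_zero q) hS.2.1 (H23.NilMax.syl_ne hqM))
      ((H23.NilMax.syl_normal hnil).trans (H12.ZJ.normalizer_le_ZJJ 0 S))
    apply H2.ZJ2.npc_of_zjj hq2 (Or.inl rfl) hS.toSylowTop
    change Cfsg.HasNormalPComplement q (Nz (H12.ZJ.ZJJ 0 S))
    rw [h1]
    haveI := hnil
    exact H2.Fusion4.npc_of_nilpotent


end Cfsg.Agent.S4040
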