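import Cfsg.Statements.S4064
import Cfsg.Agent.H19_TI6
import Cfsg.Agent.S1476

set_option autoImplicit false
open Cfsg

namespace Cfsg.Agent.S4064

open Cfsg.Agent.H19.TIC

theorem not_threeStep {G : Type*} [Group G] [Finite G] (h : TC G) {p : ℕ} (hp : p.Prime) (h3 : Cfsg.IsThreeStepGroup p G) : False := by
  haveI : Fact p.Prime := ⟨hp⟩
  obtain ⟨hP, A, -, -, -, -, -, htop, ⟨n, hn⟩, -, -⟩ := h3
  obtain ⟨S⟩ : Nonempty (Sylow p G) := inferInstance
  have hPS : pCore p G ≤ (S : Subgroup G) := by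
    obtain ⟨R, hR⟩ := (Cfsg.Agent.H11.Cores.pCore_isPGroup (G := G) (p := p)).exists_le_sylow
    obtain ⟨a, ha⟩ := MulAction.exists_smul_eq G R S
    intro x hx
    rw [← ha, Cfsg.Agent.H4.Util.mem_smul_sylow]
    apply hR
    have := (inferInstance : (pCore p G).Normal).conj_mem x hx a⁻¹
    rwa [inv_inv] at this
  haveI : Group.IsNilpotent (S : Subgroup G) := S.isPGroup'.isNilpotent
  let N : Subgroup (S : Subgroup G) := (pCore p G).subgroupOf S
  haveI : N.Normal := inferInstance
  have hN : N ≠ ⊥ := by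
    intro h0
    apply hP
    rw [eq_bot_iff]
    intro x hx
    have : (⟨x, hPS hx⟩ : (S : Subgroup G)) ∈ N := hx
    rw [h0, Subgroup.mem_bot] at this
    exact Subgroup.mem_bot.2 (congrArg Subtype.val this)
  obtain ⟨⟨w, hw⟩, hw1⟩ := (Subgroup.ne_bot_iff_exists_ne_one).1 (Cfsg.Agent.H1.Nilp.normal_inf_center_ne_bot N hN)
  have hw1' : (w : G) ≠ 1 := fun h0 => hw1 (Subtype.ext (Subtype.ext h0))
  have hwS : ∀ s ∈ (S : Subgroup G), Commute s (w : G) := fun s hs =>
    congrArg Subtype.val (Subgroup.mem_center_iff.1 hw.2 ⟨s, hs⟩)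
  have hwP : (w : G) ∈ pCore p G := hw.1
  have hn2 : ∀ g c : G, Commute c (w : G) → Commute (g * c * g⁻¹) w := fun g c hc =>
    h.conj_cent (N := pCore p G) inferInstance hw1' hwP (fun n hn => hwS n (hPS hn)) g c hc
  have hSn : ∀ g : G, g • S = S := by
    intro g
    apply sylow_unique (h.cn hw1')
    · intro x hx
      rw [Cfsg.Agent.H4.Util.mem_smul_sylow] at hx
      rw [Subgroup.mem_centralizer_singleton_iff]
      have := hn2 g _ (hwS _ hx)
      have e : g * (g⁻¹ * x * g) * g⁻¹ = x := by group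
      rw [e] at this
      exact this.eq
    · intro x hx
      rw [Subgroup.mem_centralizer_singleton_iff]
      exact (hwS x hx).eq
  have hSn' : (S : Subgroup G).Normal := by
    refine ⟨fun n hn g => ?_⟩
    have : g * n * g⁻¹ ∈ ((g • S : Sylow p G) : Subgroup G) := by
      rw [Cfsg.Agent.H4.Util.mem_smul_sylow]
      have e : g⁻¹ * (g * n * g⁻¹) * g = n := by group
      rw [e]; exact hn
    rw [hSn g] at this
    exact this
  have hle : (S : Subgroup G) ≤ pCore p G ⊔ A := le_trans (Cfsg.Agent.H11.Cores.le_pCore p (N := (S : Subgroup G)) S.isPGroup') le_sup_left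
  apply htop
  rw [← Subgroup.index_eq_one, hn]
  rcases Nat.eq_zero_or_pos n with h0 | h0
  · rw [h0, pow_zero]
  · exfalso
    apply S.not_dvd_index
    rw [← Subgroup.relIndex_mul_index hle, hn]
    exact Dvd.dvd.mul_left (dvd_pow_self p h0.ne') _

theorem quat_le {n : ℕ} (h : TC (QuaternionGroup (2 ^ n))) : n ≤ 1 := by
  haveI : NeZero (2 ^ n) := ⟨by positivity⟩
  have h1 := h (QuaternionGroup.xa 0) (QuaternionGroup.a 1) (QuaternionGroup.a ((2 ^ n : ℕ) : ZMod (2 * 2 ^ n))) (by
    intro h0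
    rw [QuaternionGroup.one_def] at h0
    have h2 := QuaternionGroup.a.inj h0
    rw [ZMod.natCast_eq_zero_iff] at h2
    have := Nat.le_of_dvd (by positivity) h2
    have : 0 < 2 ^ n := by positivity
    omega) (by
    change QuaternionGroup.a _ * QuaternionGroup.xa 0 = QuaternionGroup.xa 0 * QuaternionGroup.a _
    rw [QuaternionGroup.a_mul_xa, QuaternionGroup.xa_mul_a]
    congr 1
    rw [zero_sub, zero_add, neg_eq_iff_add_eq_zero, ← Nat.cast_add, ZMod.natCast_eq_zero_iff]
    exact ⟨1, by ring⟩) (by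
    have e : (QuaternionGroup.a 1 : QuaternionGroup (2 ^ n)) * QuaternionGroup.a ((2 ^ n : ℕ) : ZMod (2 * 2 ^ n)) * (QuaternionGroup.a 1)⁻¹ =
        QuaternionGroup.a ((2 ^ n : ℕ) : ZMod (2 * 2 ^ n)) := by
      rw [mul_inv_eq_iff_eq_mul, QuaternionGroup.a_mul_a, QuaternionGroup.a_mul_a, add_comm]
    rw [e]
    change QuaternionGroup.a _ * QuaternionGroup.xa 0 = QuaternionGroup.xa 0 * QuaternionGroup.a _
    rw [QuaternionGroup.a_mul_xa, QuaternionGroup.xa_mul_a]
    congr 1
    rw [zero_sub, zero_add, neg_eq_iff_add_eq_zero, ← Nat.cast_add, ZMod.natCast_eq_zero_iff]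
    exact ⟨1, by ring⟩) (QuaternionGroup.xa 0) (Commute.refl _)
  have e2 : (QuaternionGroup.a 1 : QuaternionGroup (2 ^ n)) * QuaternionGroup.xa 0 * (QuaternionGroup.a 1)⁻¹ = QuaternionGroup.xa (-2) := by
    rw [mul_inv_eq_iff_eq_mul, QuaternionGroup.a_mul_xa, QuaternionGroup.xa_mul_a]
    congr 1
    ring
  rw [e2] at h1
  have h2 := h1.eq
  rw [QuaternionGroup.xa_mul_xa, QuaternionGroup.xa_mul_xa] at h2
  have h3 := QuaternionGroup.a.inj h2
  have h4 : ((4 : ℕ) : ZMod (2 * 2 ^ n)) = 0 := by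
    have h5 : (((2 ^ n : ℕ) : ZMod (2 * 2 ^ n)) + 0 - -2) - (((2 ^ n : ℕ) : ZMod (2 * 2 ^ n)) + -2 - 0) = 0 := by
      rw [h3, sub_self]
    calc ((4 : ℕ) : ZMod (2 * 2 ^ n)) = (((2 ^ n : ℕ) : ZMod (2 * 2 ^ n)) + 0 - -2) - (((2 ^ n : ℕ) : ZMod (2 * 2 ^ n)) + -2 - 0) := by
          push_cast; ring
      _ = 0 := h5
  rw [ZMod.natCast_eq_zero_iff, ← pow_succ'] at h4
  have h5 : 2 ^ (n + 1) ∣ 2 ^ 2 := by simpa using h4
  have := (Nat.pow_dvd_pow_iff_le_right (by norm_num : 1 < 2)).1 h5
  omega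

theorem prod_equiv {G : Type*} [Group G] {C Q : Subgroup G} (hc : ∀ a ∈ C, ∀ b ∈ Q, a * b = b * a) (hd : C ⊓ Q = ⊥) :
    Nonempty (C × Q ≃* (C ⊔ Q : Subgroup G)) := by
  have hcomm : ∀ (m : C) (n : Q), Commute (C.subtype m) (Q.subtype n) := fun m n => hc m m.2 n n.2
  let f : C × Q →* G := MonoidHom.noncommCoprod C.subtype Q.subtype hcomm
  have hf : Function.Injective f := by
    rw [injective_iff_map_eq_one]
    rintro ⟨a, b⟩ hab
    have h1 : (a : G) * b = 1 := hab
    have h2' : (a : G) ∈ Q := by rw [eq_inv_of_mul_eq_one_left h1]; exact inv_mem b.2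
    have h2 : (a : G) ∈ C ⊓ Q := ⟨a.2, h2'⟩
    rw [hd, Subgroup.mem_bot] at h2
    rw [h2, one_mul] at h1
    exact Prod.ext (Subtype.ext h2) (Subtype.ext h1)
  have hr : f.range = C ⊔ Q := by
    apply le_antisymm
    · rintro _ ⟨⟨a, b⟩, rfl⟩
      exact mul_mem (Subgroup.mem_sup_left a.2) (Subgroup.mem_sup_right b.2)
    · rw [sup_le_iff]
      exact ⟨fun a ha => ⟨(⟨a, ha⟩, 1), by change a * 1 = a; rw [mul_one]⟩, fun b hb => ⟨(1, ⟨b, hb⟩), by change 1 * b = b; rw [one_mul]⟩⟩
  exact ⟨(MonoidHom.ofInjective hf).trans (MulEquiv.subgroupCongr hr)⟩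

/-- Let G be a finite group in which the centralizer of every element meets each of its conjugates by elements outside its normalizer trivially. Then G is nilpotent; or G is a Frobenius group with a complement that is cyclic or isomorphic to the direct product of a cyclic group of odd order and the quaternion group of order 8; or G is isomorphic to PSL₂(2ⁿ) for some n ≥ 2. -/
theorem result {G : Type*} [Group G] [Finite G] (hTI : ∀ x : G, Cfsg.IsTISubset (Subgroup.centralizer ({x} : Set G) : Set G)) :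
    Group.IsNilpotent G ∨
    (∃ H : Subgroup G, Cfsg.IsFrobeniusComplement H ∧
      (IsCyclic H ∨ ∃ m : ℕ, Odd m ∧ Nonempty (H ≃* Multiplicative (ZMod m) × QuaternionGroup 2))) ∨
    (∃ n : ℕ, 2 ≤ n ∧ Nonempty (G ≃* Matrix.ProjectiveSpecialLinearGroup (Fin 2) (GaloisField 2 n))) := by
  classical
  have h := TC.of hTI
  by_cases hF : Cfsg.fittingSubgroup G = ⊥
  · rcases subsingleton_or_nontrivial G with hs | hn
    · left; infer_instance
    · right; right
      exact psl_of_fit h hF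
  · haveI := solvable_of_fit h hF
    rcases S1476.result h.isCN with h1 | ⟨K, E, -, -, hE, hE2⟩ | ⟨p, hp, h3⟩
    · exact Or.inl h1
    · right; left
      refine ⟨E, hE, ?_⟩
      rcases hE2 with hE2 | ⟨C, Q, hCQ, hc, hCc, hCo, n, ⟨e⟩⟩
      · exact Or.inl hE2
      · have hn : n ≤ 1 := by
          apply quat_le
          exact h.comap (Q.subtype.comp e.symm.toMonoidHom) (Q.subtype_injective.comp e.symm.injective)
        haveI : NeZero (2 ^ n) := ⟨by positivity⟩
        have hcQ : Nat.card Q = 4 * 2 ^ n := by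
          rw [Nat.card_congr e.toEquiv, Nat.card_eq_fintype_card, QuaternionGroup.card]
        have hcop : (Nat.card C).Coprime (Nat.card Q) := by
          rw [hcQ, show 4 * 2 ^ n = 2 ^ (n + 2) by ring]
          exact Nat.Coprime.pow_right _ (Nat.coprime_two_right.2 hCo)
        have hd : C ⊓ Q = ⊥ := Subgroup.inf_eq_bot_of_coprime hcop
        obtain ⟨e2⟩ := prod_equiv hc hd
        rw [hCQ] at e2
        haveI := hCc
        interval_cases n
        · left
          haveI : IsCyclic (QuaternionGroup (2 ^ 0)) := QuaternionGroup.quaternionGroup_one_isCyclic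
          haveI : IsCyclic Q := isCyclic_of_surjective e.symm e.symm.surjective
          haveI : IsCyclic (C × Q) := by
            rw [Group.isCyclic_prod_iff]
            exact ⟨inferInstance, inferInstance, hcop⟩
          exact isCyclic_of_surjective e2 e2.surjective
        · right
          refine ⟨Nat.card C, hCo, ⟨e2.symm.trans (MulEquiv.prodCongr ?_ (e.trans ?_))⟩⟩
          · exact (zmodCyclicMulEquiv hCc).symm
          · exact MulEquiv.refl _
    · exact absurd (not_threeStep h hp h3) id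

end Cfsg.Agent.S4064
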