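import Cfsg.Statements.S4068
import Mathlib
import Cfsg.Agent.H3_Burnside
import Cfsg.Agent.H5_SmallIso
import Cfsg.Agent.H11_Cores
import Cfsg.Agent.S0183
import Cfsg.Agent.S1230
import Cfsg.Agent.H21_SpecPSL2

set_option autoImplicit false
open Cfsg

namespace Cfsg.Agent.S4068

open Subgroup

theorem three_primes (X : Type*) [Group X] [Finite X] (h : ¬ Group.IsSolvable X) :
    ∃ p q r : ℕ, p.Prime ∧ q.Prime ∧ r.Prime ∧ p ≠ q ∧ q ≠ r ∧ p ≠ r ∧ p ∣ Nat.card X ∧ q ∣ Nat.card X ∧ r ∣ Nat.card X := by
  classical
  have hc : 2 < (Nat.card X).primeFactors.card := by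
    by_contra hcon
    push Not at hcon
    obtain ⟨a, b, hab⟩ : ∃ p q : ℕ, p.Prime ∧ q.Prime ∧ (Nat.card X).primeFactors ⊆ {p, q} := by
      rcases Nat.lt_or_ge (Nat.card X).primeFactors.card 1 with h0 | h1
      · have : (Nat.card X).primeFactors = ∅ := Finset.card_eq_zero.1 (by omega)
        exact ⟨2, 3, Nat.prime_two, Nat.prime_three, by rw [this]; simp⟩
      · rcases Nat.lt_or_ge (Nat.card X).primeFactors.card 2 with h0 | h2
        · obtain ⟨a, ha⟩ := Finset.card_eq_one.1 (show (Nat.card X).primeFactors.card = 1 by omega)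
          have hap : a.Prime := Nat.prime_of_mem_primeFactors (n := Nat.card X) (by rw [ha]; simp)
          exact ⟨a, a, hap, hap, by rw [ha]; simp⟩
        · obtain ⟨a, b, hab, he⟩ := Finset.card_eq_two.1 (show (Nat.card X).primeFactors.card = 2 by omega)
          exact ⟨a, b, Nat.prime_of_mem_primeFactors (n := Nat.card X) (by rw [he]; simp),
            Nat.prime_of_mem_primeFactors (n := Nat.card X) (by rw [he]; simp), by rw [he]⟩
    obtain ⟨ha, hb, hs⟩ := hab
    apply h
    rcases eq_or_ne a b with rfl | hne
    · refine Cfsg.Agent.H3.Burnside.burnside _ X a a ((Nat.card X).factorization a) 0 ha ha rfl ?_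
      conv_lhs => rw [← Nat.prod_factorization_pow_eq_self (n := Nat.card X) Nat.card_pos.ne']
      rw [Finsupp.prod_of_support_subset _ (s := {a}) (by simpa using hs) _ (by simp)]
      simp
    · refine Cfsg.Agent.H3.Burnside.burnside _ X a b ((Nat.card X).factorization a) ((Nat.card X).factorization b) ha hb rfl ?_
      conv_lhs => rw [← Nat.prod_factorization_pow_eq_self (n := Nat.card X) Nat.card_pos.ne']
      rw [Finsupp.prod_of_support_subset _ (s := {a, b}) (by simpa using hs) _ (by simp)]
      rw [Finset.prod_pair hne]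
  obtain ⟨p, q, r, hp, hq, hr, hpq, hpr, hqr⟩ := Finset.two_lt_card_iff.1 hc
  exact ⟨p, q, r, Nat.prime_of_mem_primeFactors hp, Nat.prime_of_mem_primeFactors hq, Nat.prime_of_mem_primeFactors hr,
    hpq, hqr, hpr, Nat.dvd_of_mem_primeFactors hp, Nat.dvd_of_mem_primeFactors hq, Nat.dvd_of_mem_primeFactors hr⟩

variable {G : Type*} [Group G] [Finite G]

theorem orders (hns : ¬ Group.IsSolvable G)
    (h4 : Nat.card (MulAction.orbitRel.Quotient (MulAut G) G) = 4) :
    ∃ p q r : ℕ, p.Prime ∧ q.Prime ∧ r.Prime ∧ (∀ x : G, x ≠ 1 → orderOf x = p ∨ orderOf x = q ∨ orderOf x = r) ∧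
      (∀ x y : G, orderOf x = orderOf y → ∃ φ : MulAut G, φ x = y) := by
  classical
  obtain ⟨p, q, r, hp, hq, hr, hpq, hqr, hpr, dp, dq, dr⟩ := three_primes G hns
  haveI := Fact.mk hp; haveI := Fact.mk hq; haveI := Fact.mk hr
  obtain ⟨a, ha⟩ := exists_prime_orderOf_dvd_card' p dp
  obtain ⟨b, hb⟩ := exists_prime_orderOf_dvd_card' q dq
  obtain ⟨c, hc⟩ := exists_prime_orderOf_dvd_card' r dr
  let O := MulAction.orbitRel.Quotient (MulAut G) G
  let π : G → O := fun x => Quotient.mk'' x
  have hπ : ∀ x y, π x = π y → ∃ φ : MulAut G, φ y = x := by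
    intro x y hxy
    have h1 : x ∈ MulAction.orbit (MulAut G) y := MulAction.orbitRel_apply.1 (Quotient.eq''.1 hxy)
    obtain ⟨φ, hφ⟩ := h1
    exact ⟨φ, hφ⟩
  have ho : ∀ x y, π x = π y → orderOf x = orderOf y := by
    intro x y hxy
    obtain ⟨φ, rfl⟩ := hπ x y hxy
    exact (MulEquiv.orderOf_eq φ y)
  haveI : Fintype O := Fintype.ofFinite O
  have hs : ({π 1, π a, π b, π c} : Finset O) = Finset.univ := by
    apply Finset.eq_univ_of_card
    rw [← Nat.card_eq_fintype_card, h4]
    have n1 : π 1 ≠ π a := fun h => by have := ho _ _ h; rw [orderOf_one, ha] at this; exact hp.one_lt.ne this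
    have n2 : π 1 ≠ π b := fun h => by have := ho _ _ h; rw [orderOf_one, hb] at this; exact hq.one_lt.ne this
    have n3 : π 1 ≠ π c := fun h => by have := ho _ _ h; rw [orderOf_one, hc] at this; exact hr.one_lt.ne this
    have n4 : π a ≠ π b := fun h => by have := ho _ _ h; rw [ha, hb] at this; exact hpq this
    have n5 : π a ≠ π c := fun h => by have := ho _ _ h; rw [ha, hc] at this; exact hpr this
    have n6 : π b ≠ π c := fun h => by have := ho _ _ h; rw [hb, hc] at this; exact hqr this
    rw [Finset.card_insert_of_notMem (by simp [n1, n2, n3]), Finset.card_insert_of_notMem (by simp [n4, n5]),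
      Finset.card_insert_of_notMem (by simp [n6]), Finset.card_singleton]
  have hcov : ∀ x : G, π x = π 1 ∨ π x = π a ∨ π x = π b ∨ π x = π c := by
    intro x
    have : π x ∈ ({π 1, π a, π b, π c} : Finset O) := by rw [hs]; exact Finset.mem_univ _
    simpa using this
  refine ⟨p, q, r, hp, hq, hr, ?_, ?_⟩
  · intro x hx
    rcases hcov x with h | h | h | h
    · exact absurd (orderOf_eq_one_iff.1 ((ho _ _ h).trans orderOf_one)) hx
    · exact Or.inl ((ho _ _ h).trans ha)
    · exact Or.inr (Or.inl ((ho _ _ h).trans hb))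
    · exact Or.inr (Or.inr ((ho _ _ h).trans hc))
  · intro x y hxy
    have key : π x = π y := by
      have e1 := orderOf_one (G := G)
      have l1 := hp.one_lt; have l2 := hq.one_lt; have l3 := hr.one_lt
      rcases hcov x with h | h | h | h <;> rcases hcov y with h' | h' | h' | h' <;>
        first
        | exact h.trans h'.symm
        | (exfalso; have u := ho _ _ h; have v := ho _ _ h'; omega)
    exact hπ y x key.symm

theorem simple_of (hns : ¬ Group.IsSolvable G) (p q r : ℕ) (hp : p.Prime) (hq : q.Prime) (hr : r.Prime)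
    (ho : ∀ x : G, x ≠ 1 → orderOf x = p ∨ orderOf x = q ∨ orderOf x = r)
    (htr : ∀ x y : G, orderOf x = orderOf y → ∃ φ : MulAut G, φ x = y) : IsSimpleGroup G := by
  classical
  have hprime : ∀ x : G, x ≠ 1 → (orderOf x).Prime := by
    intro x hx
    rcases ho x hx with h | h | h <;> rw [h] <;> assumption
  -- a characteristic subgroup containing an element of order l contains all
  have hmem : ∀ C : Subgroup G, C.Characteristic → ∀ x ∈ C, ∀ y : G, orderOf y = orderOf x → y ∈ C := by
    intro C hC x hx y hxy
    obtain ⟨φ, rfl⟩ := htr x y hxy.symm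
    have := Subgroup.characteristic_iff_map_eq.1 hC φ
    rw [← this]
    exact ⟨x, hx, rfl⟩
  have hthree : ∀ l m n : ℕ, l.Prime → m.Prime → n.Prime → l ≠ m → m ≠ n → l ≠ n →
      l ∣ Nat.card G → m ∣ Nat.card G → n ∣ Nat.card G → ∀ x : G, x ≠ 1 → orderOf x = l ∨ orderOf x = m ∨ orderOf x = n := by
    intro l m n hl hm hn h1 h2 h3 d1 d2 d3 x hx
    haveI := Fact.mk hl; haveI := Fact.mk hm; haveI := Fact.mk hn
    obtain ⟨a, ha⟩ := exists_prime_orderOf_dvd_card' l d1
    obtain ⟨b, hb⟩ := exists_prime_orderOf_dvd_card' m d2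
    obtain ⟨c, hc⟩ := exists_prime_orderOf_dvd_card' n d3
    have ea := ho a (fun h => by rw [h, orderOf_one] at ha; exact hl.one_lt.ne ha)
    have eb := ho b (fun h => by rw [h, orderOf_one] at hb; exact hm.one_lt.ne hb)
    have ec := ho c (fun h => by rw [h, orderOf_one] at hc; exact hn.one_lt.ne hc)
    have ex := ho x hx
    rw [ha] at ea; rw [hb] at eb; rw [hc] at ec
    omega
  have hchar : ∀ C : Subgroup G, C.Characteristic → C ≠ ⊥ → C = ⊤ := by
    intro C hC hbot
    by_cases hCs : Group.IsSolvable C
    · exfalso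
      haveI : C.Normal := inferInstance
      have hq : ¬ Group.IsSolvable (G ⧸ C) := by
        intro hQ
        exact hns (by
          haveI := hCs; haveI := hQ
          exact Group.isSolvable_of_ker_le_range (C.subtype) (QuotientGroup.mk' C) (by simp))
      obtain ⟨l, m, n, hl, hm, hn, h1, h2, h3, d1, d2, d3⟩ := three_primes _ hq
      have dd : ∀ k, k ∣ Nat.card (G ⧸ C) → k ∣ Nat.card G := fun k hk => hk.trans (Subgroup.card_quotient_dvd_card C)
      obtain ⟨z, hz0⟩ := Subgroup.ne_bot_iff_exists_ne_one.1 hbot
      have hzC : (z : G) ∈ C := z.2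
      have hz1 : (z : G) ≠ 1 := fun h => hz0 (Subtype.ext h)
      have hz := hthree l m n hl hm hn h1 h2 h3 (dd _ d1) (dd _ d2) (dd _ d3) z hz1
      have key : ∀ k : ℕ, k.Prime → k ∣ Nat.card (G ⧸ C) → orderOf (z : G) = k → False := by
        intro k hk dk hzk
        haveI := Fact.mk hk
        obtain ⟨y, hy⟩ := exists_prime_orderOf_dvd_card' k dk
        obtain ⟨x, rfl⟩ := QuotientGroup.mk_surjective y
        have hx1 : x ≠ 1 := by
          rintro rfl
          rw [QuotientGroup.mk_one, orderOf_one] at hy
          exact hk.one_lt.ne hy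
        have hd : k ∣ orderOf x := by
          rw [← hy]
          exact orderOf_map_dvd (QuotientGroup.mk' C) x
        have hxk : orderOf x = k := ((Nat.prime_dvd_prime_iff_eq hk (hprime x hx1)).1 hd).symm
        have hxC : x ∈ C := hmem C hC z hzC x (hxk.trans hzk.symm)
        rw [(QuotientGroup.eq_one_iff x).2 hxC, orderOf_one] at hy
        exact hk.one_lt.ne hy
      rcases hz with h | h | h
      · exact key l hl d1 h
      · exact key m hm d2 h
      · exact key n hn d3 h
    · obtain ⟨l, m, n, hl, hm, hn, h1, h2, h3, d1, d2, d3⟩ := three_primes C hCs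
      have dd : ∀ k, k ∣ Nat.card C → k ∣ Nat.card G := fun k hk => hk.trans (Subgroup.card_subgroup_dvd_card C)
      rw [eq_top_iff]
      intro x _
      by_cases hx1 : x = 1
      · rw [hx1]; exact C.one_mem
      have hx := hthree l m n hl hm hn h1 h2 h3 (dd _ d1) (dd _ d2) (dd _ d3) x hx1
      have key : ∀ k : ℕ, k.Prime → k ∣ Nat.card C → orderOf x = k → x ∈ C := by
        intro k hk dk hxk
        haveI := Fact.mk hk
        obtain ⟨y, hy⟩ := exists_prime_orderOf_dvd_card' k dk
        exact hmem C hC y y.2 x (by rw [hxk, Subgroup.orderOf_coe, hy])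
      rcases hx with h | h | h
      · exact key l hl d1 h
      · exact key m hm d2 h
      · exact key n hn d3 h
  -- centralizers of nontrivial normal subgroups are trivial
  have hcent : ∀ N : Subgroup G, N.Normal → N ≠ ⊥ → Subgroup.centralizer (N : Set G) = ⊥ := by
    intro N hN hNb
    by_contra hC
    obtain ⟨z, hz1⟩ := Subgroup.ne_bot_iff_exists_ne_one.1 hC
    have hzp := hprime z (fun h => hz1 (Subtype.ext h))
    haveI := Fact.mk hzp
    have hNp : IsPGroup (orderOf (z : G)) N := by
      rw [IsPGroup.iff_orderOf]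
      intro x
      by_cases hx : x = 1
      · exact ⟨0, by rw [hx, orderOf_one, pow_zero]⟩
      · have hxp := hprime x (fun h => hx (Subtype.ext h))
        refine ⟨1, ?_⟩
        rw [pow_one, ← Subgroup.orderOf_coe]
        by_contra hne
        have hcomm : Commute (x : G) (z : G) := (Subgroup.mem_centralizer_iff.1 z.2 x x.2)
        have hcop : (orderOf (x : G)).Coprime (orderOf (z : G)) := (Nat.coprime_primes hxp hzp).2 hne
        have hord := hcomm.orderOf_mul_eq_mul_orderOf_of_coprime hcop
        have hxz : (x : G) * z ≠ 1 := by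
          intro h
          rw [h, orderOf_one] at hord
          have := hxp.two_le; have := hzp.two_le
          nlinarith
        have := hprime _ hxz
        rw [hord] at this
        exact Nat.not_prime_mul hxp.one_lt.ne' hzp.one_lt.ne' this
    have hle : N ≤ Cfsg.pCore (orderOf (z : G)) G := Cfsg.Agent.H11.Cores.le_pCore _ hNp
    have hcore : Cfsg.pCore (orderOf (z : G)) G = ⊤ := by
      apply hchar
      · infer_instance
      · intro h
        rw [h] at hle
        exact hNb (le_bot_iff.1 hle)
    have hpg : IsPGroup (orderOf (z : G)) G := by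
      have := Cfsg.Agent.H11.Cores.pCore_isPGroup (p := orderOf (z : G)) (G := G)
      rw [hcore] at this
      exact IsPGroup.of_equiv this Subgroup.topEquiv
    apply hns
    haveI := hpg.isNilpotent
    infer_instance
  haveI : Nontrivial G := by
    by_contra h
    rw [not_nontrivial_iff_subsingleton] at h
    exact hns inferInstance
  constructor
  intro N hN
  by_contra hcon
  push Not at hcon
  -- minimal normal subgroup
  obtain ⟨M, ⟨hMn, hMb⟩, hMmin⟩ := (Set.toFinite {M : Subgroup G | M.Normal ∧ M ≠ ⊥}).exists_minimal ⟨N, hN, hcon.1⟩ 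
  have hMchar : M.Characteristic := by
    rw [Subgroup.characteristic_iff_le_map]
    intro φ
    haveI : (M.map φ.toMonoidHom).Normal := hMn.map _ φ.surjective
    haveI := hMn
    by_contra hle
    have hinf : M ⊓ M.map φ.toMonoidHom = ⊥ := by
      by_contra hb
      have := hMmin (y := M ⊓ M.map φ.toMonoidHom) ⟨inferInstance, hb⟩ inf_le_left
      exact hle (this.trans inf_le_right)
    have hcomm : M.map φ.toMonoidHom ≤ Subgroup.centralizer (M : Set G) := by
      intro x hx
      rw [Subgroup.mem_centralizer_iff]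
      intro y hy
      exact Subgroup.commute_of_normal_of_disjoint _ _ hMn inferInstance (disjoint_iff.2 hinf) y x hy hx
    rw [hcent M hMn hMb, le_bot_iff] at hcomm
    rw [Subgroup.map_eq_bot_iff_of_injective _ φ.injective] at hcomm
    exact hMb hcomm
  have hMt := hchar M hMchar hMb
  have := hMmin (y := N) ⟨hN, hcon.1⟩ (hMt ▸ le_top)
  rw [hMt] at this
  exact hcon.2 (top_le_iff.1 this)

/-- A finite non-solvable group on which its automorphism group has exactly four orbits is isomorphic to the alternating group of degree 5. -/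
theorem result {G : Type*} [Group G] [Finite G] (hns : ¬ Group.IsSolvable G)
    (h4 : Nat.card (MulAction.orbitRel.Quotient (MulAut G) G) = 4) : Nonempty (G ≃* alternatingGroup (Fin 5)) := by
  classical
  obtain ⟨p, q, r, hp, hq, hr, ho, htr⟩ := orders hns h4
  haveI hsimp := simple_of hns p q r hp hq hr ho htr
  have hprime : ∀ x : G, x ≠ 1 → (orderOf x).Prime := by
    intro x hx
    rcases ho x hx with h | h | h <;> rw [h] <;> assumption
  have hcent : ∀ x : G, x ≠ 1 → ∀ y ∈ Subgroup.centralizer ({x} : Set G), y ^ orderOf x = 1 := by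
    intro x hx y hy
    by_cases hy1 : y = 1
    · rw [hy1, one_pow]
    have hxp := hprime x hx
    have hyp := hprime y hy1
    have hcomm : Commute x y := (Subgroup.mem_centralizer_iff.1 hy x rfl)
    by_contra hne
    have hne' : orderOf x ≠ orderOf y := fun h => hne (by rw [h, pow_orderOf_eq_one])
    have hcop : (orderOf x).Coprime (orderOf y) := (Nat.coprime_primes hxp hyp).2 hne'
    have hord := hcomm.orderOf_mul_eq_mul_orderOf_of_coprime hcop
    have hxz : x * y ≠ 1 := by
      intro h
      rw [h, orderOf_one] at hord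
      have := hxp.two_le; have := hyp.two_le
      nlinarith
    have := hprime _ hxz
    rw [hord] at this
    exact Nat.not_prime_mul hxp.one_lt.ne' hyp.one_lt.ne' this
  rcases Nat.even_or_odd (Nat.card G) with hev | hodd
  · haveI : Fact (Nat.Prime 2) := ⟨Nat.prime_two⟩
    let T : Sylow 2 G := default
    have h2 : 2 ∣ Nat.card T := T.dvd_card_of_dvd_card hev.two_dvd
    have hTb : (T : Subgroup G) ≠ ⊥ := by
      intro h
      rw [h, Subgroup.card_bot] at h2
      omega
    have hTt : (T : Subgroup G) ≠ ⊤ := by
      intro h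
      have hpg : IsPGroup 2 G := by
        have := T.isPGroup'
        rw [h] at this
        exact IsPGroup.of_equiv this Subgroup.topEquiv
      apply hns
      haveI := hpg.isNilpotent
      infer_instance
    have hnc : ¬ IsCyclic (T : Subgroup G) := by
      intro hcyc
      have hmin : (Nat.card G).minFac = 2 := (Nat.minFac_eq_two_iff _).2 hev.two_dvd
      have hcomp := IsCyclic.isComplement' hmin hcyc
      rcases hsimp.eq_bot_or_eq_top_of_normal _ (MonoidHom.transferSylow T (IsCyclic.normalizer_le_centralizer hmin hcyc)).normal_ker with h | h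
      · rw [h] at hcomp
        exact hTt (Subgroup.isComplement'_bot_left.1 hcomp)
      · rw [h] at hcomp
        exact hTb (Subgroup.isComplement'_top_left.1 hcomp)
    obtain ⟨F, iF, iFt, hcard, ⟨e⟩⟩ := Cfsg.Agent.S1230.result T hnc (by
        intro hn
        rcases hsimp.eq_bot_or_eq_top_of_normal _ hn with h | h
        · exact hTb h
        · exact hTt h) (by
        intro t ht
        have hC : ∀ c ∈ Subgroup.centralizer ({t} : Set G), c ^ 2 = 1 := by
          intro c hc
          have := hcent t (by rintro rfl; rw [orderOf_one] at ht; omega) c hc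
          rwa [ht] at this
        refine ⟨⟨⟨?_⟩⟩, hC⟩
        intro a b
        have ha := hC a a.2
        have hb := hC b b.2
        have hab := hC (a * b) (mul_mem a.2 b.2)
        apply Subtype.ext
        change (a : G) * b = b * a
        have e1 : (a : G)⁻¹ = a := inv_eq_of_mul_eq_one_left (by rw [← pow_two, ha])
        have e2 : (b : G)⁻¹ = b := inv_eq_of_mul_eq_one_left (by rw [← pow_two, hb])
        have e3 : ((a : G) * b)⁻¹ = a * b := inv_eq_of_mul_eq_one_left (by rw [← pow_two, hab])
        rw [← e3, mul_inv_rev, e1, e2])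
    obtain ⟨n, hn⟩ := IsPGroup.iff_card.1 T.isPGroup'
    have hn' : Fintype.card F = 2 ^ n := hcard.trans hn
    have hn2 : 2 ≤ n := by
      by_contra hlt
      apply hnc
      interval_cases n
      · haveI : Subsingleton (T : Subgroup G) := (Nat.card_eq_one_iff_unique.1 (by rw [hn]; norm_num)).1
        infer_instance
      · exact isCyclic_of_prime_card (p := 2) (by rw [hn]; norm_num)
    have hF4 : 4 ≤ Fintype.card F := by
      rw [hn']
      exact (by norm_num : 4 = 2 ^ 2).le.trans (Nat.pow_le_pow_right (by norm_num) hn2)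
    haveI : CharP F 2 := charP_of_card_eq_prime_pow hn'
    have hspec := Cfsg.Agent.H21.SpecPSL2.spectrum (F := F) 2 hF4
    have hprF : ∀ m : ℕ, 1 < m → m ∈ Set.range (orderOf : Matrix.ProjectiveSpecialLinearGroup (Fin 2) F → ℕ) → m.Prime := by
      rintro m hm ⟨y, hy⟩
      have h1 := hprime (e.symm y) (by
        intro h
        have h2 : y = 1 := by simpa using h
        rw [h2, orderOf_one] at hy
        omega)
      rw [MulEquiv.orderOf_eq, hy] at h1
      exact h1
    have hgcd : Nat.gcd 2 (Fintype.card F - 1) = 1 := by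
      rw [hn', Nat.Coprime.eq_1 2 (2 ^ n - 1) |>.symm]
      rw [Nat.coprime_comm]
      refine (Nat.coprime_comm.1 ?_).symm.symm
      rw [Nat.coprime_two_left]
      have : Even (2 ^ n) := (Nat.even_pow).2 ⟨even_two, by omega⟩
      rcases this with ⟨k, hk⟩
      have hk0 : 0 < 2 ^ n := by positivity
      exact ⟨k - 1, by omega⟩
    rw [hgcd] at hspec
    have hp1 : (2 ^ n - 1).Prime := by
      apply hprF _ (by omega)
      rw [hspec]
      right; left
      rw [hn', Nat.div_one]
    have hp2 : (2 ^ n + 1).Prime := by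
      apply hprF _ (by omega)
      rw [hspec]
      right; right
      rw [hn', Nat.div_one]
    have hm3 : 2 ^ n % 3 = 1 ∨ 2 ^ n % 3 = 2 := by
      clear hcard hn hn' hn2 hp1 hp2
      induction n with
      | zero => left; rfl
      | succ k ih => rw [pow_succ]; omega
    have h4' : Fintype.card F = 4 := by
      rw [hn'] at hF4 ⊢
      rcases hm3 with h | h
      · have : 3 ∣ 2 ^ n - 1 := by omega
        have := (Nat.prime_dvd_prime_iff_eq Nat.prime_three hp1).1 this
        omega
      · have : 3 ∣ 2 ^ n + 1 := by omega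
        have := (Nat.prime_dvd_prime_iff_eq Nat.prime_three hp2).1 this
        omega
    obtain ⟨e2⟩ := Cfsg.Agent.H5.SmallIso.psl2_4 h4'
    exact ⟨e.trans e2⟩
  · exfalso
    apply hns
    refine Cfsg.Agent.S0183.result hodd ?_
    intro x hx
    haveI := Fact.mk (hprime x hx)
    have hpg : IsPGroup (orderOf x) (Subgroup.centralizer ({x} : Set G)) := by
      intro y
      refine ⟨1, ?_⟩
      rw [pow_one]
      exact Subtype.ext (hcent x hx y y.2)
    exact hpg.isNilpotent

end Cfsg.Agent.S4068
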