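import Cfsg.Statements.S4073
import Mathlib
import Cfsg.Agent.H19_SN5

set_option autoImplicit false
open Cfsg

namespace Cfsg.Agent.S4073

theorem no_cyc {G : Type*} [Group G] [Finite G] [IsSimpleGroup G] (hna : ¬ ∀ a b : G, a * b = b * a) (he : Even (Nat.card G)) :
    ¬ ∀ P : Sylow 2 G, IsCyclic ↥P := by
  intro h
  haveI : Fact (Nat.Prime 2) := ⟨Nat.prime_two⟩
  let P : Sylow 2 G := default
  haveI := h P
  have h2 : (Nat.card G).minFac = 2 := (Nat.minFac_eq_two_iff _).2 he.two_dvd
  exact Cfsg.Agent.H19.SN.no_npc hna 2 he.two_dvd ⟨P, (MonoidHom.transferSylow P (IsCyclic.normalizer_le_centralizer h2 (h P))).ker, inferInstance,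
    MonoidHom.ker_transferSylow_isComplement' P _⟩

theorem fwd {G : Type*} [Group G] [Finite G] [IsSimpleGroup G] (hna : ¬ ∀ a b : G, a * b = b * a) (hs : Cfsg.Agent.H19.SN.SNA G) :
    ∃ n : ℕ, 2 ≤ n ∧ (2 ^ n - 1).Prime ∧ Nonempty (G ≃* Matrix.ProjectiveSpecialLinearGroup (Fin 2) (GaloisField 2 n)) := by
  classical
  haveI : Fact (Nat.Prime 2) := ⟨Nat.prime_two⟩
  have hsyl : ∀ (p : ℕ) [Fact p.Prime] (P : Sylow p G), ∀ a ∈ (P : Subgroup G), ∀ b ∈ (P : Subgroup G), a * b = b * a := by
    intro p hp P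
    by_cases hpd : p ∣ Nat.card G
    · exact Cfsg.Agent.H19.SN.sylow_abelian hs (Cfsg.Agent.H19.SN.no_npc hna p hpd) P
    · have h1 : Nat.card (P : Subgroup G) = 1 := by
        by_contra hne
        obtain ⟨n, hn⟩ := IsPGroup.iff_card.1 P.isPGroup'
        have hn0 : n ≠ 0 := by
          rintro rfl
          exact hne (by rw [hn, pow_zero])
        exact hpd ((dvd_pow_self p hn0).trans (hn ▸ Subgroup.card_subgroup_dvd_card (P : Subgroup G)))
      have h2 := Subgroup.card_eq_one.1 h1
      intro a ha b hb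
      rw [h2] at ha hb
      rw [Subgroup.mem_bot.1 ha, Subgroup.mem_bot.1 hb]
  have hca := Cfsg.Agent.H19.SN.ca hs hsyl (fun p _ hpd => Cfsg.Agent.H19.SN.no_npc hna p hpd)
  have heven : Even (Nat.card G) := by
    rw [← Nat.not_odd_iff_even]
    intro ho
    have h1 := Cfsg.Agent.S0182.result ho (fun x hx a ha b hb => hca x hx a b
      (Subgroup.mem_centralizer_singleton_iff.1 ha) (Subgroup.mem_centralizer_singleton_iff.1 hb))
    have h2 : commutator G = ⊥ := by
      have h3 : (commutator G).Normal := inferInstance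
      rcases h3.eq_bot_or_eq_top with h | h
      · exact h
      · exfalso
        haveI : Nontrivial G := inferInstance
        have h4 := IsSolvable.commutator_lt_top_of_nontrivial G
        exact h4.ne h
    apply hna
    intro a b
    have h3 : a * b * a⁻¹ * b⁻¹ ∈ commutator G :=
      Subgroup.commutator_mem_commutator (H₁ := (⊤ : Subgroup G)) (H₂ := ⊤) (Subgroup.mem_top _) (Subgroup.mem_top _)
    rw [h2, Subgroup.mem_bot, mul_inv_eq_one, mul_inv_eq_iff_eq_mul] at h3
    exact h3
  rcases Cfsg.Agent.S2202.result heven (fun t ht => ⟨⟨fun a b => Subtype.ext (hca t (by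
      rintro rfl
      rw [orderOf_one] at ht
      omega) a b (Subgroup.mem_centralizer_singleton_iff.1 a.2) (Subgroup.mem_centralizer_singleton_iff.1 b.2))⟩⟩) with h | h | h
  · exact absurd h (no_cyc hna heven)
  · exfalso
    let P : Sylow 2 G := default
    rcases (h P).eq_bot_or_eq_top with h1 | h1
    · have h2 := P.dvd_card_of_dvd_card heven.two_dvd
      rw [show Nat.card P = Nat.card (P : Subgroup G) from rfl, h1, Subgroup.card_bot] at h2
      omega
    · apply Cfsg.Agent.H19.SN.no_npc hna 2 heven.two_dvd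
      refine ⟨P, ⊥, inferInstance, ?_⟩
      rw [h1]
      exact Subgroup.isComplement'_bot_top
  · obtain ⟨F, _, _, A, _, _, _, hA, ⟨e⟩⟩ := h
    let f2 : G →* A := (MonoidHom.snd _ A).comp e.toMonoidHom
    have hf2 : Function.Surjective f2 := by
      intro a
      exact ⟨e.symm (1, a), by change (e (e.symm (1, a))).2 = a; rw [e.apply_symm_apply]⟩
    have hA1 : ∀ a : A, a = 1 := by
      have h3 : f2.ker.Normal := inferInstance
      rcases h3.eq_bot_or_eq_top with h | h
      · exfalso
        apply hna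
        intro a b
        apply (MonoidHom.ker_eq_bot_iff f2).1 h
        rw [map_mul, map_mul, mul_comm]
      · intro a
        obtain ⟨g, rfl⟩ := hf2 a
        have : g ∈ f2.ker := by rw [h]; trivial
        exact this
    have e1 : G ≃* Matrix.SpecialLinearGroup (Fin 2) F := MulEquiv.ofBijective ((MonoidHom.fst _ A).comp e.toMonoidHom) ⟨by
      intro a b hab
      apply e.injective
      exact Prod.ext hab ((hA1 _).trans (hA1 _).symm), by
      intro a
      exact ⟨e.symm (a, 1), by change (e (e.symm (a, 1))).1 = a; rw [e.apply_symm_apply]⟩⟩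
    obtain ⟨n, -, hn⟩ := FiniteField.card F 2
    have hn2 : 2 ≤ (n : ℕ) := by
      by_contra hlt
      have hn1 : (n : ℕ) = 1 := by
        have := n.pos
        omega
      have hc : Nat.card G = 6 := by
        rw [Nat.card_congr e1.toEquiv, Cfsg.Agent.H5.SL2.card_SL2, hn, hn1]
        norm_num
      apply no_cyc hna heven
      intro P
      have h1 : Nat.card P = 2 := by
        rw [P.card_eq_multiplicity, hc]
        have : (6 : ℕ).factorization 2 = 1 := by
          rw [show (6 : ℕ) = 2 * 3 by norm_num, Nat.factorization_mul (by norm_num) (by norm_num), Finsupp.add_apply,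
            Nat.Prime.factorization_self Nat.prime_two, Nat.factorization_eq_zero_of_not_dvd (by norm_num)]
        rw [this, pow_one]
      exact isCyclic_of_prime_card h1
    have hF : 2 < Fintype.card F := by
      rw [hn]
      calc 2 < 2 ^ 2 := by norm_num
        _ ≤ 2 ^ (n : ℕ) := Nat.pow_le_pow_right (by norm_num) hn2
    have hpr := Cfsg.Agent.H19.SN.sl2_prime (hs.equiv e1) hF
    rw [hn] at hpr
    haveI : Fintype (GaloisField 2 n) := Fintype.ofFinite _
    have hcard : Fintype.card F = Fintype.card (GaloisField 2 n) := by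
      rw [hn, ← Nat.card_eq_fintype_card, GaloisField.card 2 n n.ne_zero]
    obtain ⟨e2⟩ := Cfsg.Agent.H9.FieldCongr.psl (n := 2) (FiniteField.ringEquivOfCardEq hcard)
    exact ⟨n, hn2, hpr, ⟨(e1.trans Cfsg.Agent.H21.SL2e.equivPSL).trans e2⟩⟩


/-- Let G be a finite non-abelian simple group. Every non-abelian subgroup of G is self-normalizing if and only if G is isomorphic to PSL₂(2ⁿ) for some n ≥ 2 with 2ⁿ − 1 prime (this includes the alternating group of degree 5 as PSL₂(4)). -/
theorem result {G : Type*} [Group G] [Finite G] [IsSimpleGroup G]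
    (hna : ¬ IsMulCommutative G) :
    (∀ H : Subgroup G, ¬ IsMulCommutative H → Subgroup.normalizer (H : Set G) = H) ↔
    ∃ n : ℕ, 2 ≤ n ∧ (2 ^ n - 1).Prime ∧ Nonempty (G ≃* Matrix.ProjectiveSpecialLinearGroup (Fin 2) (GaloisField 2 n)) := by
  have hna' : ¬ ∀ a b : G, a * b = b * a := fun h => hna ⟨⟨h⟩⟩
  rw [← Cfsg.Agent.H19.SN.sna_iff]
  constructor
  · exact fwd hna'
  · rintro ⟨n, hn, hp, ⟨e⟩⟩
    haveI : Fact (Nat.Prime 2) := ⟨Nat.prime_two⟩
    haveI : Fintype (GaloisField 2 n) := Fintype.ofFinite _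
    have hcard : Fintype.card (GaloisField 2 n) = 2 ^ n := by
      rw [← Nat.card_eq_fintype_card, GaloisField.card 2 n (by omega)]
    have e' : Matrix.SpecialLinearGroup (Fin 2) (GaloisField 2 n) ≃* G := Cfsg.Agent.H21.SL2e.equivPSL.trans e.symm
    apply Cfsg.Agent.H19.SN.SNA.equiv e'
    intro H hH g hg
    have h1 := Cfsg.Agent.H19.SN.sl2_self (F := GaloisField 2 n) (by
      rw [hcard]
      calc 2 < 2 ^ 2 := by norm_num
        _ ≤ 2 ^ n := Nat.pow_le_pow_right (by norm_num) hn) (by rw [hcard]; exact hp) H hH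
    rw [← h1]
    exact Cfsg.Agent.H19.SN.mem_norm_iff.2 hg

end Cfsg.Agent.S4073
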