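import Cfsg.Statements.S4097
import Cfsg.Agent.S0042
import Cfsg.Agent.H1_Frob
import Cfsg.Agent.H4_Util

set_option autoImplicit false
open Cfsg

namespace Cfsg.Agent.S4097

open Cfsg.Agent.H1.Frob Cfsg.Agent.H1.Basic

universe u

/-- the hypothesis -/
def HC {G : Type u} [Group G] (A : Subgroup G) : Prop :=
  ∀ S : Subgroup G, A ≤ S → Group.IsSolvable S → ∀ a ∈ A, ∀ s ∈ S, a * s = s * a

theorem solvable_comm {H : Type*} [Group H] (hc : ∀ a b : H, a * b = b * a) : Group.IsSolvable H := by
  exact Group.isSolvable_of_comm hc

theorem solvable_closure {H : Type*} [Group H] {s : Set H} (hs : ∀ a ∈ s, ∀ b ∈ s, a * b = b * a) :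
    Group.IsSolvable (Subgroup.closure s) := by
  have h2 : IsMulCommutative (Subgroup.closure s) := Subgroup.isMulCommutative_closure hs
  exact solvable_comm (fun a b => h2.is_comm.comm a b)

/-- the full preimage of a solvable subgroup modulo a solvable normal subgroup is solvable -/
theorem solvable_comap {G : Type u} [Group G] (R : Subgroup G) [R.Normal] (hR : Group.IsSolvable R) (S : Subgroup (G ⧸ R))
    (hS : Group.IsSolvable S) : Group.IsSolvable (S.comap (QuotientGroup.mk' R)) := by
  let f : S.comap (QuotientGroup.mk' R) →* S := (QuotientGroup.mk' R).subgroupComap S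
  have hle : R ≤ S.comap (QuotientGroup.mk' R) := by
    intro x hx
    rw [Subgroup.mem_comap]
    have : (QuotientGroup.mk' R) x = 1 := (QuotientGroup.eq_one_iff x).2 hx
    rw [this]; exact one_mem _
  haveI := hR
  haveI := hS
  refine Group.isSolvable_of_ker_le_range (Subgroup.inclusion hle) f ?_
  intro x hx
  have h1 : (QuotientGroup.mk' R) (x : G) = 1 := congrArg Subtype.val hx
  exact ⟨⟨x, (QuotientGroup.eq_one_iff (x : G)).1 h1⟩, Subtype.ext rfl⟩

theorem main : ∀ n : ℕ, ∀ (G : Type u) [Group G] [Finite G] (A : Subgroup G), Nat.card G ≤ n → Group.IsSolvable A → HC A →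
    A ≤ Subgroup.center G := by
  intro n
  induction n with
  | zero => intro G _ _ A h0; exact absurd h0 (by have : 0 < Nat.card G := Nat.card_pos; omega)
  | succ n ih =>
    intro G _ _ A hcard hA hc
    by_contra hcon
    have hAab : ∀ a ∈ A, ∀ b ∈ A, a * b = b * a := hc A le_rfl hA
    -- proper subgroups
    have hprop : ∀ H : Subgroup G, H ≠ ⊤ → A ≤ H → ∀ a ∈ A, ∀ h ∈ H, a * h = h * a := by
      intro H hH hAH
      have hlt : Nat.card H ≤ n := by
        have h1 : Nat.card H < Nat.card G := by
          rw [← Subgroup.card_mul_index H]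
          have h2 : H.index ≠ 1 := fun h0 => hH (Subgroup.index_eq_one.1 h0)
          have h3 : H.index ≠ 0 := Subgroup.index_ne_zero_of_finite
          have h4 : 0 < Nat.card H := Nat.card_pos
          exact lt_mul_of_one_lt_right h4 (by omega)
        omega
      have h1 := ih H (A.subgroupOf H) hlt (solvable_comm (fun a b => Subtype.ext (Subtype.ext (hAab _ a.2 _ b.2)))) (by
        intro S hAS hS a ha s hs
        have h2 := hc (S.map H.subtype) (by
          intro x hx
          exact ⟨⟨x, hAH hx⟩, hAS (show (⟨x, hAH hx⟩ : H) ∈ A.subgroupOf H from hx), rfl⟩) (by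
          haveI := hS
          exact Group.isSolvable_of_surjective (f := (S.equivMapOfInjective H.subtype H.subtype_injective).toMonoidHom)
            (MulEquiv.surjective _)) a ha s ⟨s, hs, rfl⟩
        exact Subtype.ext h2)
      intro a ha h hh
      have h2 := h1 (show (⟨a, hAH ha⟩ : H) ∈ A.subgroupOf H from ha)
      exact (congrArg Subtype.val (Subgroup.mem_center_iff.1 h2 ⟨h, hh⟩)).symm
    -- no solvable normal subgroups
    have hrad : ∀ R : Subgroup G, R.Normal → Group.IsSolvable R → R = ⊥ := by
      intro R hR hRs
      by_contra hR1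
      apply hcon
      have hlt : Nat.card (G ⧸ R) ≤ n := by
        have h1 := Subgroup.card_mul_index R
        rw [Subgroup.index_eq_card] at h1
        have h2 : Nat.card R ≠ 1 := fun h0 => hR1 (Subgroup.card_eq_one.1 h0)
        have h3 : 0 < Nat.card R := Nat.card_pos
        have h4 : 0 < Nat.card (G ⧸ R) := Nat.card_pos
        have h5 : Nat.card (G ⧸ R) < Nat.card G := by
          rw [← h1]
          exact lt_mul_of_one_lt_left h4 (by omega)
        omega
      have hbar := ih (G ⧸ R) (A.map (QuotientGroup.mk' R)) hlt (by
        apply solvable_comm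
        rintro ⟨_, a, ha, rfl⟩ ⟨_, b, hb, rfl⟩
        apply Subtype.ext
        change (QuotientGroup.mk' R) a * (QuotientGroup.mk' R) b = (QuotientGroup.mk' R) b * (QuotientGroup.mk' R) a
        rw [← map_mul, ← map_mul, hAab a ha b hb]) (by
        intro S hAS hS a ha s hs
        obtain ⟨a, ha, rfl⟩ := ha
        obtain ⟨s, rfl⟩ := QuotientGroup.mk'_surjective R s
        rw [← map_mul, ← map_mul]
        congr 1
        exact hc (S.comap (QuotientGroup.mk' R)) (fun x hx => hAS ⟨x, hx, rfl⟩) (solvable_comap R hRs S hS) a ha s hs)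
      intro a ha
      rw [Subgroup.mem_center_iff]
      intro x
      have hS : Group.IsSolvable (Subgroup.closure ((A.map (QuotientGroup.mk' R) : Set (G ⧸ R)) ∪ {(QuotientGroup.mk' R) x})) := by
        apply solvable_closure
        rintro b (hb | hb) c (hc' | hc')
        · exact (Subgroup.mem_center_iff.1 (hbar hb) c).symm
        · exact (Subgroup.mem_center_iff.1 (hbar hb) c).symm
        · exact (Subgroup.mem_center_iff.1 (hbar hc') b)
        · rw [Set.mem_singleton_iff.1 hb, Set.mem_singleton_iff.1 hc']
      exact (hc _ (by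
        intro y hy
        rw [Subgroup.mem_comap]
        exact Subgroup.subset_closure (Or.inl ⟨y, hy, rfl⟩)) (solvable_comap R hRs _ hS) a ha x (by
        rw [Subgroup.mem_comap]
        exact Subgroup.subset_closure (Or.inr rfl))).symm
    have hZ : Subgroup.center G = ⊥ := hrad _ inferInstance (solvable_comm (fun a b => Subtype.ext (by
      exact (Subgroup.mem_center_iff.1 a.2 b).symm)))
    have hnt : Nontrivial G := by
      by_contra h0
      rw [not_nontrivial_iff_subsingleton] at h0
      exact hcon (fun x _ => by rw [Subsingleton.elim x 1]; exact one_mem _)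
    -- the unique maximal subgroup
    let M : Subgroup G := Subgroup.centralizer (A : Set G)
    have hM : ∀ x, x ∈ M ↔ ∀ a ∈ A, a * x = x * a := fun x => Subgroup.mem_centralizer_iff
    have hAM : A ≤ M := fun a ha => (hM a).2 (fun b hb => hAab b hb a ha)
    have hMmax : ∀ H : Subgroup G, H ≠ ⊤ → A ≤ H → H ≤ M := fun H h1 h2 x hx => (hM x).2 (fun a ha => hprop H h1 h2 a ha x hx)
    have hMtop : M ≠ ⊤ := by
      intro h0
      apply hcon
      intro a ha
      rw [Subgroup.mem_center_iff]
      intro x
      have : x ∈ M := by rw [h0]; trivial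
      exact ((hM x).1 this a ha).symm
    have hAbot : A ≠ ⊥ := by
      intro h0
      apply hcon
      rw [h0]; exact bot_le
    have hself : ∀ g : G, g ∈ Subgroup.normalizer (M : Set G) → g ∈ M := by
      have h1 : Subgroup.normalizer (M : Set G) ≠ ⊤ := by
        intro h0
        haveI hMn : M.Normal := Subgroup.normalizer_eq_top_iff.1 h0
        have h2 : ((Subgroup.center M).map M.subtype).Normal := inferInstance
        have h3 := hrad _ h2 (solvable_comm (by
          rintro ⟨_, a, ha, rfl⟩ ⟨_, b, hb, rfl⟩
          apply Subtype.ext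
          exact (congrArg Subtype.val (Subgroup.mem_center_iff.1 ha b)).symm))
        rw [Subgroup.map_eq_bot_iff_of_injective _ M.subtype_injective] at h3
        apply hAbot
        rw [eq_bot_iff]
        intro a ha
        have h4 : (⟨a, hAM ha⟩ : M) ∈ Subgroup.center M := by
          rw [Subgroup.mem_center_iff]
          intro x
          exact Subtype.ext (((hM x).1 x.2 a ha).symm)
        rw [h3, Subgroup.mem_bot] at h4
        exact Subgroup.mem_bot.2 (congrArg Subtype.val h4)
      exact fun g hg => hMmax _ h1 (hAM.trans Subgroup.le_normalizer) hg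
    have hFrob : Cfsg.IsFrobeniusComplement M := by
      refine ⟨fun h0 => hAbot (le_bot_iff.1 (h0 ▸ hAM)), hMtop, fun g hg => ?_⟩
      rw [eq_bot_iff]
      intro x hx12
      obtain ⟨hx1, hx2⟩ := Subgroup.mem_inf.1 hx12
      rw [Subgroup.mem_bot]
      by_contra hx
      rw [mem_conj] at hx2
      apply hg
      -- the centralizer of x
      have hCx : Subgroup.centralizer ({x} : Set G) ≠ ⊤ := by
        intro h0
        have h1 : x ∈ Subgroup.center G := by
          rw [Subgroup.mem_center_iff]
          intro y
          have : y ∈ Subgroup.centralizer ({x} : Set G) := by rw [h0]; trivial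
          exact Subgroup.mem_centralizer_singleton_iff.1 this
        rw [hZ, Subgroup.mem_bot] at h1
        exact hx h1
      have hle := hMmax _ hCx (fun a ha => Subgroup.mem_centralizer_singleton_iff.2 ((hM x).1 hx1 a ha))
      have hconj : ∀ a ∈ A, g * a * g⁻¹ ∈ M := by
        intro a ha
        apply hle
        rw [Subgroup.mem_centralizer_singleton_iff]
        have h1 := (hM _).1 hx2 a ha
        calc g * a * g⁻¹ * x = g * (a * (g⁻¹ * x * g)) * g⁻¹ := by group
          _ = g * ((g⁻¹ * x * g) * a) * g⁻¹ := by rw [h1]
          _ = _ := by group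
      have h2 : M.comap (MulAut.conj g).toMonoidHom ≤ M := by
        apply hMmax
        · intro h0
          apply hMtop
          rw [eq_top_iff]
          intro y _
          have h3 : g⁻¹ * y * g ∈ M.comap (MulAut.conj g).toMonoidHom := by rw [h0]; trivial
          rw [Subgroup.mem_comap] at h3
          have h4 : g * (g⁻¹ * y * g) * g⁻¹ ∈ M := h3
          have e : g * (g⁻¹ * y * g) * g⁻¹ = y := by group
          rwa [e] at h4
        · intro a ha
          exact hconj a ha
      have h3 : g⁻¹ ∈ Subgroup.normalizer (M : Set G) := by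
        apply Cfsg.Agent.H4.Util.mem_normalizer_of_forall
        intro y hy
        apply h2
        rw [Subgroup.mem_comap]
        change g * (g⁻¹ * y * g⁻¹⁻¹) * g⁻¹ ∈ M
        have e : g * (g⁻¹ * y * g⁻¹⁻¹) * g⁻¹ = y := by group
        rw [e]; exact hy
      have h4 := hself _ h3
      rw [inv_mem_iff] at h4
      exact h4
    obtain ⟨K, hK, hKn, hKnil⟩ := Cfsg.Agent.S0042.result M hFrob
    haveI := hKnil
    have h1 := hrad K hKn inferInstance
    have h2 := card_kernel hFrob
    rw [← hK, h1] at h2
    have h3 : M.index = 1 := by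
      rw [← h2]
      exact Subgroup.card_bot
    exact hMtop (Subgroup.index_eq_one.1 h3)

/-- Let A be a solvable subgroup of a finite group G such that A lies in the centre of every solvable subgroup of G containing A. Then A lies in the centre of G. -/
theorem result {G : Type*} [Group G] [Finite G]
    (A : Subgroup G) (hA : Group.IsSolvable A)
    (hc : ∀ S : Subgroup G, A ≤ S → Group.IsSolvable S → ∀ a ∈ A, ∀ s ∈ S, a * s = s * a) : A ≤ Subgroup.center G := by
  exact main (Nat.card G) G A le_rfl hA hc

end Cfsg.Agent.S4097
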