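import Cfsg.Statements.S4113
import Mathlib

set_option autoImplicit false
open Cfsg

namespace Cfsg.Agent.S4113

/-- Let G be a finite group, M ≤ N non-trivial proper normal subgroups, and H a subgroup with HM = G and H ∩ M = 1. Then every element of G outside N acts fixed-point-freely on M (C_G(x) ≤ N for every x ∈ M, x ≠ 1) if and only if H ∩ gHg⁻¹ ≤ H ∩ N for every g outside H, with H proper and non-trivial and H ∩ N proper in H. -/
theorem result {G : Type*} [Group G] [Finite G] (N M : Subgroup G) [N.Normal] [M.Normal] (hMN : M ≤ N) (hM1 : M ≠ ⊥) (hN2 : N ≠ ⊤)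
    (H : Subgroup G) (hHM : H ⊔ M = ⊤) (hHM' : H ⊓ M = ⊥) :
    (∀ x ∈ M, x ≠ 1 → Subgroup.centralizer ({x} : Set G) ≤ N) ↔
      (H ≠ ⊥ ∧ H ≠ ⊤ ∧ H ⊓ N < H ∧ ∀ g : G, g ∉ H → H ⊓ H.map (MulAut.conj g).toMonoidHom ≤ N) := by
  have hsup : ∀ g : G, ∃ m ∈ M, ∃ h ∈ H, g = m * h := by
    intro g
    have hg : g ∈ M ⊔ H := by rw [sup_comm, hHM]; exact Subgroup.mem_top g
    obtain ⟨m, hm, h, hh, rfl⟩ := Subgroup.mem_sup_of_normal_left.mp hg
    exact ⟨m, hm, h, hh, rfl⟩
  have hinf : ∀ x, x ∈ H → x ∈ M → x = 1 := by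
    intro x h1 h2
    have : x ∈ H ⊓ M := ⟨h1, h2⟩
    rwa [hHM', Subgroup.mem_bot] at this
  constructor
  · intro hC
    refine ⟨?_, ?_, ?_, ?_⟩
    · rintro rfl
      rw [bot_sup_eq] at hHM
      rw [hHM, top_le_iff] at hMN
      exact hN2 hMN
    · rintro rfl
      rw [top_inf_eq] at hHM'
      exact hM1 hHM'
    · refine lt_of_le_of_ne inf_le_left (fun h => hN2 ?_)
      rw [inf_eq_left] at h
      rw [eq_top_iff, ← hHM]
      exact sup_le h hMN
    · rintro g hg x ⟨hx1, hx2⟩
      obtain ⟨m, hm, k, hk, rfl⟩ := hsup g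
      obtain ⟨y, hy, hyx⟩ := Subgroup.mem_map.mp hx2
      have hyx' : m * k * y * (m * k)⁻¹ = x := hyx
      set h' := k * y * k⁻¹ with hh'
      have hh'H : h' ∈ H := mul_mem (mul_mem hk hy) (inv_mem hk)
      have hx3 : x = m * h' * m⁻¹ := by rw [← hyx', hh']; group
      have hm1 : m ≠ 1 := by
        rintro rfl
        apply hg
        rw [one_mul]
        exact hk
      have h4 : h'⁻¹ * x = 1 := by
        apply hinf
        · exact mul_mem (inv_mem hh'H) hx1
        · rw [hx3]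
          have : h'⁻¹ * (m * h' * m⁻¹) = (h'⁻¹ * m * h') * m⁻¹ := by group
          rw [this]
          apply mul_mem _ (inv_mem hm)
          have := (inferInstance : M.Normal).conj_mem m hm h'⁻¹
          simpa using this
      have h5 : x = h' := by
        have := congrArg (fun z => h' * z) h4
        simpa using this
      apply hC m hm hm1
      rw [Subgroup.mem_centralizer_singleton_iff]
      rw [h5] at hx3 ⊢
      calc h' * m = (m * h' * m⁻¹) * m := by rw [← hx3]
        _ = m * h' := by group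
  · rintro ⟨hH1, hH2, hlt, hconj⟩
    -- elements of H outside N act freely on M
    have hfree : ∀ h ∈ H, h ∉ N → ∀ m ∈ M, m * h * m⁻¹ = h → m = 1 := by
      intro h hh hhN m hm hmh
      by_contra hm1
      apply hhN
      have hmH : m ∉ H := fun h2 => hm1 (hinf m h2 hm)
      apply hconj m hmH
      exact ⟨hh, Subgroup.mem_map.mpr ⟨h, hh, hmh⟩⟩
    intro x hx hx1 c hc
    by_contra hcN
    obtain ⟨m0, hm0, h, hh, rfl⟩ := hsup c
    have hhN : h ∉ N := fun h2 => hcN (mul_mem (hMN hm0) h2)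
    -- the map m ↦ m h m⁻¹ h⁻¹ on M
    let f : M → M := fun m => ⟨(m : G) * (h * (m : G)⁻¹ * h⁻¹),
      mul_mem m.2 ((inferInstance : M.Normal).conj_mem _ (inv_mem m.2) h)⟩
    have hf : Function.Injective f := by
      intro a b hab
      have h1 : (a : G) * (h * (a : G)⁻¹ * h⁻¹) = (b : G) * (h * (b : G)⁻¹ * h⁻¹) := congrArg Subtype.val hab
      have h2 : ((b : G)⁻¹ * a) * h * ((b : G)⁻¹ * a)⁻¹ = h := by
        have h3 : (a : G) * h * (a : G)⁻¹ = (b : G) * h * (b : G)⁻¹ := by
          have := congrArg (fun z => z * h) h1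
          simpa [mul_assoc] using this
        calc ((b : G)⁻¹ * a) * h * ((b : G)⁻¹ * a)⁻¹ = (b : G)⁻¹ * ((a : G) * h * (a : G)⁻¹) * b := by group
          _ = (b : G)⁻¹ * ((b : G) * h * (b : G)⁻¹) * b := by rw [h3]
          _ = h := by group
      have h4 := hfree h hh hhN _ (mul_mem (inv_mem b.2) a.2) h2
      exact (Subtype.ext (inv_mul_eq_one.mp h4)).symm
    have hs : Function.Surjective f := Finite.surjective_of_injective hf
    obtain ⟨m, hm⟩ := hs ⟨m0, hm0⟩
    have hm' : (m : G) * (h * (m : G)⁻¹ * h⁻¹) = m0 := congrArg Subtype.val hm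
    have hc2 : m0 * h = m * h * (m : G)⁻¹ := by rw [← hm']; group
    rw [hc2, Subgroup.mem_centralizer_singleton_iff] at hc
    have h6 : ((m : G)⁻¹ * x * m) * h * ((m : G)⁻¹ * x * m)⁻¹ = h := by
      calc ((m : G)⁻¹ * x * m) * h * ((m : G)⁻¹ * x * m)⁻¹ = (m : G)⁻¹ * (x * (m * h * (m : G)⁻¹)) * x⁻¹ * m := by group
        _ = (m : G)⁻¹ * ((m * h * (m : G)⁻¹) * x) * x⁻¹ * m := by rw [hc]
        _ = h := by group
    have h7 : (m : G)⁻¹ * x * m ∈ M := by
      have := (inferInstance : M.Normal).conj_mem x hx (m : G)⁻¹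
      simpa using this
    have h8 := hfree h hh hhN _ h7 h6
    apply hx1
    have := congrArg (fun z => (m : G) * z * (m : G)⁻¹) h8
    simpa [mul_assoc] using this

end Cfsg.Agent.S4113
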