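import Cfsg.Statements.S4118
import Cfsg.Agent.H23_TIHall
import Cfsg.Agent.H5_Exc4


set_option autoImplicit false
open Cfsg

namespace Cfsg.Agent.S4118

open Subgroup Cfsg.Agent.H17.Base Cfsg.Agent.H23.TIHall


/-- Let G be a finite group and H a non-normal subgroup meeting each of its conjugates by elements outside N_G(H) trivially, with the order of H coprime to its index in N_G(H); let π be the set of primes dividing the order of H and suppose G is π-separable (it has a chain of normal subgroups from 1 to G each of whose factors has order divisible only by primes in π or coprime to the order of H). Let O be the largest normal subgroup of G of order coprime to the order of H. Then G = O·N_G(H), O·H is normal in G, and G is solvable if and only if O is solvable and H has no subgroup isomorphic to SL₂(5). -/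
theorem result {G : Type*} [Group G] [Finite G] (H : Subgroup G)
    (hTI : Cfsg.IsTISubset (H : Set G)) (hnn : ¬ H.Normal)
    (hHall : (Nat.card H).Coprime (H.subgroupOf (Subgroup.normalizer (H : Set G))).index)
    (hsep : ∃ (n : ℕ) (M : Fin (n + 1) → Subgroup G), M 0 = ⊥ ∧ M (Fin.last n) = ⊤ ∧ Monotone M ∧ (∀ i, (M i).Normal) ∧
      ∀ i : Fin n, (∀ q : ℕ, q.Prime → q ∣ (M i.castSucc).relIndex (M i.succ) → q ∣ Nat.card H) ∨
        ((M i.castSucc).relIndex (M i.succ)).Coprime (Nat.card H))
    (O : Subgroup G) (hO : O = sSup {K : Subgroup G | K.Normal ∧ (Nat.card K).Coprime (Nat.card H)}) :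
    O ⊔ Subgroup.normalizer (H : Set G) = ⊤ ∧ (O ⊔ H).Normal ∧
    (Group.IsSolvable G ↔ Group.IsSolvable O ∧
      ∀ K : Subgroup G, K ≤ H → ¬ Nonempty (K ≃* Matrix.SpecialLinearGroup (Fin 2) (ZMod 5))) := by
  have hH : (Nat.card H).Coprime (H.relIndex (Subgroup.normalizer (H : Set G))) := hHall
  have hH' := hall hTI hH
  obtain ⟨hO1, hO2, hO3⟩ := core_spec O hO
  have hfac := factor hTI hnn hH' hsep O hO1 hO2 hO3
  refine ⟨hfac, sup_normal O hO1 hfac, ?_, ?_⟩
  · intro hG
    refine ⟨H23.Rad.solvable_of_le (le_top : O ≤ ⊤) (by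
      haveI := hG
      exact Group.isSolvable_of_isSolvable_injective (f := (⊤ : Subgroup G).subtype) (⊤ : Subgroup G).subtype_injective), ?_⟩
    rintro K - ⟨e⟩
    haveI := hG
    have h1 : Group.IsSolvable K := inferInstance
    have h2 : Group.IsSolvable (Matrix.SpecialLinearGroup (Fin 2) (ZMod 5)) :=
      Group.isSolvable_of_isSolvable_injective (f := e.symm.toMonoidHom) e.symm.injective
    haveI : Fact (Nat.Prime 5) := ⟨by norm_num⟩
    have h3 : commutator (Matrix.SpecialLinearGroup (Fin 2) (ZMod 5)) = ⊤ :=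
      H5.Exc.perfect_SL2 (by rw [ZMod.card]; norm_num)
    have h4 := hom_trivial h3 h2 (MonoidHom.id _)
    let u : Matrix.SpecialLinearGroup (Fin 2) (ZMod 5) := ⟨!![1, 1; 0, 1], by simp [Matrix.det_fin_two]⟩
    have h5 : u = 1 := DFunLike.congr_fun h4 u
    have h6 := congrArg (fun m : Matrix.SpecialLinearGroup (Fin 2) (ZMod 5) => (m : Matrix (Fin 2) (Fin 2) (ZMod 5)) 0 1) h5
    simp [u] at h6
  · rintro ⟨hOs, hSL⟩
    have hHO : H ≤ Nz O := le_normalizer_of_normal
    have hHne : H ≠ ⊥ := by rintro rfl; exact hnn inferInstance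
    have hHOb : H ⊓ O = ⊥ := by
      exact (Subgroup.disjoint_of_coprime_natCard hO2.symm).eq_bot
    -- centralizers in O
    have hfix : ∀ h ∈ H, h ≠ 1 → ∀ c ∈ O, c * h = h * c → ∀ y ∈ H, c * y = y * c := by
      intro h hh h1 c hc hch y hy
      have h2 : c ∈ Subgroup.normalizer (H : Set G) := by
        by_contra hn
        exact h1 (hTI c hn h hh (by rw [hch, mul_inv_cancel_right]; exact hh))
      have h3 : c * y * c⁻¹ * y⁻¹ ∈ H ⊓ O := by
        refine ⟨H.mul_mem ((mem_normalizer_iff.1 h2 y).1 hy) (H.inv_mem hy), ?_⟩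
        have := O.mul_mem hc (hO1.conj_mem c⁻¹ (O.inv_mem hc) y)
        simpa [mul_assoc] using this
      rw [hHOb, mem_bot, mul_inv_eq_one, mul_inv_eq_iff_eq_mul] at h3
      exact h3
    have hnc : ¬ O ≤ Cz H := by
      intro h
      apply hnn
      rw [← normalizer_eq_top_iff, eq_top_iff, ← hfac]
      exact sup_le (h.trans (centralizer_le_normalizer _)) le_rfl
    -- an invariant Sylow subgroup not centralised by H
    obtain ⟨r, hr, R, hRO, hRp, hHR, hRne⟩ : ∃ (r : ℕ) (_ : Fact r.Prime) (R : Subgroup G), R ≤ O ∧ IsPGroup r R ∧ H ≤ Nz R ∧ ¬ R ≤ Cz H := by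
      by_contra hcon
      push Not at hcon
      apply hnc
      apply H1.Nilp.le_of_sylow_le
      intro p hp
      obtain ⟨P, hP⟩ := H1.Coprime.invariant_sylow_exists H O hHO hO2.symm (Or.inr hOs) p
      exact ⟨P, hcon p hp _ (map_subtype_le _) (P.2.map _) hP⟩
    have hRcop : (Nat.card H).Coprime (Nat.card R) :=
      hO2.symm.coprime_dvd_right (Subgroup.card_dvd_of_le hRO)
    have hfixR : ∀ h ∈ H, h ≠ 1 → ∀ c ∈ R, c * h = h * c → ∀ y ∈ H, c * y = y * c :=
      fun h hh h1 c hc => hfix h hh h1 c (hRO hc)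
    have hHs : Group.IsSolvable H := by
      by_contra hns
      obtain ⟨K, hK, e⟩ := exists_SL25 hHR hRp hRcop hfixR hRne hns
      exact hSL K hK e
    have hcyc : ∀ (p : ℕ) [Fact p.Prime] (P : Subgroup G), P ≤ H → IsPGroup p P →
        (IsCyclic P ∨ (p = 2 ∧ ∃ n : ℕ, Nonempty (P ≃* QuaternionGroup (2 ^ n)))) := by
      intro p hp P hPH hPp
      apply H23.PQuat.cyclic_or_quaternion_of_abelian hPp
      intro A hA hAp
      by_contra hAc
      set A' := A.map P.subtype with hA'
      have hA'H : A' ≤ H := (map_subtype_le _).trans hPH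
      let e := A.equivMapOfInjective P.subtype P.subtype_injective
      haveI : IsMulCommutative A' := by
        refine ⟨⟨fun a b => ?_⟩⟩
        obtain ⟨a, rfl⟩ := e.surjective a
        obtain ⟨b, rfl⟩ := e.surjective b
        rw [← map_mul, ← map_mul, hA.is_comm.comm]
      have hA'c : ¬ IsCyclic A' := by
        intro h
        exact hAc (isCyclic_of_surjective e.symm.toMonoidHom e.symm.surjective)
      have hgen := H1.Partition.generation A' R hA'c (hA'H.trans hHR)
        (hRcop.coprime_dvd_left (Subgroup.card_dvd_of_le hA'H))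
      apply hRne
      rw [← hgen]
      apply iSup₂_le
      rintro a ⟨ha, ha1⟩ x ⟨hxR, hxa⟩
      rw [mem_centralizer_iff]
      intro y hy
      have h1 : x * a = a * x := mem_centralizer_singleton_iff.1 hxa
      exact (hfixR a (hA'H ha) ha1 x hxR (by first | exact h1 | exact h1.symm) y hy).symm
    have hLs := solv_normalizer hH' hO1 hO2 hO3 hOs hfac hHs hcyc
    haveI := hO1
    have h1 := H23.Rad.solvable_sup (A := O) (B := Nz H) hOs hLs
    rw [hfac] at h1
    exact H23.Rad.solvable_top h1


end Cfsg.Agent.S4118
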