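import Cfsg.Statements.S4125
import Cfsg.Agent.H23_QBaer3

set_option autoImplicit false
open Cfsg

namespace Cfsg.Agent.S4125

open Subgroup


/-- Let G be a finite group and q a prime dividing its order such that every element of q-power order has a conjugacy class of prime-power size. Then G is q-solvable of q-length 1: there are normal subgroups K ≤ L of G with K of order prime to q, L/K a q-group and L of index prime to q. Moreover there is a prime p such that every element of q-power order has a class of p-power size (one prime serving for all of them), and for a Sylow q-subgroup Q: if p = q then Q is normal with a normal complement (a direct factor), while if p ≠ q then Q is abelian, the product of Q with the largest normal p-subgroup O_p(G) is normal in G, and G/O_{q'}(G) is solvable, where O_{q'}(G) is the largest normal subgroup of order prime to q. -/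
theorem result {G : Type*} [Group G] [Finite G] (q : ℕ) [Fact q.Prime] (hq : q ∣ Nat.card G)
    (hBaer : ∀ x : G, (∃ k : ℕ, orderOf x = q ^ k) → ∃ (r : ℕ) (a : ℕ), r.Prime ∧ (Subgroup.centralizer ({x} : Set G)).index = r ^ a) (Q : Sylow q G) :
    (∃ K L : Subgroup G, K.Normal ∧ L.Normal ∧ K ≤ L ∧ (Nat.card K).Coprime q ∧ (∃ m : ℕ, K.relIndex L = q ^ m) ∧ L.index.Coprime q) ∧
    ∃ p : ℕ, p.Prime ∧ (∀ x : G, (∃ k : ℕ, orderOf x = q ^ k) → ∃ a : ℕ, (Subgroup.centralizer ({x} : Set G)).index = p ^ a) ∧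
      (p = q → (Q : Subgroup G).Normal ∧ ∃ N : Subgroup G, N.Normal ∧ N.IsComplement' (Q : Subgroup G)) ∧
      (p ≠ q → IsMulCommutative (Q : Subgroup G) ∧ (Cfsg.pCore p G ⊔ (Q : Subgroup G)).Normal ∧
        ∀ _h : (Cfsg.pPrimeCore q G).Normal, Group.IsSolvable (G ⧸ Cfsg.pPrimeCore q G)) := by
  classical
  have hp0 := ‹Fact q.Prime›
  -- (I)
  have hI : ∀ R : Subgroup G, R.Normal → (Nat.card R).Coprime q → (R ⊔ (Q : Subgroup G)).Normal →
      ∃ K L : Subgroup G, K.Normal ∧ L.Normal ∧ K ≤ L ∧ (Nat.card K).Coprime q ∧ (∃ m : ℕ, K.relIndex L = q ^ m) ∧ L.index.Coprime q := by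
    intro R hR hRc hL
    refine ⟨R, R ⊔ (Q : Subgroup G), hR, hL, le_sup_left, hRc, ?_, ?_⟩
    · have h1 : R.relIndex (R ⊔ (Q : Subgroup G)) = R.relIndex (Q : Subgroup G) := by
        haveI := hR
        rw [sup_comm, relIndex_sup_right]
      rw [h1]
      obtain ⟨n, hn⟩ := IsPGroup.iff_card.1 Q.2
      have h2 : R.relIndex (Q : Subgroup G) ∣ q ^ n := by
        have h3 : Nat.card Q = q ^ n := hn
        rw [← h3]
        exact relIndex_dvd_card _ _
      obtain ⟨m, -, hm⟩ := (Nat.dvd_prime_pow hp0.out).1 h2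
      exact ⟨m, hm⟩
    · have h1 : (R ⊔ (Q : Subgroup G)).index ∣ (Q : Subgroup G).index := index_dvd_of_le le_sup_right
      exact Nat.Coprime.coprime_dvd_left h1 ((hp0.out.coprime_iff_not_dvd).2 Q.not_dvd_index).symm
  by_cases hall : ∀ x : G, (∃ k : ℕ, orderOf x = q ^ k) → ∃ a : ℕ, (Subgroup.centralizer ({x} : Set G)).index = q ^ a
  · obtain ⟨hQn, hN⟩ := H23.QBaer.case_eq Q hall
    refine ⟨hI ⊥ inferInstance (by simp) (by rw [bot_sup_eq]; exact hQn), q, hp0.out, hall, fun _ => ⟨hQn, hN⟩, fun h => absurd rfl h⟩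
  · push Not at hall
    obtain ⟨y, hy, hyi⟩ := hall
    obtain ⟨s, b, hs, hsb⟩ := hBaer y hy
    have hb : b ≠ 0 := by
      rintro rfl
      apply hyi 0
      rw [hsb, pow_zero, pow_zero]
    have hsq : s ≠ q := by
      rintro rfl
      exact hyi b hsb
    have hone := H23.QBaer.one_prime hBaer hy hs hsq hb hsb
    haveI : Fact s.Prime := ⟨hs⟩
    obtain ⟨hQc, hL⟩ := H23.QBaer.case_ne hsq Q hone
    refine ⟨hI (pCore s G) (H1.Nilp.pCore_normal s) ?_ hL, s, hs, hone, fun h => absurd h hsq, fun _ => ⟨?_, hL, fun h => ?_⟩⟩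
    · obtain ⟨n, hn⟩ := IsPGroup.iff_card.1 (H1.Nilp.pCore_isPGroup (G := G) s)
      rw [hn]
      exact Nat.Coprime.pow_left _ ((Nat.coprime_primes hs hp0.out).2 hsq)
    · exact ⟨⟨fun a b => Subtype.ext (hQc a a.2 b b.2)⟩⟩
    · haveI := h
      exact H23.QBaer.solv hsq Q hone


end Cfsg.Agent.S4125
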