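import Cfsg.Statements.S4159
import Cfsg.Agent.S0205
import Cfsg.Agent.S3861
import Cfsg.Agent.S3863
import Cfsg.Agent.H24_Class
import Cfsg.Agent.H1_Basic
-- import your own Cfsg.Agent.* helpers here

set_option autoImplicit false
open Cfsg

namespace Cfsg.Agent.S4159

open Subgroup in
theorem no_real {G : Type*} [Group G] [Finite G]
    (h : ∀ (H : Subgroup G) (x y : H), 1 < (Subgroup.centralizer ({x} : Set H)).index → 1 < (Subgroup.centralizer ({y} : Set H)).index →
      ¬ ((Subgroup.centralizer ({x} : Set H)).index).Coprime (Subgroup.centralizer ({y} : Set H)).index)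
    (x : G) (hx1 : x ≠ 1) (hxo : Odd (orderOf x)) : ¬ IsConj x x⁻¹ := by
  intro hreal
  obtain ⟨⟨g, ⟨j, hj⟩, hg⟩, -, -⟩ := Cfsg.Agent.S3863.result x hreal
  have hxx : x ≠ x⁻¹ := by
    intro h1
    have h2 : x ^ 2 = 1 := by
      rw [pow_two]; nth_rewrite 2 [h1]; exact mul_inv_cancel x
    have h3 := orderOf_dvd_of_pow_eq_one h2
    rcases (Nat.dvd_prime Nat.prime_two).1 h3 with h4 | h4
    · exact hx1 (orderOf_eq_one_iff.1 h4)
    · rw [h4] at hxo
      exact absurd hxo (by decide)
  obtain ⟨H, hH⟩ : ∃ H, H = zpowers g ⊔ zpowers x := ⟨_, rfl⟩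
  have hgH : g ∈ H := hH ▸ (mem_sup_left (mem_zpowers g))
  have hxH : x ∈ H := hH ▸ (mem_sup_right (mem_zpowers x))
  have hnorm : zpowers g ≤ normalizer ((zpowers x : Subgroup G) : Set G) := by
    rw [zpowers_le, ← Cfsg.Agent.H1.Basic.conj_eq_iff_mem_normalizer]
    apply eq_of_le_of_card_ge _ (by rw [Cfsg.Agent.H1.Basic.card_conj])
    intro y hy
    rw [Cfsg.Agent.H1.Basic.mem_conj] at hy
    obtain ⟨k, hk⟩ := mem_zpowers_iff.1 hy
    have h1 : y = g * x ^ k * g⁻¹ := by rw [hk]; group
    rw [h1, ← conj_zpow, hg]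
    exact zpow_mem (inv_mem (mem_zpowers x)) k
  -- class of g has odd size
  have hodd : Odd (centralizer ({(⟨g, hgH⟩ : H)} : Set H)).index := by
    have h1 : (centralizer ({(⟨g, hgH⟩ : H)} : Set H)).index ∣ (zpowers (⟨g, hgH⟩ : H)).index := by
      apply index_dvd_of_le
      rw [zpowers_le, mem_centralizer_singleton_iff]
    have h2 := (zpowers (⟨g, hgH⟩ : H)).card_mul_index
    have h3 := Cfsg.Agent.H1.Basic.card_sup_mul_card_inf hnorm
    rw [← hH, ← h2, Nat.card_zpowers, Nat.card_zpowers, Nat.card_zpowers, orderOf_mk, mul_assoc] at h3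
    have h4 := Nat.eq_of_mul_eq_mul_left (orderOf_pos g) h3
    exact Odd.of_dvd_nat (Odd.of_dvd_nat hxo ⟨_, h4.symm⟩) h1
  have hgne : 1 < (centralizer ({(⟨g, hgH⟩ : H)} : Set H)).index := by
    have h1 : (centralizer ({(⟨g, hgH⟩ : H)} : Set H)).index ≠ 0 := index_ne_zero_of_finite
    have h2 : (centralizer ({(⟨g, hgH⟩ : H)} : Set H)).index ≠ 1 := by
      intro h3
      rw [index_eq_one] at h3
      have h4 : (⟨x, hxH⟩ : H) ∈ centralizer ({(⟨g, hgH⟩ : H)} : Set H) := by rw [h3]; trivial
      rw [mem_centralizer_singleton_iff] at h4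
      have h5 : x * g = g * x := congrArg Subtype.val h4
      apply hxx
      rw [← hg, ← h5]; group
    omega
  -- class of x has size two
  have htwo : (centralizer ({(⟨x, hxH⟩ : H)} : Set H)).index = 2 := by
    rw [← Cfsg.Agent.H24.Class.card_conjugatesOf]
    have h1 : conjugatesOf (⟨x, hxH⟩ : H) = {⟨x, hxH⟩, ⟨x⁻¹, inv_mem hxH⟩} := by
      ext y
      change IsConj _ y ↔ _
      rw [Set.mem_insert_iff, Set.mem_singleton_iff]
      constructor
      · intro h2
        obtain ⟨c, hc⟩ := isConj_iff.1 h2
        -- every element of H maps x to x or its inverse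
        have key : ∀ c ∈ H, c * x * c⁻¹ = x ∨ c * x * c⁻¹ = x⁻¹ := by
          intro c hc
          have e1 : g * x⁻¹ * g⁻¹ = x := by
            have h3 : g * x⁻¹ * g⁻¹ = (g * x * g⁻¹)⁻¹ := by group
            rw [h3, hg, inv_inv]
          have e2 : g⁻¹ * x * g = x⁻¹ := by nth_rewrite 1 [← e1]; group
          let S : Subgroup G :=
            { carrier := {c | c * x * c⁻¹ = x ∨ c * x * c⁻¹ = x⁻¹}
              one_mem' := Or.inl (by group)
              mul_mem' := by
                rintro a b (ha | ha) (hb | hb)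
                · left
                  have h3 : a * b * x * (a * b)⁻¹ = a * (b * x * b⁻¹) * a⁻¹ := by group
                  rw [h3, hb, ha]
                · right
                  have h3 : a * b * x * (a * b)⁻¹ = a * (b * x * b⁻¹) * a⁻¹ := by group
                  have h4 : a * x⁻¹ * a⁻¹ = (a * x * a⁻¹)⁻¹ := by group
                  rw [h3, hb, h4, ha]
                · right
                  have h3 : a * b * x * (a * b)⁻¹ = a * (b * x * b⁻¹) * a⁻¹ := by group
                  rw [h3, hb, ha]
                · left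
                  have h3 : a * b * x * (a * b)⁻¹ = a * (b * x * b⁻¹) * a⁻¹ := by group
                  have h4 : a * x⁻¹ * a⁻¹ = (a * x * a⁻¹)⁻¹ := by group
                  rw [h3, hb, h4, ha, inv_inv]
              inv_mem' := by
                rintro a (ha | ha)
                · left
                  have h3 : a⁻¹ * x * a⁻¹⁻¹ = a⁻¹ * (a * x * a⁻¹) * a := by rw [ha]; group
                  rw [h3]; group
                · right
                  have h3 : a⁻¹ * x * a⁻¹⁻¹ = (a⁻¹ * x⁻¹ * a)⁻¹ := by group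
                  have h4 : a⁻¹ * x⁻¹ * a = a⁻¹ * (a * x * a⁻¹) * a := by rw [ha]
                  rw [h3, h4]; group }
          have hS : H ≤ S := by
            rw [hH, sup_le_iff, zpowers_le, zpowers_le]
            exact ⟨Or.inr hg, Or.inl (by group)⟩
          exact hS hc
        have h3 : (y : G) = c * x * (c : G)⁻¹ := by rw [← hc]; rfl
        rcases key c c.2 with h4 | h4
        · left; exact Subtype.ext (h3.trans h4)
        · right; exact Subtype.ext (h3.trans h4)
      · rintro (rfl | rfl)
        · exact IsConj.refl _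
        · exact isConj_iff.2 ⟨⟨g, hgH⟩, Subtype.ext hg⟩
    rw [h1, Nat.card_coe_set_eq, Set.ncard_pair]
    intro h2
    exact hxx (congrArg Subtype.val h2)
  apply h H ⟨x, hxH⟩ ⟨g, hgH⟩ (by rw [htwo]; norm_num) hgne
  rw [htwo]
  exact (Nat.coprime_two_left).2 hodd

/-- Let G be a finite group such that in every subgroup H of G, any two conjugacy classes of H of size greater than 1 have non-coprime sizes. Then G is solvable. -/
theorem result {G : Type*} [Group G] [Finite G]
    (h : ∀ (H : Subgroup G) (x y : H), 1 < (Subgroup.centralizer ({x} : Set H)).index → 1 < (Subgroup.centralizer ({y} : Set H)).index →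
      ¬ ((Subgroup.centralizer ({x} : Set H)).index).Coprime (Subgroup.centralizer ({y} : Set H)).index) : Group.IsSolvable G := by
  obtain ⟨P⟩ : Nonempty (Sylow 2 G) := inferInstance
  have hP : (P : Subgroup G).Normal := (Cfsg.Agent.S3861.result P).1 (fun x hx1 hxo => no_real h x hx1 hxo)
  have h2 : Group.IsSolvable (G ⧸ (P : Subgroup G)) := by
    apply Cfsg.Agent.S0205.result
    rw [← Nat.not_even_iff_odd, even_iff_two_dvd]
    exact P.not_dvd_index
  have h1 : Group.IsSolvable (P : Subgroup G) := by
    haveI := P.2.isNilpotent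
    infer_instance
  have h3 := Group.isSolvable_of_ker_le_range (P : Subgroup G).subtype (QuotientGroup.mk' (P : Subgroup G)) (by
    rw [QuotientGroup.ker_mk', Subgroup.range_subtype])
  exact h3

end Cfsg.Agent.S4159
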