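import Cfsg.Statements.S4188
import Cfsg.Agent.H22_TG4
import Cfsg.Agent.H13_Chief

set_option autoImplicit false
open Cfsg

namespace Cfsg.Agent.S4188

/-- Let G be a finite group that is the semidirect product of a normal abelian subgroup N of odd order by a 2-subgroup P, and suppose N is the unique minimal normal subgroup of G. Then the index of the Frattini subgroup of P in P is at most #N − 1. -/
theorem result {G : Type*} [Group G] [Finite G] (N P : Subgroup G) (hN : N.Normal) (hNab : IsMulCommutative ↥N) (hNodd : Odd (Nat.card ↥N)) (hP : IsPGroup 2 ↥P) (hdisj : N ⊓ P = ⊥) (hprod : N ⊔ P = ⊤) (hmin : N ≠ ⊥ ∧ ∀ M : Subgroup G, M.Normal → M ≠ ⊥ → N ≤ M) : (frattini ↥P).index ≤ Nat.card ↥N - 1 := by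
  classical
  obtain ⟨hNb, hNm⟩ := hmin
  haveI := hN
  have hcomm : ∀ x ∈ N, ∀ y ∈ N, x * y = y * x := by
    intro x hx y hy
    exact congrArg Subtype.val (hNab.is_comm.comm ⟨x, hx⟩ ⟨y, hy⟩)
  have hcard1 : Nat.card N ≠ 1 := by
    intro h
    exact hNb ((Subgroup.card_eq_one).mp h)
  obtain ⟨q, hqp, hqd⟩ := Nat.exists_prime_and_dvd hcard1
  haveI : Fact q.Prime := ⟨hqp⟩
  have hq2 : q ≠ 2 := by
    rintro rfl
    exact (Nat.not_even_iff_odd.mpr hNodd) (even_iff_two_dvd.mpr hqd)
  -- N has exponent q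
  let M : Subgroup G :=
    { carrier := {x | x ∈ N ∧ x ^ q = 1}
      one_mem' := ⟨N.one_mem, one_pow q⟩
      mul_mem' := by
        rintro a b ⟨ha, ha'⟩ ⟨hb, hb'⟩
        refine ⟨N.mul_mem ha hb, ?_⟩
        rw [(show Commute a b from hcomm a ha b hb).mul_pow, ha', hb', one_mul]
      inv_mem' := by
        rintro a ⟨ha, ha'⟩
        refine ⟨N.inv_mem ha, ?_⟩
        rw [inv_pow, ha', inv_one] }
  have hMn : M.Normal := by
    refine ⟨?_⟩
    rintro x ⟨hx, hx'⟩ g
    refine ⟨hN.conj_mem x hx g, ?_⟩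
    rw [conj_pow, hx', mul_one, mul_inv_cancel]
  have hMb : M ≠ ⊥ := by
    intro h
    obtain ⟨x, hx⟩ := exists_prime_orderOf_dvd_card' (G := N) q hqd
    have hx1 : (x : G) ∈ M := ⟨x.2, by
      rw [← Subgroup.coe_pow, ← hx, pow_orderOf_eq_one, Subgroup.coe_one]⟩
    rw [h, Subgroup.mem_bot] at hx1
    have hx2 : x = 1 := Subtype.ext hx1
    rw [hx2, orderOf_one] at hx
    exact hqp.one_lt.ne hx
  have hexp : ∀ x ∈ N, x ^ q = 1 := fun x hx => (hNm M hMn hMb hx).2
  have hsec : H13.Chief.IsElemSec q N ⊥ := by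
    refine ⟨bot_le, hN, inferInstance, ?_, fun x hx => by rw [hexp x hx]; exact Subgroup.one_mem _⟩
    rw [Subgroup.commutator_le]
    intro x hx y hy
    rw [Subgroup.mem_bot, commutatorElement_eq_one_iff_mul_comm]
    exact hcomm x hx y hy
  obtain ⟨E, iE, iM, π, ρ, h1, h2, h3, h4⟩ := H13.Chief.exists_module hsec
  have h10 : π 1 = 0 := (h3 1).mpr (Subgroup.one_mem _)
  have hinj : Function.Injective π := by
    intro x y hxy
    have h5 : π (x * y⁻¹) = 0 := by
      have h6 : π (x * y⁻¹) + π y = π x := by rw [← h1, inv_mul_cancel_right]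
      rw [hxy] at h6
      exact add_eq_right.mp h6
    have h7 := (h3 _).mp h5
    rw [Subgroup.mem_bot] at h7
    have h8 : x * y⁻¹ = 1 := Subtype.ext h7
    exact mul_inv_eq_one.mp h8
  have hcE : Nat.card N = Nat.card E := Nat.card_congr (Equiv.ofBijective π ⟨hinj, h2⟩)
  haveI : Finite E := Finite.of_surjective π h2
  haveI : Module.Finite (ZMod q) E := Module.Finite.of_finite
  have hcE' : Nat.card E = q ^ Module.finrank (ZMod q) E := by
    rw [Module.natCard_eq_pow_finrank (K := ZMod q), Nat.card_zmod]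
  -- the centralizer of N in P is trivial
  have hker : ∀ x ∈ P, (∀ n ∈ N, x * n = n * x) → x = 1 := by
    intro x hx hxn
    by_contra hx1
    let C : Subgroup G := P ⊓ Subgroup.centralizer (N : Set G)
    have hCn : C.Normal := by
      rw [← Subgroup.normalizer_eq_top_iff, eq_top_iff, ← hprod, sup_le_iff]
      constructor
      · intro n hn
        rw [Subgroup.mem_normalizer_iff]
        intro y
        have hy : ∀ y ∈ C, n * y * n⁻¹ = y := by
          intro y hy
          rw [Subgroup.mem_centralizer_iff.mp hy.2 n hn, mul_inv_cancel_right]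
        constructor
        · intro h
          rw [hy y h]; exact h
        · intro h
          have h5 : n⁻¹ * (n * y * n⁻¹) * n = n * y * n⁻¹ := by
            have := Subgroup.mem_centralizer_iff.mp h.2 n hn
            rw [mul_assoc, ← this, inv_mul_cancel_left]
          have h6 : n⁻¹ * (n * y * n⁻¹) * n = y := by group
          rw [h6] at h5
          rw [h5]; exact h
      · intro g hg
        rw [Subgroup.mem_normalizer_iff]
        have haux : ∀ g ∈ P, ∀ y ∈ C, g * y * g⁻¹ ∈ C := by
          intro g hg y hy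
          refine Subgroup.mem_inf.mpr ⟨P.mul_mem (P.mul_mem hg hy.1) (P.inv_mem hg), ?_⟩
          rw [Subgroup.mem_centralizer_iff]
          intro n hn
          have h5 := Subgroup.mem_centralizer_iff.mp hy.2 (g⁻¹ * n * g) (by
            have := hN.conj_mem n hn g⁻¹
            rwa [inv_inv] at this)
          calc n * (g * y * g⁻¹) = g * ((g⁻¹ * n * g) * y) * g⁻¹ := by group
            _ = g * (y * (g⁻¹ * n * g)) * g⁻¹ := by rw [h5]
            _ = g * y * g⁻¹ * n := by group
        intro y
        constructor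
        · exact haux g hg y
        · intro h
          have := haux g⁻¹ (P.inv_mem hg) _ h
          have h6 : g⁻¹ * (g * y * g⁻¹) * g⁻¹⁻¹ = y := by group
          rwa [h6] at this
    have hCb : C ≠ ⊥ := by
      intro h
      have : x ∈ C := Subgroup.mem_inf.mpr ⟨hx, by
        rw [Subgroup.mem_centralizer_iff]
        intro n hn
        exact (hxn n hn).symm⟩
      rw [h, Subgroup.mem_bot] at this
      exact hx1 this
    have h5 := hNm C hCn hCb
    apply hNb
    rw [eq_bot_iff, ← hdisj]
    exact le_inf le_rfl (h5.trans inf_le_left)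
  have hρ : Function.Injective (ρ.comp P.subtype) := by
    rw [injective_iff_map_eq_one]
    intro x hx
    apply Subtype.ext
    apply hker x x.2
    intro n hn
    have h5 : ρ (x : G) (π ⟨n, hn⟩) = π ⟨n, hn⟩ := by
      have : ρ (x : G) = 1 := hx
      rw [this]; rfl
    rw [h4] at h5
    have h6 := congrArg Subtype.val (hinj h5)
    simp only at h6
    rwa [mul_inv_eq_iff_eq_mul] at h6
  have hfr : 1 ≤ Module.finrank (ZMod q) E := by
    rw [Nat.one_le_iff_ne_zero]
    intro h
    rw [h, pow_zero, ← hcE] at hcE'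
    exact hcard1 hcE'
  obtain ⟨k, hk, hc⟩ := H22.TG.main hq2 _ E P (ρ.comp P.subtype) hP hρ hfr rfl
  have hfin := hk.frattini hP
  rw [hcE, hcE']
  rcases hc with hc | ⟨hc1, hc2⟩
  · have : 2 ^ k ≤ 2 ^ (k + 1) := Nat.pow_le_pow_right (by norm_num) (Nat.le_succ k)
    omega
  · rw [hc1]
    have : 2 ^ k ≤ 2 ^ 1 := Nat.pow_le_pow_right (by norm_num) hc2
    omega

end Cfsg.Agent.S4188
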