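import Cfsg.Statements.S4249
import Mathlib
import Cfsg.Agent.H24_Hughes2
import Cfsg.Agent.H1_Schmidt2

set_option autoImplicit false
open Cfsg

namespace Cfsg.Agent.S4249

/-- Let G be a finite group and p a prime such that G is not a p-group, and suppose the Hughes subgroup H_p(G), generated by all elements g with g^p ≠ 1, is a proper subgroup. Then H_p(G) is nilpotent and has index p in G. -/
theorem result {G : Type*} [Group G] [Finite G] (p : ℕ) (hp : p.Prime) (hG : ¬ IsPGroup p G)
    (hH : Subgroup.closure {g : G | g ^ p ≠ 1} ≠ ⊤) :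
    Group.IsNilpotent (Subgroup.closure {g : G | g ^ p ≠ 1}) ∧ (Subgroup.closure {g : G | g ^ p ≠ 1}).index = p := by
  set H := Subgroup.closure {g : G | g ^ p ≠ 1} with hHdef
  have hpow : ∀ x : G, x ∉ H → x ^ p = 1 := by
    intro x hx
    by_contra h
    exact hx (Subgroup.subset_closure h)
  have hHn : H.Normal := by
    have : H = Subgroup.normalClosure {g : G | g ^ p ≠ 1} := by
      apply le_antisymm Subgroup.closure_le_normalClosure
      rw [Subgroup.normalClosure, Subgroup.closure_le]
      intro x hx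
      rw [Group.mem_conjugatesOfSet_iff] at hx
      obtain ⟨a, ha, hax⟩ := hx
      apply Subgroup.subset_closure
      obtain ⟨c, rfl⟩ := isConj_iff.1 hax
      intro h
      apply ha
      rw [conj_pow] at h
      exact conj_eq_one_iff.1 h
    rw [this]; infer_instance
  have hmain := Cfsg.Agent.H24.Hughes.main hp (Nat.card G) G
  refine ⟨hmain H rfl hHn hH hpow, ?_⟩
  haveI : Fact p.Prime := ⟨hp⟩
  -- a prime `r ≠ p`
  obtain ⟨r, hr, hrp, hrd⟩ : ∃ r : ℕ, r.Prime ∧ r ≠ p ∧ r ∣ Nat.card G := by
    by_contra hcon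
    push Not at hcon
    apply hG
    apply IsPGroup.of_card (n := (Nat.card G).primeFactorsList.length)
    apply Nat.eq_prime_pow_of_unique_prime_dvd Nat.card_pos.ne'
    intro d hd hdd
    by_contra hne
    exact hcon d hd hne hdd
  haveI : Fact r.Prime := ⟨hr⟩
  obtain ⟨v, hv⟩ := exists_prime_orderOf_dvd_card' r hrd
  have hvp : v ^ p ≠ 1 := by
    intro h
    have h1 := orderOf_dvd_of_pow_eq_one h
    rw [hv] at h1
    exact hrp ((Nat.prime_dvd_prime_iff_eq hr hp).1 h1)
  have hvH : v ∈ H := Subgroup.subset_closure hvp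
  -- maximal normal subgroups
  have hGHp : IsPGroup p (G ⧸ H) := by
    intro x
    obtain ⟨g, rfl⟩ := QuotientGroup.mk_surjective x
    refine ⟨1, ?_⟩
    rw [pow_one, ← QuotientGroup.mk_pow, QuotientGroup.eq_one_iff]
    by_cases hg : g ∈ H
    · exact pow_mem hg p
    · rw [hpow g hg]; exact one_mem _
  have hnil := hGHp.isNilpotent
  have hco : IsCoatom H := by
    refine ⟨hH, fun K hK => ?_⟩
    by_contra hKt
    -- enlarge to a coatom
    obtain ⟨M, hM, hKM⟩ := (IsCoatomic.eq_top_or_exists_le_coatom K).resolve_left hKt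
    have hHM : H ≤ M := hK.le.trans hKM
    have hcm : (M.map (QuotientGroup.mk' H)).comap (QuotientGroup.mk' H) = M := by
      rw [Subgroup.comap_map_eq_self]
      rw [QuotientGroup.ker_mk']; exact hHM
    have hMc : IsCoatom (M.map (QuotientGroup.mk' H)) := by
      constructor
      · intro h
        rw [h, Subgroup.comap_top] at hcm
        exact hM.1 hcm.symm
      · intro K' hK'
        have h2 : M < K'.comap (QuotientGroup.mk' H) := by
          rw [← hcm]
          exact (Subgroup.comap_lt_comap_of_surjective (QuotientGroup.mk'_surjective H)).2 hK'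
        have h3 := hM.2 _ h2
        have h4 := congrArg (Subgroup.map (QuotientGroup.mk' H)) h3
        rw [Subgroup.map_comap_eq_self_of_surjective (QuotientGroup.mk'_surjective H),
          Subgroup.map_top_of_surjective _ (QuotientGroup.mk'_surjective H)] at h4
        exact h4
    have hMn' := Cfsg.Agent.H1.Nilp.normal_of_isCoatom_of_nilpotent hMc
    have hMn : M.Normal := by rw [← hcm]; infer_instance
    have hMnil := hmain M rfl hMn hM.1 (fun x hx => hpow x (fun h => hx (hHM h)))
    obtain ⟨w, hwK, hwH⟩ := SetLike.exists_of_lt (lt_of_lt_of_le hK hKM)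
    have hwp := hpow w hwH
    have hwM : w ∈ M := hwK
    have hzw : IsPGroup p (Subgroup.zpowers w) := by
      obtain ⟨k, -, hk⟩ := (Nat.dvd_prime_pow hp).1 (show orderOf w ∣ p ^ 1 by rw [pow_one]; exact orderOf_dvd_of_pow_eq_one hwp)
      exact IsPGroup.of_card (n := k) (by rw [Nat.card_zpowers, hk])
    have hzv : IsPGroup r (Subgroup.zpowers v) :=
      IsPGroup.of_card (n := 1) (by rw [Nat.card_zpowers, hv, pow_one])
    have hcomm : Commute w v := Cfsg.Agent.H1.Schmidt.commute_of_nilpotent' hMnil (p := p) (q := r) hrp.symm hzw hzv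
      (by rw [Subgroup.zpowers_le]; exact hwM) (by rw [Subgroup.zpowers_le]; exact hHM hvH)
      (Subgroup.mem_zpowers w) (Subgroup.mem_zpowers v)
    have h5 : w * v ∉ H := by
      intro h
      apply hwH
      have := H.mul_mem h (H.inv_mem hvH)
      rwa [mul_inv_cancel_right] at this
    have h6 := hpow _ h5
    rw [hcomm.mul_pow, hwp, one_mul] at h6
    exact hvp h6
  have hcyc := Cfsg.Agent.H24.MaxCent.isCyclic_quotient_of_coatom hco
  obtain ⟨g, hg⟩ := hcyc.exists_ofOrder_eq_natCard
  have h1 : orderOf g ∣ p := by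
    apply orderOf_dvd_of_pow_eq_one
    obtain ⟨x, rfl⟩ := QuotientGroup.mk_surjective g
    rw [← QuotientGroup.mk_pow, QuotientGroup.eq_one_iff]
    by_cases hx : x ∈ H
    · exact pow_mem hx p
    · rw [hpow x hx]; exact one_mem _
  have h2 : Nat.card (G ⧸ H) = H.index := rfl
  rw [hg, h2] at h1
  rcases (Nat.dvd_prime hp).1 h1 with h | h
  · exact absurd (Subgroup.index_eq_one.1 h) hH
  · exact h

end Cfsg.Agent.S4249
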