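import Cfsg.Statements.S4292
import Cfsg.Agent.H6_FR4

set_option autoImplicit false
open Cfsg

namespace Cfsg.Agent.S4292

/-- Let A and B be nontrivial finite groups. Then the direct product A × B occurs as a Frobenius complement if and only if A and B both occur as Frobenius complements and the orders of A and B are coprime. -/
theorem result {A B : Type*} [Group A] [Finite A] [Nontrivial A] [Group B] [Finite B] [Nontrivial B] :
    (∃ (L : Type) (_ : Group L) (_ : Finite L) (H : Subgroup L), Cfsg.IsFrobeniusComplement H ∧ Nonempty ((A × B) ≃* H)) ↔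
    ((∃ (L : Type) (_ : Group L) (_ : Finite L) (H : Subgroup L), Cfsg.IsFrobeniusComplement H ∧ Nonempty (A ≃* H)) ∧
     (∃ (L : Type) (_ : Group L) (_ : Finite L) (H : Subgroup L), Cfsg.IsFrobeniusComplement H ∧ Nonempty (B ≃* H)) ∧
     (Nat.card A).Coprime (Nat.card B)) := by
  classical
  constructor
  · intro hFC
    have hrep := H24.Zas.exists_rep_FC hFC
    obtain ⟨L, _, _, H, hH, ⟨e⟩⟩ := hFC
    obtain ⟨N, hN, hNn, hact⟩ := H24.Zas.exists_act H hH
    have := hN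
    have := hNn
    let φ : A × B →* MulAut N := (MulAut.conjNormal : L →* MulAut N).comp (H.subtype.comp e.toMonoidHom)
    have hφ : ∀ g, g ≠ 1 → ∀ k, φ g k = k → k = 1 := fun g hg k hk =>
      hact (e g) (fun h => hg (e.injective (by rw [h, map_one]))) k hk
    refine ⟨?_, ?_, ?_⟩
    · obtain ⟨L', i1, i2, H', h1, h2, -⟩ := H24.FrobEx.exists_frob (φ.comp (MonoidHom.inl A B)) (fun h hh v hv =>
        hφ (h, 1) (fun hx => hh (congrArg Prod.fst hx)) v hv)
      exact ⟨L', i1, i2, H', h1, h2⟩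
    · obtain ⟨L', i1, i2, H', h1, h2, -⟩ := H24.FrobEx.exists_frob (φ.comp (MonoidHom.inr A B)) (fun h hh v hv =>
        hφ (1, h) (fun hx => hh (congrArg Prod.snd hx)) v hv)
      exact ⟨L', i1, i2, H', h1, h2⟩
    · obtain ⟨𝕜, _, _, V, _, _, _, ρ, C⟩ := hrep
      have hc := C.cyc
      rw [Nat.coprime_iff_gcd_eq_one]
      by_contra hg
      obtain ⟨p, hp, hpd⟩ := Nat.exists_prime_and_dvd hg
      have : Fact p.Prime := ⟨hp⟩
      obtain ⟨a, ha⟩ := exists_prime_orderOf_dvd_card' (G := A) p (hpd.trans (Nat.gcd_dvd_left _ _))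
      obtain ⟨b, hb⟩ := exists_prime_orderOf_dvd_card' (G := B) p (hpd.trans (Nat.gcd_dvd_right _ _))
      have h1 : IsCyclic ((Subgroup.zpowers a).prod (Subgroup.zpowers b)) := hc _ (by
        rintro ⟨x, y⟩ ⟨hx, hy⟩ ⟨z, w⟩ ⟨hz, hw⟩
        obtain ⟨i, rfl⟩ := Subgroup.mem_zpowers_iff.1 hx
        obtain ⟨j, rfl⟩ := Subgroup.mem_zpowers_iff.1 hy
        obtain ⟨k, rfl⟩ := Subgroup.mem_zpowers_iff.1 hz
        obtain ⟨l, rfl⟩ := Subgroup.mem_zpowers_iff.1 hw
        refine Prod.ext ?_ ?_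
        · change a ^ i * a ^ k = a ^ k * a ^ i
          rw [← zpow_add, ← zpow_add, add_comm]
        · change b ^ j * b ^ l = b ^ l * b ^ j
          rw [← zpow_add, ← zpow_add, add_comm])
      have h2 : IsCyclic (Subgroup.zpowers a × Subgroup.zpowers b) :=
        isCyclic_of_surjective (Subgroup.prodEquiv (Subgroup.zpowers a) (Subgroup.zpowers b)).toMonoidHom
          (Subgroup.prodEquiv (Subgroup.zpowers a) (Subgroup.zpowers b)).surjective
      rw [Group.isCyclic_prod_iff, Nat.card_zpowers, Nat.card_zpowers, ha, hb] at h2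
      have h3 := h2.2.2
      rw [Nat.coprime_self] at h3
      exact hp.one_lt.ne' h3
  · rintro ⟨hA, hB, hcop⟩
    obtain ⟨d₁, hd₁, ⟨RA⟩⟩ := H6.FR.exists_FRep hA
    obtain ⟨d₂, hd₂, ⟨RB⟩⟩ := H6.FR.exists_FRep hB
    obtain ⟨k, _, _, hN, ⟨RA'⟩, ⟨RB'⟩⟩ := H6.FR.exists_finite' RA RB (Nat.card A * Nat.card B)
      (mul_ne_zero Nat.card_pos.ne' Nat.card_pos.ne')
    rw [Nat.cast_mul] at hN
    have : NeZero d₁ := ⟨hd₁.ne'⟩
    have : NeZero d₂ := ⟨hd₂.ne'⟩
    have : Finite (Matrix (Fin d₁) (Fin d₂) k) := inferInstance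
    have : Nontrivial (Matrix (Fin d₁) (Fin d₂) k) := inferInstance
    obtain ⟨L, i1, i2, H, h1, h2, -⟩ := H24.FrobEx.exists_frob_module (H6.FR.actProd RA' RB').toHomUnits
      (fun x hx X hX => H6.FR.actProd_fpf RA' RB' hcop (left_ne_zero_of_mul hN) (right_ne_zero_of_mul hN) x hx X hX)
    exact ⟨L, i1, i2, H, h1, h2⟩

end Cfsg.Agent.S4292
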