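import Cfsg.Statements.S4298
import Mathlib
import Cfsg.Agent.H24_FrobEx2

set_option autoImplicit false
open Cfsg

namespace Cfsg.Agent.S4298

/-- table of an embedding of SL(2,3) into SL(2,5) -/
def tb (a b c d : ZMod 3) : Fin 4 → ZMod 5 :=
  (![![![![![0, 0, 0, 0], ![0, 0, 0, 0], ![0, 0, 0, 0]], ![![0, 0, 0, 0], ![0, 0, 0, 0], ![0, 0, 0, 0]], ![![0, 0, 0, 0], ![0, 0, 0, 0], ![0, 0, 0, 0]]], ![![![0, 0, 0, 0], ![0, 0, 0, 0], ![0, 0, 0, 0]], ![![0, 0, 0, 0], ![0, 0, 0, 0], ![0, 0, 0, 0]], ![![0, 1, 4, 0], ![4, 1, 2, 2], ![1, 3, 4, 3]]], ![![![0, 0, 0, 0], ![0, 0, 0, 0], ![0, 0, 0, 0]], ![![0, 4, 1, 0], ![4, 2, 1, 2], ![1, 4, 3, 3]], ![![0, 0, 0, 0], ![0, 0, 0, 0], ![0, 0, 0, 0]]]], ![![![![0, 0, 0, 0], ![1, 0, 0, 1], ![0, 0, 0, 0]], ![![0, 0, 0, 0], ![1, 1, 2, 3], ![0, 0, 0, 0]], ![![0, 0, 0, 0], ![3, 4, 3, 1], ![0, 0, 0, 0]]], ![![![0, 0, 0, 0], ![1, 2, 1, 3], ![0, 0,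 0, 0]], ![![0, 0, 0, 0], ![0, 0, 0, 0], ![2, 0, 0, 3]], ![![2, 3, 4, 4], ![0, 0, 0, 0], ![0, 0, 0, 0]]], ![![![0, 0, 0, 0], ![3, 3, 4, 1], ![0, 0, 0, 0]], ![![2, 4, 3, 4], ![0, 0, 0, 0], ![0, 0, 0, 0]], ![![0, 0, 0, 0], ![0, 0, 0, 0], ![0, 3, 3, 0]]]], ![![![![0, 0, 0, 0], ![0, 0, 0, 0], ![4, 0, 0, 4]], ![![0, 0, 0, 0], ![0, 0, 0, 0], ![2, 1, 2, 4]], ![![0, 0, 0, 0], ![0, 0, 0, 0], ![4, 4, 3, 2]]], ![![![0, 0, 0, 0], ![0, 0, 0, 0], ![2, 2, 1, 4]], ![![0, 0, 0, 0], ![0, 2, 2, 0], ![0, 0, 0, 0]], ![![3, 1, 2, 1], ![0, 0, 0, 0], ![0, 0, 0, 0]]], ![![![0, 0, 0, 0], ![0, 0, 0, 0], ![4, 3, 4, 2]], ![![3, 2, 1, 1], ![0, 0, 0, 0], ![0, 0, 0, 0]], ![![0, 0, 0, 0], ![3, 0, 0, 2], ![0, 0, 0, 0]]]]] : Fin 3 → Fin 3 → Fin 3 → Fin 3 → Fin 4 → ZMod 5) a b c d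

set_option maxRecDepth 100000 in
set_option maxHeartbeats 4000000 in
theorem key1 : ∀ a b c d a' b' c' d' : ZMod 3, a * d - b * c = 1 → a' * d' - b' * c' = 1 →
    tb (a * a' + b * c') (a * b' + b * d') (c * a' + d * c') (c * b' + d * d') 0 =
      tb a b c d 0 * tb a' b' c' d' 0 + tb a b c d 1 * tb a' b' c' d' 2 ∧
    tb (a * a' + b * c') (a * b' + b * d') (c * a' + d * c') (c * b' + d * d') 1 =
      tb a b c d 0 * tb a' b' c' d' 1 + tb a b c d 1 * tb a' b' c' d' 3 ∧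
    tb (a * a' + b * c') (a * b' + b * d') (c * a' + d * c') (c * b' + d * d') 2 =
      tb a b c d 2 * tb a' b' c' d' 0 + tb a b c d 3 * tb a' b' c' d' 2 ∧
    tb (a * a' + b * c') (a * b' + b * d') (c * a' + d * c') (c * b' + d * d') 3 =
      tb a b c d 2 * tb a' b' c' d' 1 + tb a b c d 3 * tb a' b' c' d' 3 := by
  decide

set_option maxRecDepth 100000 in
theorem key2 : ∀ a b c d : ZMod 3, a * d - b * c = 1 → ¬ (a = 1 ∧ b = 0 ∧ c = 0 ∧ d = 1) →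
    (tb a b c d 0 - 1) * (tb a b c d 3 - 1) - tb a b c d 1 * tb a b c d 2 ≠ 0 := by
  decide

/-- the embedding -/
def f : Matrix.SpecialLinearGroup (Fin 2) (ZMod 3) →* Matrix (Fin 2) (Fin 2) (ZMod 5) where
  toFun A := !![tb (A.1 0 0) (A.1 0 1) (A.1 1 0) (A.1 1 1) 0, tb (A.1 0 0) (A.1 0 1) (A.1 1 0) (A.1 1 1) 1;
    tb (A.1 0 0) (A.1 0 1) (A.1 1 0) (A.1 1 1) 2, tb (A.1 0 0) (A.1 0 1) (A.1 1 0) (A.1 1 1) 3]
  map_one' := by
    ext i j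
    fin_cases i <;> fin_cases j <;> decide
  map_mul' A B := by
    have hA : A.1 0 0 * A.1 1 1 - A.1 0 1 * A.1 1 0 = 1 := by
      rw [← Matrix.det_fin_two]; exact A.2
    have hB : B.1 0 0 * B.1 1 1 - B.1 0 1 * B.1 1 0 = 1 := by
      rw [← Matrix.det_fin_two]; exact B.2
    have key := key1 _ _ _ _ _ _ _ _ hA hB
    rw [Matrix.mul_fin_two]
    have e : ∀ i j, (A * B).1 i j = A.1 i 0 * B.1 0 j + A.1 i 1 * B.1 1 j := by
      intro i j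
      change (A.1 * B.1) i j = _
      rw [Matrix.mul_apply, Fin.sum_univ_two]
    rw [e, e, e, e, key.1, key.2.1, key.2.2.1, key.2.2.2]

/-- The group SL(2,3) of order 24 (the binary tetrahedral group) occurs as a Frobenius complement of some finite Frobenius group. -/
theorem result :
    ∃ (L : Type) (_ : Group L) (_ : Finite L) (H : Subgroup L), Cfsg.IsFrobeniusComplement H ∧ Nonempty (H ≃* Matrix.SpecialLinearGroup (Fin 2) (ZMod 3)) := by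
  have : Fact (Nat.Prime 5) := ⟨by norm_num⟩
  have hnt : Nontrivial (Matrix.SpecialLinearGroup (Fin 2) (ZMod 3)) := by
    refine ⟨⟨1, -1, ?_⟩⟩
    intro h
    have := congrArg (fun A : Matrix.SpecialLinearGroup (Fin 2) (ZMod 3) => A.1 0 0) h
    revert this
    decide
  obtain ⟨L, h1, h2, H, h3, ⟨h4⟩, -⟩ := Cfsg.Agent.H24.FrobEx.exists_frob_module
    (R := Matrix (Fin 2) (Fin 2) (ZMod 5)) (M := Matrix (Fin 2) (Fin 2) (ZMod 5)) (f.toHomUnits) (by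
      intro A hA m hm
      rw [MonoidHom.coe_toHomUnits, smul_eq_mul] at hm
      have h5 : (f A - 1) * m = 0 := by rw [sub_mul, one_mul, hm, sub_self]
      have h6 : (f A - 1).det ≠ 0 := by
        have hd : A.1 0 0 * A.1 1 1 - A.1 0 1 * A.1 1 0 = 1 := by
          rw [← Matrix.det_fin_two]; exact A.2
        have hne : ¬ (A.1 0 0 = 1 ∧ A.1 0 1 = 0 ∧ A.1 1 0 = 0 ∧ A.1 1 1 = 1) := by
          rintro ⟨e1, e2, e3, e4⟩
          apply hA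
          apply Subtype.ext
          ext i j
          fin_cases i <;> fin_cases j
          · exact e1
          · exact e2
          · exact e3
          · exact e4
        have := key2 _ _ _ _ hd hne
        rw [Matrix.det_fin_two]
        intro h
        apply this
        rw [← h]
        simp [f]
      have h7 : (f A - 1).adjugate * ((f A - 1) * m) = 0 := by rw [h5, mul_zero]
      rw [← mul_assoc, Matrix.adjugate_mul, smul_mul_assoc, one_mul] at h7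
      exact (smul_eq_zero.mp h7).resolve_left h6)
  exact ⟨L, h1, h2, H, h3, ⟨h4.symm⟩⟩

end Cfsg.Agent.S4298
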