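import Cfsg.Statements.S4303
import Mathlib
import Cfsg.Agent.H24_SylCount
import Cfsg.Agent.H24_SylCount2

set_option autoImplicit false
universe u
open Cfsg

namespace Cfsg.Agent.S4303

/-- For a finite group `G` and a prime `p`, the number of Sylow `p`-subgroups of `G` is a product of natural numbers each of which is either a prime power congruent to 1 modulo `p` or the number of Sylow `p`-subgroups of some finite simple group. -/
theorem result {G : Type u} [Group G] [Finite G]
    (p : ℕ) [Fact p.Prime] :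
    ∃ l : List ℕ, l.prod = Nat.card (Sylow p G) ∧
      ∀ m ∈ l, (IsPrimePow m ∧ m % p = 1) ∨
        ∃ (S : Type u) (_ : Group S) (_ : Finite S), IsSimpleGroup S ∧ m = Nat.card (Sylow p S) := by
  induction' hn : Nat.card G using Nat.strong_induction_on with n ih generalizing G
  subst hn
  rcases subsingleton_or_nontrivial G with hsub | hnt
  · refine ⟨[], ?_, by simp⟩
    obtain ⟨P⟩ : Nonempty (Sylow p G) := inferInstance
    rw [P.card_eq_index_normalizer, Subgroup.index_eq_one.mpr (Subsingleton.elim _ _)]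
    rfl
  by_cases hs : IsSimpleGroup G
  · exact ⟨[Nat.card (Sylow p G)], by simp, fun m hm => Or.inr ⟨G, inferInstance, inferInstance, hs, by simpa using hm⟩⟩
  obtain ⟨K, hK, hb, ht⟩ : ∃ K : Subgroup G, K.Normal ∧ K ≠ ⊥ ∧ K ≠ ⊤ := by
    by_contra hc
    push Not at hc
    apply hs
    refine { exists_pair_ne := hnt.exists_pair_ne, eq_bot_or_eq_top_of_normal := fun N hN => ?_ }
    by_cases h : N = ⊥
    · exact Or.inl h
    · exact Or.inr (hc N hN h)
  obtain ⟨P⟩ : Nonempty (Sylow p G) := inferInstance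
  have hltsub : ∀ H : Subgroup G, H ≠ ⊤ → Nat.card H < Nat.card G := fun H hH =>
    lt_of_le_of_ne (Subgroup.card_le_card_group H) (fun h => hH (Subgroup.eq_top_of_card_eq H h))
  have hltq : ∀ (H K : Subgroup G) [(K.subgroupOf H).Normal], K ≠ ⊥ → K ≤ H → Nat.card (H ⧸ K.subgroupOf H) < Nat.card G := by
    intro H K _ hK hKH
    have h1 := Subgroup.card_eq_card_quotient_mul_card_subgroup (K.subgroupOf H)
    have h2 : 1 < Nat.card (K.subgroupOf H) := by
      rw [Nat.card_congr (Subgroup.subgroupOfEquivOfLe hKH).toEquiv, Finite.one_lt_card_iff_nontrivial]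
      exact (Subgroup.nontrivial_iff_ne_bot K).mpr hK
    have h3 : 0 < Nat.card (H ⧸ K.subgroupOf H) := Nat.card_pos
    have h4 := Subgroup.card_le_card_group H
    nlinarith
  have hcomb : ∀ {a b c : ℕ}, c = a * b →
      (∃ l : List ℕ, l.prod = a ∧ ∀ m ∈ l, (IsPrimePow m ∧ m % p = 1) ∨
        ∃ (S : Type u) (_ : Group S) (_ : Finite S), IsSimpleGroup S ∧ m = Nat.card (Sylow p S)) →
      (∃ l : List ℕ, l.prod = b ∧ ∀ m ∈ l, (IsPrimePow m ∧ m % p = 1) ∨
        ∃ (S : Type u) (_ : Group S) (_ : Finite S), IsSimpleGroup S ∧ m = Nat.card (Sylow p S)) →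
      ∃ l : List ℕ, l.prod = c ∧ ∀ m ∈ l, (IsPrimePow m ∧ m % p = 1) ∨
        ∃ (S : Type u) (_ : Group S) (_ : Finite S), IsSimpleGroup S ∧ m = Nat.card (Sylow p S) := by
    rintro a b c hc ⟨l, hl, hl'⟩ ⟨k, hk, hk'⟩
    refine ⟨l ++ k, by rw [List.prod_append, hl, hk, hc], ?_⟩
    intro m hm
    rcases List.mem_append.mp hm with h | h
    · exact hl' m h
    · exact hk' m h
  by_cases hPK : (P : Subgroup G) ⊔ K = ⊤
  · have h2 := Cfsg.Agent.H24.SylCount.card_sylow_PK P K
    rw [hPK] at h2
    have h3 : Nat.card (Sylow p (⊤ : Subgroup G)) = Nat.card (Sylow p G) :=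
      Cfsg.Agent.H24.SylCount.card_sylow_congr Subgroup.topEquiv
    rw [h3, top_inf_eq] at h2
    by_cases hPb : (P : Subgroup G) ⊓ K = ⊥
    · exact Cfsg.Agent.H24.SylCount2.coprime_case P K hPK hPb
    · have hN : (((P : Subgroup G) ⊓ K).subgroupOf (Subgroup.normalizer (((P : Subgroup G) ⊓ K : Subgroup G) : Set G))).Normal :=
        Subgroup.normal_in_normalizer
      have h4 : IsPGroup p (((P : Subgroup G) ⊓ K).subgroupOf (Subgroup.normalizer (((P : Subgroup G) ⊓ K : Subgroup G) : Set G))) :=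
        (P.isPGroup'.to_le inf_le_left).comap_of_injective _ (Subgroup.subtype_injective _)
      rw [← Cfsg.Agent.H24.SylCount.card_sylow_quot_pgroup _ h4] at h2
      exact hcomb h2 (ih _ (hltsub K ht) rfl) (ih _ (hltq _ _ hPb Subgroup.le_normalizer) rfl)
  · have h1 := Cfsg.Agent.H24.SylCount.card_sylow_mul P K
    have hlt : Nat.card (G ⧸ K) < Nat.card G := by
      have h1 := Subgroup.card_eq_card_quotient_mul_card_subgroup K
      have h2 : 1 < Nat.card K := by
        rw [Finite.one_lt_card_iff_nontrivial]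
        exact (Subgroup.nontrivial_iff_ne_bot K).mpr hb
      have h3 : 0 < Nat.card (G ⧸ K) := Nat.card_pos
      rw [h1]
      nlinarith
    exact hcomb h1 (ih _ hlt rfl) (ih _ (hltsub _ hPK) rfl)

end Cfsg.Agent.S4303
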