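import Cfsg.Statements.S4323
import Cfsg.Agent.H22_QQ8
-- import your own Cfsg.Agent.* helpers here

set_option autoImplicit false
open Cfsg

namespace Cfsg.Agent.S4323

/-- Let `q` be a prime and `A` a non-cyclic group of order `q²` acting by automorphisms on a finite group `G` of order prime to `q`, such that the fixed-point subgroup `C_G(a)` is abelian for every non-identity `a ∈ A`. Then `G` is solvable. -/
theorem result {A G : Type*} [Group A] [Finite A]
    [Group G] [Finite G] [MulDistribMulAction A G] (q : ℕ) (hq : q.Prime) (hA : Nat.card A = q ^ 2) (hnc : ¬ IsCyclic A)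
    (hcop : ¬ q ∣ Nat.card G) (h : ∀ a : A, a ≠ 1 → IsMulCommutative ↥(FixedPoints.subgroup (Subgroup.zpowers a) G)) :
    Group.IsSolvable G := by
  have hqf : Fact q.Prime := ⟨hq⟩
  set φ : A →* MulAut G := MulDistribMulAction.toMulAut A G with hφ
  have hφa : ∀ (a : A) (g : G), φ a g = a • g := fun a g => rfl
  have hcA : ∀ a b : A, a * b = b * a := by
    have h1 := IsPGroup.isMulCommutative_of_card_eq_prime_sq hA
    exact fun a b => h1.is_comm.comm a b
  have hpA : ∀ a : A, a ^ q = 1 := by
    intro a
    have h1 : orderOf a ∣ q ^ 2 := by rw [← hA]; exact orderOf_dvd_natCard a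
    obtain ⟨k, hk, hk2⟩ := (Nat.dvd_prime_pow hq).mp h1
    have h2 : k ≠ 2 := by
      rintro rfl
      exact hnc (isCyclic_of_orderOf_eq_card a (by rw [hk2, hA]))
    apply orderOf_dvd_iff_pow_eq_one.mp
    rw [hk2]
    have h3 : k ≤ 1 := by omega
    calc q ^ k ∣ q ^ 1 := pow_dvd_pow q h3
      _ = q := pow_one q
  let X := G ⋊[φ] A
  have hfin : Finite X := Finite.of_equiv _ (SemidirectProduct.equivProd (φ := φ)).symm
  let K : Subgroup X := (SemidirectProduct.inl : G →* X).range
  let A' : Subgroup X := (SemidirectProduct.inr : A →* X).range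
  have hK : K.Normal := by
    have h1 : K = (SemidirectProduct.rightHom : X →* A).ker := SemidirectProduct.range_inl_eq_ker_rightHom
    rw [h1]; infer_instance
  have hcK : Nat.card K = Nat.card G :=
    (Nat.card_congr (MonoidHom.ofInjective (SemidirectProduct.inl_injective (φ := φ))).toEquiv).symm
  have hcA' : Nat.card A' = Nat.card A :=
    (Nat.card_congr (MonoidHom.ofInjective (SemidirectProduct.inr_injective (φ := φ))).toEquiv).symm
  have hEA : H22.Ward.EA q A' := by
    refine ⟨?_, ?_, by rw [hcA', hA]⟩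
    · rintro _ ⟨a, rfl⟩ _ ⟨b, rfl⟩
      rw [← map_mul, ← map_mul, hcA]
    · rintro _ ⟨a, rfl⟩
      rw [← map_pow, hpA, map_one]
  have htop : K ⊔ A' = ⊤ := by
    rw [eq_top_iff]
    rintro x -
    rw [← SemidirectProduct.inl_left_mul_inr_right x]
    exact Subgroup.mul_mem_sup ⟨_, rfl⟩ ⟨_, rfl⟩
  have hcop' : (Nat.card A').Coprime (Nat.card K) := by
    rw [hcA', hcK, hA]
    exact Nat.Coprime.pow_left 2 ((Nat.Prime.coprime_iff_not_dvd hq).mpr hcop)
  have hab : H22.QQ.AB K A' := by
    rintro _ ⟨a, rfl⟩ ha1 _ ⟨x, rfl⟩ _ ⟨y, rfl⟩ hxa hya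
    have ha : a ≠ 1 := by
      rintro rfl
      exact ha1 (map_one _)
    have hfix : ∀ z : G, (SemidirectProduct.inl z : X) * SemidirectProduct.inr a = SemidirectProduct.inr a * SemidirectProduct.inl z →
        z ∈ FixedPoints.subgroup (Subgroup.zpowers a) G := by
      intro z hz
      have h1 : (SemidirectProduct.inl (φ a z) : X) = SemidirectProduct.inl z := by
        rw [SemidirectProduct.inl_aut, ← hz, map_inv, mul_inv_cancel_right]
      have h2 : a • z = z := SemidirectProduct.inl_injective h1
      rintro ⟨b, hb⟩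
      show b • z = z
      obtain ⟨i, rfl⟩ := Subgroup.mem_zpowers_iff.mp hb
      have h3 : a ∈ MulAction.stabilizer A z := h2
      exact (MulAction.stabilizer A z).zpow_mem h3 i
    have h1 := h a ha
    have h2 := congrArg Subtype.val (h1.is_comm.comm (⟨x, hfix x hxa⟩ : FixedPoints.subgroup (Subgroup.zpowers a) G) ⟨y, hfix y hya⟩)
    have h3 : x * y = y * x := h2
    rw [← map_mul, ← map_mul, h3]
  have hs := H22.QQ.main q (Nat.card K) X K A' hK hEA htop hcop' hab rfl
  exact Group.isSolvable_of_isSolvable_injective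
    (f := (MonoidHom.ofInjective (SemidirectProduct.inl_injective (φ := φ))).toMonoidHom)
    (MonoidHom.ofInjective (SemidirectProduct.inl_injective (φ := φ))).injective

end Cfsg.Agent.S4323
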