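import Cfsg.Statements.S4347
import Mathlib
import Cfsg.Agent.H24_Sylow

set_option autoImplicit false
open Cfsg

namespace Cfsg.Agent.S4347

/-- Let G be a finite group and p a prime. Say a Sylow p-subgroup Q is redundant when every element of p-power order lies in some Sylow p-subgroup other than Q. Then G has no redundant Sylow p-subgroup if and only if some element of p-power order lies in exactly one Sylow p-subgroup. -/
theorem result {G : Type*} [Group G] [Finite G]
    (p : ℕ) [Fact p.Prime] :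
    (¬ ∃ Q : Sylow p G, ∀ x : G, (∃ k : ℕ, orderOf x = p ^ k) → ∃ P : Sylow p G, P ≠ Q ∧ x ∈ P) ↔
      ∃ x : G, (∃ k : ℕ, orderOf x = p ^ k) ∧ ∃! P : Sylow p G, x ∈ P := by
  constructor
  · intro h
    push Not at h
    obtain ⟨Q⟩ : Nonempty (Sylow p G) := inferInstance
    obtain ⟨x, ⟨k, hk⟩, hx⟩ := h Q
    refine ⟨x, ⟨k, hk⟩, ?_⟩
    have hp : IsPGroup p (Subgroup.zpowers x) := by
      apply IsPGroup.of_card (n := k); rw [Nat.card_zpowers, hk]
    obtain ⟨R, hR⟩ := hp.exists_le_sylow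
    have hxR : x ∈ R := hR (Subgroup.mem_zpowers x)
    refine ⟨R, hxR, fun T hT => ?_⟩
    have h1 : T = Q := by by_contra h'; exact hx T h' hT
    have h2 : R = Q := by by_contra h'; exact hx R h' hxR
    rw [h1, h2]
  · rintro ⟨x, ⟨k, hk⟩, P, hxP, huniq⟩ ⟨Q, hQ⟩
    obtain ⟨g, hg⟩ := MulAction.exists_smul_eq G P Q
    obtain ⟨R, hRQ, hxR⟩ := hQ (g * x * g⁻¹) ⟨k, by rw [← MulAut.conj_apply, MulEquiv.orderOf_eq, hk]⟩
    apply hRQ
    have h1 : x ∈ ((g⁻¹ • R : Sylow p G) : Subgroup G) := by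
      rw [Cfsg.Agent.H24.Sylow.mem_smul_sylow, inv_inv]; exact hxR
    have h2 := huniq (g⁻¹ • R) h1
    rw [← hg, ← h2, smul_inv_smul]

end Cfsg.Agent.S4347
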