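import Cfsg.Statements.S4348
import Mathlib
import Cfsg.Agent.H1_Nilp

set_option autoImplicit false
open Cfsg

namespace Cfsg.Agent.S4348

open scoped Pointwise

/-- Let G be a finite group, p a prime and P a Sylow p-subgroup of G, and let O_p(G) be the largest normal p-subgroup of G. If P/O_p(G) is cyclic, then some element of p-power order of G lies in exactly one Sylow p-subgroup. -/
theorem result {G : Type*} [Group G] [Finite G]
    (p : ℕ) [Fact p.Prime] (P : Sylow p G)
    [hn : ((Cfsg.pCore p G).subgroupOf (P : Subgroup G)).Normal]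
    (hc : IsCyclic ((P : Subgroup G) ⧸ (Cfsg.pCore p G).subgroupOf (P : Subgroup G))) :
    ∃ x : G, (∃ k : ℕ, orderOf x = p ^ k) ∧ ∃! Q : Sylow p G, x ∈ Q := by
  obtain ⟨c, hc⟩ := hc.exists_generator
  obtain ⟨x, rfl⟩ := QuotientGroup.mk_surjective c
  refine ⟨x, ?_, P, x.2, ?_⟩
  · obtain ⟨j, hj⟩ := P.isPGroup' x
    have : (x : G) ^ p ^ j = 1 := by simpa [Subtype.ext_iff] using hj
    obtain ⟨i, _, hi⟩ := (Nat.dvd_prime_pow Fact.out).mp (orderOf_dvd_of_pow_eq_one this)
    exact ⟨i, hi⟩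
  · intro Q hQ
    have hcore : Cfsg.pCore p G ≤ Q := by
      have hn := Cfsg.Agent.H1.Nilp.pCore_normal (G := G) p
      have hpg := Cfsg.Agent.H1.Nilp.pCore_isPGroup (G := G) p
      obtain ⟨R, hR⟩ := hpg.exists_le_sylow
      obtain ⟨g, hg⟩ := MulAction.exists_smul_eq G R Q
      intro y hy
      rw [← hg]
      have h1 : g⁻¹ * y * g ∈ R := hR (by simpa using hn.conj_mem y hy g⁻¹)
      have h2 : y ∈ ((g • R : Sylow p G) : Subgroup G) := by
        rw [Sylow.coe_subgroup_smul, Subgroup.mem_pointwise_smul_iff_inv_smul_mem, ← map_inv,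
          MulAut.smul_def, MulAut.conj_apply, inv_inv]
        exact h1
      exact h2
    have hle : (P : Subgroup G) ≤ Q := by
      intro y hy
      obtain ⟨n, hn⟩ := Subgroup.mem_zpowers_iff.mp (hc (QuotientGroup.mk ⟨y, hy⟩))
      rw [← QuotientGroup.mk_zpow, QuotientGroup.eq] at hn
      rw [Subgroup.mem_subgroupOf] at hn
      have h1 : (x : G) ^ n ∈ (Q : Subgroup G) := Subgroup.zpow_mem _ hQ n
      have h2 := (Q : Subgroup G).mul_mem h1 (hcore hn)
      simpa using h2
    apply Sylow.ext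
    exact P.is_maximal' Q.isPGroup' hle

end Cfsg.Agent.S4348
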