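import Cfsg.Statements.S4349
import Mathlib
import Cfsg.Agent.H23_GoodPerm2


set_option autoImplicit false
open Cfsg

namespace Cfsg.Agent.S4349
open Equiv Cfsg.Agent.H23.GoodPerm

section

variable {n : ℕ}

theorem per_supp (x : Perm (Fin n)) (a : Fin n) (ha : x a ≠ a) : per x a = (x.cycleOf a).support.card := by
  rw [per_card, Nat.card_coe_set_eq, ← Set.ncard_coe_finset]
  congr 1
  ext b
  rw [Finset.mem_coe, Perm.mem_support_cycleOf_iff]
  constructor
  · rintro ⟨⟨_, k, rfl⟩, hk⟩
    exact ⟨⟨k, hk⟩, Perm.mem_support.2 ha⟩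
  · rintro ⟨⟨k, hk⟩, -⟩
    exact ⟨⟨x ^ k, k, rfl⟩, hk⟩

theorem good_of (x : Perm (Fin n)) (hx : ∃ k : ℕ, orderOf x = 2 ^ k) (h1 : n ≤ x.support.card + 2) (h2 : x.cycleType.Nodup) : Good x := by
  refine ⟨?_, ?_, ?_⟩
  · intro a b c ha hb hc
    by_contra hcon
    push Not at hcon
    obtain ⟨hab, hac, hbc⟩ := hcon
    have h3 : ({a, b, c} : Finset (Fin n)) ⊆ x.supportᶜ := by
      intro y hy
      rw [Finset.mem_compl, Perm.mem_support, not_not]
      simp only [Finset.mem_insert, Finset.mem_singleton] at hy
      rcases hy with hy | hy | hy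
      · rw [hy]; exact ha
      · rw [hy]; exact hb
      · rw [hy]; exact hc
    have h4 := Finset.card_le_card h3
    rw [Finset.card_compl, Fintype.card_fin, Finset.card_eq_three.2 ⟨a, b, c, hab, hac, hbc, rfl⟩] at h4
    omega
  · intro a b ha hab
    have hb : x b ≠ b := by
      intro h
      rw [per_one.2 h, per_one] at hab
      exact ha hab
    rw [per_supp x a ha, per_supp x b hb] at hab
    rw [Perm.cycleType_def] at h2
    have h3 := Multiset.inj_on_of_nodup_map h2
    have h4 := h3 (x.cycleOf a) ((Finset.mem_val).symm ▸ (Perm.cycleOf_mem_cycleFactorsFinset_iff.2 (Perm.mem_support.2 ha))) (x.cycleOf b)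
      ((Finset.mem_val).symm ▸ (Perm.cycleOf_mem_cycleFactorsFinset_iff.2 (Perm.mem_support.2 hb))) hab
    have h5 : b ∈ (x.cycleOf a).support := by
      rw [h4, Perm.mem_support_cycleOf_iff]
      exact ⟨Perm.SameCycle.refl _ _, Perm.mem_support.2 hb⟩
    rw [Perm.mem_support_cycleOf_iff] at h5
    exact h5.1
  · obtain ⟨k, hk⟩ := hx
    exact ⟨k, by rw [← hk, pow_orderOf_eq_one]⟩

theorem two_zp {y : Perm (Fin n)} (h : ∃ k : ℕ, orderOf y = 2 ^ k) : IsPGroup 2 (Subgroup.zpowers y) := by
  rw [IsPGroup.iff_card, Nat.card_zpowers]; exact h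

theorem comm_zp {x y : Perm (Fin n)} (h : x * y = y * x) : Subgroup.zpowers y ≤ Subgroup.normalizer ((Subgroup.zpowers x : Subgroup (Perm (Fin n))) : Set (Perm (Fin n))) := by
  rw [Subgroup.zpowers_le]
  apply Cfsg.Agent.H24.Tools.mem_normalizer
  rintro _ ⟨k, rfl⟩
  refine ⟨k, ?_⟩
  change x ^ k = y * x ^ k * y⁻¹
  have h1 : Commute (x ^ k) y := (show Commute x y from h).zpow_left k
  rw [← h1.eq, mul_inv_cancel_right]

end

/-- Let n ≥ 2 and let x be an element of 2-power order of the symmetric group of degree n. Then x lies in exactly one Sylow 2-subgroup if and only if x has at most two fixed points and the nontrivial cycles of x have pairwise different lengths. -/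
theorem result (n : ℕ) (hn : 2 ≤ n)
    (x : Equiv.Perm (Fin n)) (hx : ∃ k : ℕ, orderOf x = 2 ^ k) :
    (∃! P : Sylow 2 (Equiv.Perm (Fin n)), x ∈ P) ↔ (n ≤ x.support.card + 2 ∧ x.cycleType.Nodup) := by
  haveI : Fact (Nat.Prime 2) := ⟨Nat.prime_two⟩
  constructor
  · rintro ⟨P, hxP, huniq⟩
    have hP : ∀ R : Subgroup (Perm (Fin n)), IsPGroup 2 R → x ∈ R → R ≤ P := by
      intro R hR hxR
      obtain ⟨Q, hQ⟩ := hR.exists_le_sylow
      have := huniq Q (hQ hxR)
      rw [← this]; exact hQ
    have hcommP : ∀ y : Perm (Fin n), (∃ k : ℕ, orderOf y = 2 ^ k) → x * y = y * x → y ∈ P := by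
      intro y hy hxy
      have h1 := IsPGroup.to_sup_of_normal_right' (two_zp hy) (two_zp hx) (comm_zp hxy)
      exact hP _ h1 (Subgroup.mem_sup_right (Subgroup.mem_zpowers x)) (Subgroup.mem_sup_left (Subgroup.mem_zpowers y))
    constructor
    · by_contra hcon
      push Not at hcon
      have h1 : 2 < (x.supportᶜ).card := by
        rw [Finset.card_compl, Fintype.card_fin]; omega
      obtain ⟨a, ha, b, hb, c, hc, hab, hac, hbc⟩ := Finset.two_lt_card.1 h1
      rw [Finset.mem_compl, Perm.mem_support, not_not] at ha hb hc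
      have hs : ∀ u v : Fin n, x u = u → x v = v → u ≠ v → swap u v ∈ P := by
        intro u v hu hv huv
        apply hcommP
        · exact ⟨1, by rw [pow_one]; exact Perm.IsSwap.orderOf ⟨u, v, huv, rfl⟩⟩
        · rw [Equiv.mul_swap_eq_swap_mul, hu, hv]
      have h3 := mul_mem (hs a b ha hb hab) (hs a c ha hc hac)
      have h4 := (Perm.isThreeCycle_swap_mul_swap_same hab hac hbc).orderOf
      obtain ⟨k, hk⟩ := P.2 ⟨_, h3⟩
      have hk' : (swap a b * swap a c) ^ 2 ^ k = 1 := congrArg Subtype.val hk
      have h5 := orderOf_dvd_of_pow_eq_one hk'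
      rw [h4] at h5
      have := Nat.prime_three.dvd_of_dvd_pow h5
      omega
    · rw [Perm.cycleType_def]
      apply Multiset.Nodup.map_on _ x.cycleFactorsFinset.2
      intro c hc d hd hcd
      by_contra hne
      have hc' : c ∈ x.cycleFactorsFinset := hc
      have hd' : d ∈ x.cycleFactorsFinset := hd
      have hcyc := (Perm.mem_cycleFactorsFinset_iff.1 hc').1
      have hcyd := (Perm.mem_cycleFactorsFinset_iff.1 hd').1
      obtain ⟨a, ha⟩ := hcyc.nonempty_support
      obtain ⟨b, hb⟩ := hcyd.nonempty_support
      have hca : c = x.cycleOf a := Perm.cycle_is_cycleOf ha hc'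
      have hdb : d = x.cycleOf b := Perm.cycle_is_cycleOf hb hd'
      have hxa : x a ≠ a := by
        rw [hca, Perm.mem_support_cycleOf_iff] at ha
        exact Perm.mem_support.1 ha.2
      have hxb : x b ≠ b := by
        rw [hdb, Perm.mem_support_cycleOf_iff] at hb
        exact Perm.mem_support.1 hb.2
      have hnsc : ¬ x.SameCycle a b := by
        intro h
        apply hne
        rw [hca, hdb]
        exact h.cycleOf_eq
      have hper : per x a = per x b := by
        rw [per_supp x a hxa, per_supp x b hxb, ← hca, ← hdb]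
        exact hcd
      -- c ∈ P
      have hcP : c ∈ P := by
        apply hcommP
        · obtain ⟨k, hk⟩ := hx
          have h1 : orderOf c ∣ 2 ^ k := by
            rw [← hk, hca]; exact Perm.orderOf_cycleOf_dvd_orderOf _ _
          obtain ⟨i, -, hi⟩ := (Nat.dvd_prime_pow Nat.prime_two).1 h1
          exact ⟨i, hi⟩
        · exact (Perm.self_mem_cycle_factors_commute hc').symm
      -- the elementary abelian group E
      set s : ℤ → Perm (Fin n) := fun i => swap ((x ^ i) a) ((x ^ i) b) with hs
      have hsab : ∀ i j : ℤ, (x ^ i) a ≠ (x ^ j) b := by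
        intro i j h
        apply hnsc
        refine ⟨-j + i, ?_⟩
        rw [zpow_add, Perm.mul_apply, h, ← Perm.mul_apply, ← zpow_add, neg_add_cancel, zpow_zero]
        rfl
      have heqij : ∀ i j : ℤ, (x ^ i) a = (x ^ j) a ↔ (x ^ i) b = (x ^ j) b := by
        intro i j
        have e : ∀ u : Fin n, (x ^ i) u = (x ^ j) u ↔ (per x u : ℤ) ∣ -j + i := by
          intro u
          rw [← zpow_fix, zpow_add, Perm.mul_apply]
          constructor
          · intro h
            rw [h, ← Perm.mul_apply, ← zpow_add, neg_add_cancel, zpow_zero]; rfl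
          · intro h
            have h2 := congrArg (x ^ j) h
            rw [← Perm.mul_apply, ← zpow_add, add_neg_cancel, zpow_zero] at h2
            exact h2
        rw [e, e, hper]
      have hscomm : ∀ u ∈ Set.range s, ∀ v ∈ Set.range s, u * v = v * u := by
        rintro _ ⟨i, rfl⟩ _ ⟨j, rfl⟩
        by_cases hij : (x ^ i) a = (x ^ j) a
        · have h1 : s i = s j := by
            rw [hs]
            change swap ((x ^ i) a) ((x ^ i) b) = swap ((x ^ j) a) ((x ^ j) b)
            rw [hij, (heqij i j).1 hij]
          rw [h1]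
        · have hij' : (x ^ i) b ≠ (x ^ j) b := fun h => hij ((heqij i j).2 h)
          change swap ((x ^ i) a) ((x ^ i) b) * swap ((x ^ j) a) ((x ^ j) b) = swap ((x ^ j) a) ((x ^ j) b) * swap ((x ^ i) a) ((x ^ i) b)
          rw [Equiv.mul_swap_eq_swap_mul, swap_apply_of_ne_of_ne (Ne.symm hij) (hsab j i), swap_apply_of_ne_of_ne (hsab i j).symm hij'.symm]
      set E := Subgroup.closure (Set.range s) with hE
      have hE2 : IsPGroup 2 E := by
        intro e
        refine ⟨1, ?_⟩
        obtain ⟨e, he⟩ := e
        apply Subtype.ext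
        change e ^ 2 ^ 1 = 1
        rw [pow_one]
        have key : e ^ 2 = 1 := by
          have he0 := he
          rw [hE] at he
          induction he using Subgroup.closure_induction with
          | mem y hy =>
            obtain ⟨i, rfl⟩ := hy
            rw [sq]
            exact swap_mul_self _ _
          | one => exact one_pow _
          | mul y z hy hz h1 h2 =>
            have : Commute y z := by
              letI := Subgroup.closureCommGroupOfComm hscomm
              exact congrArg Subtype.val (mul_comm (⟨y, hy⟩ : Subgroup.closure (Set.range s)) ⟨z, hz⟩)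
            rw [this.mul_pow, h1 hy, h2 hz, one_mul]
          | inv y hy h1 => rw [inv_pow, h1 hy, inv_one]
        exact key
      have hxE : Subgroup.zpowers x ≤ Subgroup.normalizer (E : Set (Perm (Fin n))) := by
        rw [Subgroup.zpowers_le]
        apply Cfsg.Agent.H24.Tools.mem_normalizer
        intro e he
        rw [hE] at he
        induction he using Subgroup.closure_induction with
        | mem y hy =>
          obtain ⟨i, rfl⟩ := hy
          apply Subgroup.subset_closure
          refine ⟨1 + i, ?_⟩
          change swap ((x ^ (1 + i)) a) ((x ^ (1 + i)) b) = x * swap ((x ^ i) a) ((x ^ i) b) * x⁻¹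
          rw [Equiv.mul_swap_eq_swap_mul, mul_inv_cancel_right, zpow_add, zpow_one]
          rfl
        | one => rw [mul_one, mul_inv_cancel]; exact one_mem _
        | mul y z hy hz h1 h2 =>
          have : x * (y * z) * x⁻¹ = (x * y * x⁻¹) * (x * z * x⁻¹) := by group
          rw [this]; exact mul_mem h1 h2
        | inv y hy h1 =>
          have : x * y⁻¹ * x⁻¹ = (x * y * x⁻¹)⁻¹ := by group
          rw [this]; exact inv_mem h1
      have hsP : swap a b ∈ P := by
        have h1 := IsPGroup.to_sup_of_normal_right' (two_zp hx) hE2 hxE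
        exact hP _ h1 (Subgroup.mem_sup_left (Subgroup.mem_zpowers x)) (Subgroup.mem_sup_right (Subgroup.subset_closure ⟨0, rfl⟩))
      -- the orbit of a
      set Q := Subgroup.closure ({c, swap a b} : Set (Perm (Fin n))) with hQ
      have hQ2 : IsPGroup 2 Q := by
        apply P.2.to_le
        rw [hQ, Subgroup.closure_le]
        rintro y (rfl | rfl)
        · exact hcP
        · exact hsP
      have hsQ : swap a b ∈ Q := Subgroup.subset_closure (Set.mem_insert_of_mem _ rfl)
      have hcQ : c ∈ Q := Subgroup.subset_closure (Set.mem_insert _ _)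
      set S : Set (Fin n) := insert b {y | x.SameCycle a y} with hS
      have hcS : ∀ y, c y ∈ S ↔ y ∈ S := by
        intro y
        rw [hca]
        by_cases hy : x.SameCycle a y
        · rw [hy.cycleOf_apply]
          have h1 : x.SameCycle a (x y) := Perm.sameCycle_apply_right.2 hy
          exact ⟨fun _ => Or.inr hy, fun _ => Or.inr h1⟩
        · rw [Perm.cycleOf_apply_of_not_sameCycle hy]
      have hsS : ∀ y, swap a b y ∈ S ↔ y ∈ S := by
        intro y
        have haS : a ∈ S := Or.inr (Perm.SameCycle.refl _ _)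
        have hbS : b ∈ S := Or.inl rfl
        by_cases hya : y = a
        · rw [hya, swap_apply_left]
          exact ⟨fun _ => haS, fun _ => hbS⟩
        by_cases hyb : y = b
        · rw [hyb, swap_apply_right]
          exact ⟨fun _ => hbS, fun _ => haS⟩
        rw [swap_apply_of_ne_of_ne hya hyb]
      have hQS : ∀ q ∈ Q, ∀ y, q y ∈ S ↔ y ∈ S := by
        intro q hq
        induction hq using Subgroup.closure_induction with
        | mem y hy =>
          rcases hy with rfl | rfl
          · exact hcS
          · exact hsS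
        | one => intro y; rfl
        | mul y z _ _ h1 h2 => intro w; exact (h1 (z w)).trans (h2 w)
        | inv y _ h1 =>
          intro w
          rw [← h1 (y⁻¹ w)]
          have : y (y⁻¹ w) = w := by simp
          rw [this]
      have horb : MulAction.orbit Q a = S := by
        apply Set.Subset.antisymm
        · rintro _ ⟨q, rfl⟩
          exact (hQS q q.2 a).2 (Or.inr (Perm.SameCycle.refl _ _))
        · rintro y (hy | hy)
          · rw [hy]
            exact ⟨⟨swap a b, hsQ⟩, swap_apply_left _ _⟩
          · obtain ⟨k, hk⟩ := hy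
            refine ⟨⟨c ^ k, Subgroup.zpow_mem _ hcQ k⟩, ?_⟩
            change (c ^ k) a = y
            rw [hca, Perm.cycleOf_zpow_apply_self, hk]
      obtain ⟨m, hm⟩ := hQ2.card_orbit a
      rw [horb, Nat.card_coe_set_eq] at hm
      have h1 : S.ncard = per x a + 1 := by
        rw [hS, Set.ncard_insert_of_notMem (show b ∉ {y | x.SameCycle a y} from hnsc), per_card, Nat.card_coe_set_eq]
        congr 2
        ext y
        constructor
        · rintro ⟨k, hk⟩
          exact ⟨⟨x ^ k, k, rfl⟩, hk⟩
        · rintro ⟨⟨_, k, rfl⟩, hk⟩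
          exact ⟨k, hk⟩
      obtain ⟨k, hk⟩ := hx
      have h2 : per x a ∣ 2 ^ k := by rw [← pow_fix, ← hk, pow_orderOf_eq_one]; rfl
      obtain ⟨j, -, hj⟩ := (Nat.dvd_prime_pow Nat.prime_two).1 h2
      rcases j with _ | j
      · rw [pow_zero, per_one] at hj
        exact hxa hj
      · rw [h1, hj] at hm
        rcases m with _ | m
        · rw [pow_zero] at hm
          have : 0 < 2 ^ (j + 1) := by positivity
          omega
        · rw [pow_succ, pow_succ] at hm
          omega
  · rintro ⟨h1, h2⟩
    have hgood := good_of x hx h1 h2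
    obtain ⟨P, hP⟩ := (two_zp hx).exists_le_sylow
    exact ⟨P, hP (Subgroup.mem_zpowers x), fun Q hQ => sylow_unique hgood Q P hQ (hP (Subgroup.mem_zpowers x))⟩


end Cfsg.Agent.S4349
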