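import Cfsg.Statements.S4419
import Cfsg.Agent.H22_Meta3
import Cfsg.Agent.H2_Meta2
import Cfsg.Agent.H2_Fusion3
import Cfsg.Agent.H1_Coprime2
import Cfsg.Agent.H1_Nilp
import Cfsg.Agent.H23_Basic
import Cfsg.Agent.H24_Tools
import Cfsg.Agent.H13_Opp


set_option autoImplicit false
open Cfsg

namespace Cfsg.Agent.S4419

open Subgroup

universe u

/-- a nontrivial automorphism of prime power order acting on a small `p`-group -/
theorem dvd_of_small {V : Type u} [Group V] [Finite V] {p r b : ℕ} [hp : Fact p.Prime] [hr : Fact r.Prime] (hrp : r ≠ p)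
    (hV : IsPGroup p V) (hc : Nat.card V ≤ p * p) (β : MulAut V) (hβ : β ^ r ^ b = 1) (hne : β ≠ 1) : r ∣ p ^ 2 - 1 := by
  classical
  haveI := Fintype.ofFinite V
  let F : Subgroup V := β.toMonoidHom.eqLocus (MonoidHom.id V)
  obtain ⟨i, hi⟩ := IsPGroup.iff_card.1 hV
  obtain ⟨j, hj⟩ := IsPGroup.iff_card.1 (hV.to_subgroup F)
  have hFt : F ≠ ⊤ := by
    intro h
    apply hne
    ext v
    have : v ∈ F := h ▸ mem_top v
    exact this
  have hji : j < i := by
    have h1 := H2.Card.card_lt_of_lt (lt_top_iff_ne_top.2 hFt)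
    rw [Subgroup.card_top, hi, hj, Nat.pow_lt_pow_iff_right hp.out.one_lt] at h1
    exact h1
  have hi2 : i ≤ 2 := by
    rw [hi, ← pow_two, Nat.pow_le_pow_iff_right hp.out.one_lt] at hc
    exact hc
  have hmod : p ^ i ≡ p ^ j [MOD r] := by
    let f : Function.End V := fun v => β v
    have hf : f ^ r ^ b = 1 := by
      have h1 : ∀ n : ℕ, ∀ v, (f ^ n) v = (β ^ n) v := by
        intro n
        induction n with
        | zero => intro v; rfl
        | succ n ih =>
          intro v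
          rw [pow_succ, pow_succ]
          exact ih (β v)
      funext v
      rw [h1, hβ]; rfl
    have h2 := Equiv.Perm.card_fixedPoints_modEq hf
    rw [← Nat.card_eq_fintype_card, ← Nat.card_eq_fintype_card, hi] at h2
    have h3 : Nat.card f.fixedPoints = p ^ j := by
      rw [← hj]; rfl
    rw [h3] at h2
    exact h2
  have hd : r ∣ p ^ i - p ^ j := (Nat.modEq_iff_dvd' (Nat.pow_le_pow_right hp.out.pos hji.le)).1 hmod.symm
  have hcop : Nat.Coprime r (p ^ j) := by
    apply Nat.Coprime.pow_right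
    rw [Nat.coprime_primes hr.out hp.out]; exact hrp
  have h5 : p ^ i - p ^ j = p ^ j * (p ^ (i - j) - 1) := by
    rw [Nat.mul_sub, mul_one, ← pow_add]; congr 2; omega
  rw [h5] at hd
  have h6 := hcop.dvd_of_dvd_mul_left hd
  have h7 : i - j = 1 ∨ i - j = 2 := by omega
  rcases h7 with h7 | h7
  · rw [h7, pow_one] at h6
    exact h6.trans (by simpa using Nat.sub_dvd_pow_sub_pow p 1 2)
  · rw [h7] at h6; exact h6

theorem key {G : Type u} [Group G] [Finite G] {p r b : ℕ} [hp : Fact p.Prime] [hr : Fact r.Prime] (hrp : r ≠ p)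
    {Q : Subgroup G} (hQ : IsPGroup p Q) (hm : Cfsg.IsMetacyclic Q) {x : G} (hx : x ∈ normalizer (Q : Set G))
    (hxo : orderOf x = r ^ b) (hxc : x ∉ centralizer (Q : Set G)) : r ∣ p ^ 2 - 1 := by
  let α : MulAut Q := Q.normalizerMonoidHom ⟨x, hx⟩
  have hα : ∀ q : Q, ((α q : Q) : G) = x * q * x⁻¹ := fun q => rfl
  have hαp : ∀ n : ℕ, ∀ q : Q, (((α ^ n) q : Q) : G) = x ^ n * q * (x ^ n)⁻¹ := by
    intro n
    induction n with
    | zero => intro q; simp
    | succ n ih =>
      intro q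
      rw [pow_succ, pow_succ, MulAut.mul_apply, ih, hα]
      group
  let β := H2.Meta2.quotAut α (frattini Q) (H2.Meta2.map_eq_of_char α (frattini Q))
  have hβ : ∀ q : Q, β (QuotientGroup.mk' (frattini Q) q) = QuotientGroup.mk' (frattini Q) (α q) := fun q => rfl
  have hβp : ∀ n : ℕ, ∀ q : Q, (β ^ n) (QuotientGroup.mk' (frattini Q) q) = QuotientGroup.mk' (frattini Q) ((α ^ n) q) := by
    intro n
    induction n with
    | zero => intro q; rfl
    | succ n ih =>
      intro q
      rw [pow_succ, pow_succ, MulAut.mul_apply, MulAut.mul_apply, hβ, ih]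
  have hVp : IsPGroup p (Q ⧸ frattini Q) := hQ.to_quotient _
  refine dvd_of_small (b := b) hrp hVp ?_ β ?_ ?_
  · apply H2.Meta2.card_le_of_exp
    · exact H2.Meta2.metacyclic_of_surj (QuotientGroup.mk' (frattini Q)) (QuotientGroup.mk'_surjective _) hm
    · intro v
      obtain ⟨q, rfl⟩ := QuotientGroup.mk'_surjective _ v
      rw [← map_pow]
      apply (QuotientGroup.eq_one_iff _).2
      rw [H1.Nilp.mem_frattini_iff]
      intro M hM
      exact H22.Meta.pow_mem_of_isCoatom hQ hM q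
    · exact hp.out.pos
  · ext v
    obtain ⟨q, rfl⟩ := QuotientGroup.mk'_surjective _ v
    rw [hβp]
    have : (α ^ r ^ b) q = q := by
      apply Subtype.ext
      have h1 := pow_orderOf_eq_one x
      rw [hxo] at h1
      rw [hαp, h1]; simp
    rw [this]; rfl
  · intro h1
    apply hxc
    have hcop : (Nat.card (zpowers x)).Coprime (Nat.card (frattini Q)) := by
      obtain ⟨m, hm⟩ := IsPGroup.iff_card.1 (hQ.to_subgroup (frattini Q))
      rw [Nat.card_zpowers, hxo, hm]
      apply Nat.Coprime.pow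
      rw [Nat.coprime_primes hr.out hp.out]; exact hrp
    have h2 := H1.Coprime.trivial_on_frattini_quotient (zpowers x) Q (zpowers_le.2 hx) hcop ?_
    · exact h2 (mem_zpowers x)
    · intro a ha k hk
      have hfin : a ∈ Submonoid.powers x := mem_powers_iff_mem_zpowers.2 ha
      obtain ⟨n, rfl⟩ := hfin
      have h3 : (β ^ n) (QuotientGroup.mk' (frattini Q) ⟨k, hk⟩) = QuotientGroup.mk' (frattini Q) ⟨k, hk⟩ := by
        rw [h1]; simp
      rw [hβp] at h3
      have h4 : QuotientGroup.mk' (frattini Q) ((α ^ n) ⟨k, hk⟩ * (⟨k, hk⟩)⁻¹) = 1 := by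
        rw [map_mul, h3, map_inv, mul_inv_cancel]
      have h5 := (QuotientGroup.eq_one_iff _).1 h4
      refine ⟨_, h5, ?_⟩
      change ((((α ^ n) ⟨k, hk⟩ : Q) : G) * k⁻¹) = _
      rw [hαp]


/-- Let p be a prime and G a finite group whose Sylow p-subgroups are metacyclic (a cyclic normal subgroup with cyclic quotient). Then G has a normal p-complement if and only if the order of G/O_{p′,p}(G) is coprime to p² − 1. -/
theorem result {G : Type*} [Group G] [Finite G] (p : ℕ) [Fact p.Prime] (S : Sylow p G) (hS : Cfsg.IsMetacyclic ↥(S : Subgroup G)) : Cfsg.HasNormalPComplement p G ↔ Nat.Coprime (Nat.card (G ⧸ Cfsg.pPrimePCore p G)) (p ^ 2 - 1) := by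

  constructor
  · intro h
    obtain ⟨N, hN, hNp, k, hk⟩ := H2.Basic.npc_iff.1 h
    have h1 : N ≤ Cfsg.pPrimeCore p G := H1.Nilp.le_pPrimeCore hN (by
      rw [Nat.coprime_comm]
      exact (Nat.Prime.coprime_iff_not_dvd Fact.out).2 hNp)
    have h2 : IsPGroup p (G ⧸ Cfsg.pPrimeCore p G) := by
      have h3 : Nat.card (G ⧸ Cfsg.pPrimeCore p G) ∣ p ^ k := by
        rw [← index_eq_card, ← hk]; exact index_dvd_of_le h1
      obtain ⟨m, -, hm⟩ := (Nat.dvd_prime_pow Fact.out).1 h3
      exact IsPGroup.of_card hm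
    have h3 : Cfsg.pPrimePCore p G = ⊤ := by
      have h4 : Cfsg.pCore p (G ⧸ Cfsg.pPrimeCore p G) = ⊤ :=
        top_le_iff.1 (H1.Nilp.le_pCore (inferInstance : (⊤ : Subgroup (G ⧸ Cfsg.pPrimeCore p G)).Normal) (h2.to_subgroup ⊤))
      rw [Cfsg.pPrimePCore, h4, comap_top]
    have h4 : Nat.card (G ⧸ Cfsg.pPrimePCore p G) = 1 := by
      rw [← index_eq_card, h3, index_top]
    rw [h4]; exact Nat.coprime_one_left _
  · intro hcop
    apply H2.Fusion3.npc_of_frobenius_sylow S
    intro Q hQS g hg hgp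
    apply H23.Basic.mem_of_prime_pow_parts
    intro x hx r b hr hxo
    by_contra hxc
    haveI : Fact r.Prime := ⟨hr⟩
    have hQ : IsPGroup p Q := S.2.to_le hQS
    have hb : 0 < b := by
      rcases Nat.eq_zero_or_pos b with h0 | h0
      · subst h0
        rw [pow_zero, orderOf_eq_one_iff] at hxo
        exact absurd (hxo ▸ one_mem _) hxc
      · exact h0
    have hrp : r ≠ p := by
      rintro rfl
      have h1 : orderOf x ∣ orderOf g := orderOf_dvd_of_mem_zpowers hx
      rw [hxo] at h1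
      have h2 := Nat.Coprime.coprime_dvd_left ((dvd_pow_self r hb.ne').trans h1) hgp
      rw [Nat.coprime_self] at h2
      exact hr.one_lt.ne' h2
    have hxN : x ∈ normalizer (Q : Set G) := (zpowers_le.2 hg) hx
    have hQm : Cfsg.IsMetacyclic Q := by
      have h1 := H22.Meta.isMetacyclic_subgroup hS (Q.subgroupOf S)
      exact H2.Meta2.metacyclic_of_surj (subgroupOfEquivOfLe hQS).toMonoidHom (subgroupOfEquivOfLe hQS).surjective h1
    have hrd := key hrp hQ hQm hxN hxo hxc
    -- x ∈ L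
    have hLn : (Cfsg.pPrimePCore p G).Normal := H13.Opp.pPrimePCore_normal
    have hxL : x ∈ Cfsg.pPrimePCore p G := by
      rw [← QuotientGroup.eq_one_iff, ← orderOf_eq_one_iff]
      by_contra hne
      have h1 : orderOf (QuotientGroup.mk' (Cfsg.pPrimePCore p G) x) ∣ r ^ b := by
        rw [← hxo]; exact orderOf_map_dvd _ _
      change orderOf (QuotientGroup.mk' (Cfsg.pPrimePCore p G) x) ≠ 1 at hne
      obtain ⟨m, -, hm⟩ := (Nat.dvd_prime_pow hr).1 h1
      have hm0 : m ≠ 0 := by rintro rfl; exact hne (by rw [hm, pow_zero])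
      have h2 : r ∣ Nat.card (G ⧸ Cfsg.pPrimePCore p G) := by
        refine dvd_trans ?_ (orderOf_dvd_natCard (QuotientGroup.mk' (Cfsg.pPrimePCore p G) x))
        rw [hm]; exact dvd_pow_self r hm0
      have h3 := Nat.dvd_gcd h2 hrd
      rw [hcop] at h3
      exact hr.one_lt.ne' (Nat.dvd_one.1 h3)
    have hxK : x ∈ Cfsg.pPrimeCore p G := by
      rw [← QuotientGroup.eq_one_iff, ← orderOf_eq_one_iff]
      have h1 : orderOf (QuotientGroup.mk' (Cfsg.pPrimeCore p G) x) ∣ r ^ b := by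
        rw [← hxo]; exact orderOf_map_dvd _ _
      change orderOf (QuotientGroup.mk' (Cfsg.pPrimeCore p G) x) = 1
      obtain ⟨m, -, hm⟩ := (Nat.dvd_prime_pow hr).1 h1
      have h2 : QuotientGroup.mk' (Cfsg.pPrimeCore p G) x ∈ Cfsg.pCore p (G ⧸ Cfsg.pPrimeCore p G) := hxL
      obtain ⟨l, hl⟩ := IsPGroup.iff_orderOf.1 (H1.Nilp.pCore_isPGroup (G := G ⧸ Cfsg.pPrimeCore p G) p) ⟨_, h2⟩
      rw [← orderOf_coe] at hl
      change orderOf (QuotientGroup.mk' (Cfsg.pPrimeCore p G) x) = p ^ l at hl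
      have hc : Nat.Coprime (r ^ m) (p ^ l) := Nat.Coprime.pow _ _ ((Nat.coprime_primes hr Fact.out).2 hrp)
      rw [← hl, ← hm, Nat.coprime_self] at hc
      exact hc
    apply hxc
    rw [mem_centralizer_iff]
    intro q hq
    have h1 : x * q * x⁻¹ * q⁻¹ ∈ Q := mul_mem ((mem_normalizer_iff.1 hxN q).1 hq) (inv_mem hq)
    have h2 : x * q * x⁻¹ * q⁻¹ ∈ Cfsg.pPrimeCore p G := by
      have h3 := (H1.Nilp.pPrimeCore_normal (G := G) p).conj_mem _ (inv_mem hxK) q
      have h4 := mul_mem hxK h3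
      have h5 : x * (q * x⁻¹ * q⁻¹) = x * q * x⁻¹ * q⁻¹ := by group
      rw [h5] at h4; exact h4
    have h3 : x * q * x⁻¹ * q⁻¹ = 1 := by
      rw [← orderOf_eq_one_iff]
      have hd1 : orderOf (x * q * x⁻¹ * q⁻¹) ∣ Nat.card (Cfsg.pPrimeCore p G) := by
        have := orderOf_dvd_natCard (⟨_, h2⟩ : Cfsg.pPrimeCore p G)
        rw [← orderOf_coe] at this
        exact this
      obtain ⟨l, hl⟩ := IsPGroup.iff_orderOf.1 hQ ⟨_, h1⟩
      rw [← orderOf_coe] at hl
      change orderOf (x * q * x⁻¹ * q⁻¹) = p ^ l at hl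
      have hc := Nat.Coprime.coprime_dvd_left hd1 ((H1.Nilp.pPrimeCore_coprime (G := G) p).pow_right l)
      rw [← hl, Nat.coprime_self] at hc
      exact hc
    calc q * x = (x * q * x⁻¹ * q⁻¹)⁻¹ * (x * q) := by group
      _ = x * q := by rw [h3, inv_one, one_mul]


end Cfsg.Agent.S4419
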