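import Cfsg.Statements.S4591
import Cfsg.Agent.H10_PpDeg
import Cfsg.Agent.S0081
import Cfsg.Agent.H2_Fusion

set_option autoImplicit false
open Cfsg

namespace Cfsg.Agent.S4591

open scoped ComplexConjugate commutatorElement
open Cfsg.Agent Cfsg.Agent.H3.CharBasic Cfsg.Agent.H3.CharIrr Cfsg.Agent.H3.CharInt Cfsg.Agent.H3.CharCalc
  Cfsg.Agent.H3.CharComplete Cfsg.Agent.H3.CharInd Cfsg.Agent.H3.CharMult Cfsg.Agent.H3.CharQuot
  Cfsg.Agent.H3.Clifford Cfsg.Agent.H1.Deg Cfsg.Agent.H1.Basic Cfsg.Agent.H10.PpDeg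

/-- a normal `p`-complement of a normal subgroup is normal -/
theorem exists_complement {G : Type*} [Group G] [Finite G] {p : ℕ} [hp : Fact p.Prime] {C : Subgroup G} [hC : C.Normal]
    (h : HasNormalPComplement p C) :
    ∃ M : Subgroup G, M.Normal ∧ M ≤ C ∧ ¬ p ∣ Nat.card M ∧ ∃ k, M.relIndex C = p ^ k := by
  obtain ⟨N, hN, hNc', k, hk⟩ := H2.Basic.npc_iff.1 h
  have hNc : (Nat.card N).Coprime p := by
    rw [Nat.coprime_comm, hp.out.coprime_iff_not_dvd]
    exact hNc'
  have hmem : ∀ x : C, x ∈ N ↔ (orderOf x).Coprime p := by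
    intro x
    constructor
    · intro hx
      have h1 : orderOf x ∣ Nat.card N := by
        rw [← Subgroup.orderOf_mk x hx]
        exact orderOf_dvd_natCard _
      exact hNc.coprime_dvd_left h1
    · intro hx
      rw [← QuotientGroup.eq_one_iff]
      have h1 : orderOf (x : C ⧸ N) ∣ p ^ k := by
        rw [← hk]
        exact orderOf_dvd_natCard _
      have h2 : orderOf (x : C ⧸ N) ∣ orderOf x := orderOf_map_dvd (QuotientGroup.mk' N) x
      exact orderOf_eq_one_iff.1 (Nat.eq_one_of_dvd_coprimes (hx.pow_right k) h2 h1)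
  refine ⟨N.map C.subtype, ?_, Subgroup.map_subtype_le _, by rw [Subgroup.card_map_of_injective C.subtype_injective]; exact hNc', k, ?_⟩
  · constructor
    intro x hx g
    obtain ⟨y, hy, rfl⟩ := hx
    refine ⟨MulAut.conjNormal g y, ?_, by rw [Subgroup.subtype_apply, MulAut.conjNormal_apply]; rfl⟩
    rw [SetLike.mem_coe, hmem, MulEquiv.orderOf_eq]
    exact (hmem y).1 hy
  · rw [Subgroup.relIndex, Subgroup.subgroupOf, Subgroup.comap_map_eq_self_of_injective C.subtype_injective, hk]

/-- Let G be a finite group, p a prime and P a Sylow p-subgroup, and let N be the largest normal subgroup of G in which P has trivial centralizer (N is normal with C_N(P) = 1 and contains every normal subgroup with that property). Then the intersection of the kernels of the irreducible characters of G of degree prime to p is the normal core in G of the subgroup N·P' (P' the derived subgroup of P). In particular, when G has no nontrivial normal subgroup of order prime to p, that intersection is the normal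 core of P'. -/
theorem result {G : Type*} [Group G] [Finite G] (p : ℕ) [Fact p.Prime] (P : Sylow p G) (N : Subgroup G) [N.Normal]
    (hN : N ⊓ Subgroup.centralizer ((P : Subgroup G) : Set G) = ⊥)
    (hmax : ∀ L : Subgroup G, L.Normal → L ⊓ Subgroup.centralizer ((P : Subgroup G) : Set G) = ⊥ → L ≤ N) :
    {g : G | ∀ χ : Cfsg.IrrCharacter G, ¬ p ∣ Cfsg.charDegree (χ : G → ℂ) → (χ : G → ℂ) g = (χ : G → ℂ) 1} =
      ((N ⊔ ⁅(P : Subgroup G), (P : Subgroup G)⁆).normalCore : Set G) := by
  classical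
  haveI := Fintype.ofFinite G
  haveI hp : Fact p.Prime := inferInstance
  -- the intersection of the kernels
  let K : Subgroup G := ⨅ χ : {χ : IrrCharacter G // ¬ p ∣ charDegree (χ : G → ℂ)}, chKer (χ.1 : G → ℂ) (IsIrr.isCharacter χ.1.2)
  have hKmem : ∀ g, g ∈ K ↔ ∀ χ : Cfsg.IrrCharacter G, ¬ p ∣ Cfsg.charDegree (χ : G → ℂ) → (χ : G → ℂ) g = (χ : G → ℂ) 1 := by
    intro g
    rw [Subgroup.mem_iInf]
    exact ⟨fun h χ hχ => h ⟨χ, hχ⟩, fun h χ => h χ.1 χ.2⟩
  haveI hKn : K.Normal := by
    constructor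
    intro n hn g
    rw [hKmem] at hn ⊢
    intro χ hχ
    exact (chKer_normal (IsIrr.isCharacter χ.2)).conj_mem n (hn χ hχ) g
  have hset : {g : G | ∀ χ : Cfsg.IrrCharacter G, ¬ p ∣ Cfsg.charDegree (χ : G → ℂ) → (χ : G → ℂ) g = (χ : G → ℂ) 1} = (K : Set G) := by
    ext g
    exact (hKmem g).symm
  rw [hset]
  congr 1
  apply le_antisymm
  · -- `K ≤ core`
    refine (Subgroup.normal_le_normalCore).2 ?_
    have hKP : ∀ x ∈ K, x ∈ (P : Subgroup G) → x ∈ ⁅(P : Subgroup G), (P : Subgroup G)⁆ := by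
      intro x hxK hxP
      by_contra hx
      set D := commutator (P : Subgroup G) with hD
      have hDm : D.map (P : Subgroup G).subtype = ⁅(P : Subgroup G), (P : Subgroup G)⁆ := by
        rw [hD, commutator_def, Subgroup.map_commutator, ← MonoidHom.range_eq_map, Subgroup.range_subtype]
      have hxD : (⟨x, hxP⟩ : (P : Subgroup G)) ∉ D := by
        intro h
        apply hx
        rw [← hDm]
        exact ⟨_, h, rfl⟩
      haveI : Fintype (P : Subgroup G) := Fintype.ofFinite _
      obtain ⟨χ₀, hχ₀, hne⟩ : ∃ χ₀ : ((P : Subgroup G) ⧸ D) → ℂ, IsIrrCharacter _ χ₀ ∧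
          χ₀ ((⟨x, hxP⟩ : (P : Subgroup G)) : (P : Subgroup G) ⧸ D) ≠ χ₀ 1 := by
        by_contra hcon
        push Not at hcon
        apply hxD
        rw [← QuotientGroup.eq_one_iff]
        exact eq_one_of_forall_irr hcon
      have hl := IsIrr.inflate (N := D) hχ₀
      have hl1 : (fun y : (P : Subgroup G) => χ₀ (y : (P : Subgroup G) ⧸ D)) 1 = 1 := by
        show χ₀ ((1 : (P : Subgroup G)) : (P : Subgroup G) ⧸ D) = 1
        rw [QuotientGroup.mk_one]
        refine IsIrr.one_of_comm ?_ hχ₀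
        intro a b
        obtain ⟨a, rfl⟩ := QuotientGroup.mk_surjective a
        obtain ⟨b, rfl⟩ := QuotientGroup.mk_surjective b
        rw [← QuotientGroup.mk_mul, ← QuotientGroup.mk_mul, QuotientGroup.eq]
        have h1 : ⁅b⁻¹, a⁻¹⁆ ∈ D := by
          rw [hD, commutator_def]
          exact Subgroup.commutator_mem_commutator (Subgroup.mem_top _) (Subgroup.mem_top _)
        have h2 : (a * b)⁻¹ * (b * a) = ⁅b⁻¹, a⁻¹⁆ := by
          rw [commutatorElement_def]; group
        rw [h2]; exact h1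
      have hind : ¬ p ∣ charDegree (indFun (P : Subgroup G) (fun y : (P : Subgroup G) => χ₀ (y : (P : Subgroup G) ⧸ D))) := by
        have h1 : charDegree (indFun (P : Subgroup G) (fun y : (P : Subgroup G) => χ₀ (y : (P : Subgroup G) ⧸ D))) =
            (P : Subgroup G).index := by
          apply deg_eq
          rw [ind_one]
          exact (congrArg (((P : Subgroup G).index : ℂ) * ·) hl1).trans (mul_one _)
        rw [h1]
        exact P.not_dvd_index
      obtain ⟨χ, hχ, h1, h2⟩ := exists_ndvd (IsChar.ind (IsIrr.isCharacter hl)) hind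
      rw [constituent_ind_iff (IsIrr.isCharacter hχ)] at h1
      have h3 := (hKmem x).1 hxK ⟨χ, hχ⟩ h2
      have h4 := Cfsg.Agent.H3.BF.constituent_ker (v := (⟨x, hxP⟩ : (P : Subgroup G))) (IsChar.res (IsIrr.isCharacter hχ) _) hl h1 h3
      exact hne h4
    have hKF : K ⊓ (P : Subgroup G) ≤ (frattini (P : Subgroup G)).map (P : Subgroup G).subtype := by
      rintro x ⟨hxK, hxP⟩
      have h1 := hKP x hxK hxP
      have h2 := (H1.Nilp.commutator_le_frattini (G := (P : Subgroup G)) P.2).1
      have hDm : (commutator (P : Subgroup G)).map (P : Subgroup G).subtype = ⁅(P : Subgroup G), (P : Subgroup G)⁆ := by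
        rw [commutator_def, Subgroup.map_commutator, ← MonoidHom.range_eq_map, Subgroup.range_subtype]
      rw [← hDm] at h1
      exact Subgroup.map_mono h2 h1
    obtain ⟨L, hLn, hLK, hLp, k, hk⟩ := exists_complement (S0081.result P K hKF)
    haveI : Fintype L := Fintype.ofFinite _
    have hLC : L ⊓ Subgroup.centralizer ((P : Subgroup G) : Set G) = ⊥ := by
      by_contra hcon
      obtain ⟨θ, hθ, hinv, hne⟩ := exists_inv P L hLp hcon
      obtain ⟨χ, hχ, hd, h1⟩ := ext_over P L hLp hθ hinv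
      apply hne
      have h2 : ∀ l : L, χ l = χ 1 := fun l => (hKmem l).1 (hLK l.2) ⟨χ, hχ⟩ hd
      by_contra hne'
      apply h1
      have h3 : (fun n : L => χ n) = (χ 1) • (fun _ : L => (1 : ℂ)) := by
        funext l
        rw [h2 l]
        simp
      rw [h3, ci_smul_left, ci_irr_ne isIrr_one hθ (fun e => hne' e.symm), mul_zero]
    have hLN := hmax L hLn hLC
    -- `K = L (K ⊓ P)`
    have hsup : L ⊔ (K ⊓ (P : Subgroup G)) = K := by
      have hle : L ⊔ (K ⊓ (P : Subgroup G)) ≤ K := sup_le hLK inf_le_left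
      have e1 : (L ⊔ (K ⊓ (P : Subgroup G))).relIndex K ∣ p ^ k := by
        rw [← hk, ← Subgroup.relIndex_mul_relIndex L (L ⊔ (K ⊓ (P : Subgroup G))) K le_sup_left hle]
        exact dvd_mul_left _ _
      have e2 : ¬ p ∣ (K ⊓ (P : Subgroup G)).relIndex K := by
        rw [inf_comm]; exact H2.Fusion.not_dvd_relIndex_inf P K
      have e3 : ¬ p ∣ (L ⊔ (K ⊓ (P : Subgroup G))).relIndex K := by
        intro h
        apply e2
        rw [← Subgroup.relIndex_mul_relIndex (K ⊓ (P : Subgroup G)) (L ⊔ (K ⊓ (P : Subgroup G))) K le_sup_right hle]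
        exact h.mul_left _
      obtain ⟨j, -, hj⟩ := (Nat.dvd_prime_pow hp.out).1 e1
      rw [hj] at e3
      cases j with
      | zero =>
        rw [pow_zero] at hj
        exact le_antisymm hle (Subgroup.relIndex_eq_one.1 hj)
      | succ j => exact absurd (dvd_pow_self p (Nat.succ_ne_zero j)) e3
    rw [← hsup]
    refine sup_le (hLN.trans le_sup_left) ?_
    rintro x ⟨hxK, hxP⟩
    exact (le_sup_right : _ ≤ N ⊔ ⁅(P : Subgroup G), (P : Subgroup G)⁆) (hKP x hxK hxP)
  · -- the core lies in every kernel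
    set X := (N ⊔ ⁅(P : Subgroup G), (P : Subgroup G)⁆).normalCore with hX
    have hXle : X ≤ N ⊔ ⁅(P : Subgroup G), (P : Subgroup G)⁆ := Subgroup.normalCore_le _
    haveI hXn : X.Normal := inferInstance
    have hNp := not_dvd_of_cent P N hN
    haveI : Fintype N := Fintype.ofFinite _
    haveI : Fintype X := Fintype.ofFinite _
    set H := N ⊔ (P : Subgroup G) with hH
    haveI : Fintype H := Fintype.ofFinite _
    have hNH : N ≤ H := le_sup_left
    have hPH : (P : Subgroup G) ≤ H := le_sup_right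
    have hPP : ⁅(P : Subgroup G), (P : Subgroup G)⁆ ≤ (P : Subgroup G) := Subgroup.commutator_le_self _
    have hXH : X ≤ H := hXle.trans (sup_le hNH (hPP.trans hPH))
    intro x hx
    rw [hKmem]
    intro χ hd
    obtain ⟨θ, hθ, h0, hinv⟩ := inv_const P N χ.2 hd
    have hθ1 := triv_of_inv P N hN hθ hinv
    rw [hθ1] at h0
    have hNk : InKer N (χ : G → ℂ) := (inKer_iff_inner (hN := inferInstance) χ.2).2 h0
    have hNk' : ∀ n ∈ N, (χ : G → ℂ) n = (χ : G → ℂ) 1 := by
      intro n hn
      have := hNk n hn 1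
      rwa [mul_one] at this
    have hdH : ¬ p ∣ charDegree (fun h : H => (χ : G → ℂ) h) := hd
    obtain ⟨ψ, hψ, h1, hψd⟩ := exists_ndvd (IsChar.res (IsIrr.isCharacter χ.2) H) hdH
    have hψN : ∀ n (hn : n ∈ N), ψ ⟨n, hNH hn⟩ = ψ 1 := fun n hn =>
      Cfsg.Agent.H3.BF.constituent_ker (v := (⟨n, hNH hn⟩ : H)) (IsChar.res (IsIrr.isCharacter χ.2) H) hψ h1 (hNk' n hn)
    have hψ1 : ψ 1 = 1 := by
      haveI : Fintype (N.subgroupOf H) := Fintype.ofFinite _
      have h2 : classInner (fun n : N.subgroupOf H => ψ n) (fun _ => 1) ≠ 0 := by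
        have h3 : (fun n : N.subgroupOf H => ψ n) = (ψ 1) • (fun _ : N.subgroupOf H => (1 : ℂ)) := by
          funext n
          have h4 := hψN (n : H) (Subgroup.mem_subgroupOf.1 n.2)
          rw [Pi.smul_apply, smul_eq_mul, mul_one]
          exact h4
        rw [h3, ci_smul_left, ci_irr_self isIrr_one, mul_one]
        exact IsIrr.one_ne_zero hψ
      obtain ⟨b, hb, hbi⟩ := Cfsg.Agent.H3.Lift.degree_dvd (N.subgroupOf H) hψ isIrr_one h2
      rw [mul_one] at hb
      have hidx : (N.subgroupOf H).index ∣ Nat.card (P : Subgroup G) := by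
        show N.relIndex H ∣ _
        rw [hH, sup_comm, relIndex_sup_of_le_normalizer (by
          rw [Subgroup.normalizer_eq_top_iff.mpr inferInstance]; exact le_top)]
        exact Subgroup.relIndex_dvd_card _ _
      obtain ⟨k, hk⟩ := IsPGroup.iff_card.1 P.2
      rw [hk] at hidx
      obtain ⟨j, -, hj⟩ := (Nat.dvd_prime_pow hp.out).1 (hbi.trans hidx)
      have hbd : charDegree ψ = b := deg_eq hb
      rw [hbd, hj] at hψd
      cases j with
      | zero => rw [hb, hj, pow_zero, Nat.cast_one]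
      | succ j => exact absurd (dvd_pow_self p (Nat.succ_ne_zero j)) hψd
    obtain ⟨f, hf⟩ := IsChar.hom_units_of_one (IsIrr.isCharacter hψ) hψ1
    have hfk : N ⊔ ⁅(P : Subgroup G), (P : Subgroup G)⁆ ≤ f.ker.map H.subtype := by
      apply sup_le
      · intro n hn
        refine ⟨⟨n, hNH hn⟩, ?_, rfl⟩
        rw [SetLike.mem_coe, MonoidHom.mem_ker]
        apply Units.ext
        rw [← hf, hψN n hn, hψ1]; rfl
      · rw [Subgroup.commutator_le]
        intro a ha b hb
        refine ⟨⁅(⟨a, hPH ha⟩ : H), ⟨b, hPH hb⟩⁆, ?_, rfl⟩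
        rw [SetLike.mem_coe, MonoidHom.mem_ker, map_commutatorElement, commutatorElement_eq_one_iff_mul_comm, mul_comm]
    have hψX : (fun x : X => ψ ⟨x, hXH x.2⟩) = fun _ => 1 := by
      funext y
      obtain ⟨z, hz, hzy⟩ := hfk (hXle y.2)
      have e1 : (⟨y, hXH y.2⟩ : H) = z := Subtype.ext hzy.symm
      rw [e1, hf, (MonoidHom.mem_ker).1 hz]; rfl
    have h5 := res_trans hXH (IsIrr.isCharacter χ.2) hψ h1 (isIrr_one (G := X)) (by
      rw [hψX, ci_irr_self isIrr_one]; exact one_ne_zero)
    have h6 : InKer X (χ : G → ℂ) := (inKer_iff_inner (hN := hXn) χ.2).2 h5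
    have := h6 x hx 1
    rwa [mul_one] at this

end Cfsg.Agent.S4591
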