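import Cfsg.Statements.S4873
import Mathlib
import Cfsg.Agent.H26_FSOdd

set_option autoImplicit false
open Cfsg

namespace Cfsg.Agent.S4873

open Cfsg Cfsg.Agent.H3.CharIrr Cfsg.Agent.H3.CharComplete Cfsg.Agent.H3.CharInd Cfsg.Agent.H26.Basic Cfsg.Agent.H26.FS Cfsg.Agent.H3.Clifford Cfsg.Agent.H26.FSOdd

open scoped ComplexConjugate

/-- Let N be a normal subgroup of odd index in the finite group G. Then every irreducible complex character of N with Frobenius–Schur indicator +1 lies under exactly one irreducible character of G with Frobenius–Schur indicator +1. -/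
theorem result {G : Type*} [Group G] [Finite G] (N : Subgroup G) [N.Normal] (hodd : Odd N.index) (φ : Cfsg.IrrCharacter ↥N) (hφ : (Nat.card ↥N : ℂ)⁻¹ * ∑ᶠ g : ↥N, (φ : ↥N → ℂ) (g * g) = 1) : ∃! χ : Cfsg.IrrCharacter G, (Nat.card G : ℂ)⁻¹ * ∑ᶠ g : G, (χ : G → ℂ) (g * g) = 1 ∧ (∑ᶠ n : ↥N, (χ : G → ℂ) n * (starRingEnd ℂ) ((φ : ↥N → ℂ) n)) ≠ 0 := by
  classical
  haveI : Fintype G := Fintype.ofFinite G
  haveI : Fintype N := Fintype.ofFinite _
  haveI : Fintype (IrrCharacter G) := Fintype.ofFinite _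
  have hind : ∀ χ : IrrCharacter G, (Nat.card G : ℂ)⁻¹ * ∑ᶠ g : G, (χ : G → ℂ) (g * g) = ind (χ : G → ℂ) := by
    intro χ
    rw [finsum_eq_sum_of_fintype, ind]
  have hφ' : ind (φ : N → ℂ) = 1 := by
    rw [ind, ← hφ, finsum_eq_sum_of_fintype]
  have hinner : ∀ χ : IrrCharacter G, (∑ᶠ n : ↥N, (χ : G → ℂ) n * (starRingEnd ℂ) ((φ : ↥N → ℂ) n)) ≠ 0 ↔
      classInner (fun n : N => (χ : G → ℂ) n) (φ : N → ℂ) ≠ 0 := by
    intro χ
    have h0 : classInner (fun n : N => (χ : G → ℂ) n) (φ : N → ℂ) = (Nat.card N : ℂ)⁻¹ *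
      ∑ n : ↥N, (χ : G → ℂ) n * (starRingEnd ℂ) ((φ : ↥N → ℂ) n) := rfl
    rw [finsum_eq_sum_of_fintype, h0]
    have h1 : (Nat.card N : ℂ) ≠ 0 := cardH_ne_zero N
    constructor
    · intro h; exact mul_ne_zero (inv_ne_zero h1) h
    · intro h; exact right_ne_zero_of_mul h
  have hr : ∀ n, conj ((φ : N → ℂ) n) = (φ : N → ℂ) n := by
    by_contra hc
    rw [ind_nonreal φ hc] at hφ'
    norm_num at hφ'
  obtain ⟨χ, hχr, hχ⟩ := exists_real_over hodd φ hr
  have hνχ : ind (χ : G → ℂ) = 1 := by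
    have h1 := sum_mult_ind hodd (φ : N → ℂ)
    rw [hφ', Finset.sum_eq_single χ] at h1
    · obtain ⟨m, hm⟩ := ci_char_nat (Cfsg.Agent.H3.CharInd.IsChar.ind (IsIrr.isCharacter φ.2)) (IsIrr.isCharacter χ.2)
      rw [hm] at h1
      rcases ind_real χ hχr with h | h
      · exact h
      · exfalso
        rw [h] at h1
        have h2 : (m : ℤ) * (-1) = 1 := by exact_mod_cast h1
        omega
    · intro ψ _ hψ
      by_contra hne
      apply hψ
      refine real_over_unique hodd φ hr ψ χ ?_ hχr ?_ hχ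
      · by_contra hc
        rw [ind_nonreal ψ hc, mul_zero] at hne
        exact hne rfl
      · rw [← Cfsg.Agent.H3.CharMult.constituent_ind_iff (IsIrr.isCharacter ψ.2)]
        exact left_ne_zero_of_mul hne
    · intro h; exact absurd (Finset.mem_univ _) h
  refine ⟨χ, ⟨by rw [hind]; exact hνχ, (hinner χ).2 hχ⟩, ?_⟩
  rintro ψ ⟨h1, h2⟩
  rw [hind] at h1
  refine real_over_unique hodd φ hr ψ χ ?_ hχr ((hinner ψ).1 h2) hχ
  by_contra hc
  rw [ind_nonreal ψ hc] at h1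
  norm_num at h1

end Cfsg.Agent.S4873
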