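import Cfsg.Statements.S4885
import Cfsg.Agent.H10_FratQ
import Cfsg.Agent.S4591
import Cfsg.Agent.H26_B0
import Cfsg.Agent.H10_BlockPS
import Cfsg.Agent.H10_BlockKer

set_option autoImplicit false
open Cfsg

namespace Cfsg.Agent.S4885

open scoped commutatorElement
open Cfsg.Agent Cfsg.Agent.H10.BlockAlg Cfsg.Agent.H10.BlockKer Cfsg.Agent.H10.BlockQuot
  Cfsg.Agent.H26.B0 Cfsg.Agent.H10.PpDeg

theorem le_comm {G : Type*} [Group G] [Fintype G] {p : ℕ} [hp : Fact p.Prime] {M : Ideal AlgInt}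
    (hM : IsPModular p M) (hs : IsPSolvable p G) (P : Sylow p G) {g : G}
    (h : ∀ χ : IrrCharacter G, χ ∈ principalBlock M G → ¬ p ∣ charDegree (χ : G → ℂ) → (χ : G → ℂ) g = (χ : G → ℂ) 1) :
    g ∈ ⁅(P : Subgroup G), (P : Subgroup G)⁆ ⊔ pPrimeCore p G := by
  classical
  haveI := hM.2.1
  let K := pPrimeCore p G
  haveI : Fintype (G ⧸ K) := Fintype.ofFinite _
  have hcore : pPrimeCore p (G ⧸ K) = ⊥ := Cfsg.Agent.H11.Cores.pPrimeCore_quotient p
  have hs' : IsPSolvable p (G ⧸ K) := Cfsg.Agent.H22.PSolv.isPSolvable_quotient K hs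
  let Pb : Sylow p (G ⧸ K) := P.mapSurjective (QuotientGroup.mk'_surjective K)
  have hPb : (Pb : Subgroup (G ⧸ K)) = (P : Subgroup G).map (QuotientGroup.mk' K) := rfl
  have hbij := bijOn_infl (G := G) hM
  have key := S4591.result p Pb (⊥ : Subgroup (G ⧸ K)) (bot_inf_eq _) (by
    intro L hL hLc
    have h1 := not_dvd_of_cent Pb L hLc
    rw [← hcore]
    exact H1.Nilp.le_pPrimeCore hL ((Nat.Prime.coprime_iff_not_dvd hp.out).2 h1).symm)
  have hmem : (QuotientGroup.mk' K g) ∈ {g : G ⧸ K | ∀ χ : Cfsg.IrrCharacter (G ⧸ K), ¬ p ∣ Cfsg.charDegree (χ : G ⧸ K → ℂ) →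
      (χ : G ⧸ K → ℂ) g = (χ : G ⧸ K → ℂ) 1} := by
    intro χ hχ
    have hφ : χ ∈ principalBlock M (G ⧸ K) := by
      rw [principal_eq]
      exact Cfsg.Agent.H10.BlockPS.one_block hM hs' hcore _ _
    have h1 := h (infl K χ) (hbij.mapsTo hφ) (by
      have h2 : charDegree ((infl K χ : IrrCharacter G) : G → ℂ) = charDegree (χ : G ⧸ K → ℂ) := by
        rw [charDegree, charDegree, infl_apply]
        rfl
      rw [h2]; exact hχ)
    rw [infl_apply, infl_apply] at h1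
    exact h1
  rw [key] at hmem
  have h1 := Subgroup.normalCore_le _ hmem
  rw [bot_sup_eq, hPb, ← Subgroup.map_commutator] at h1
  have h2 : g ∈ (⁅(P : Subgroup G), (P : Subgroup G)⁆.map (QuotientGroup.mk' K)).comap (QuotientGroup.mk' K) := h1
  rwa [Subgroup.comap_map_eq, QuotientGroup.ker_mk'] at h2

/-- Let p and q be primes dividing the order of the finite group G, and suppose G is p-solvable and q-solvable. Fix maximal ideals of the algebraic integers containing p and q, defining the principal p-block and the principal q-block. If the irreducible characters of degree prime to p in the principal p-block are exactly the irreducible characters of degree prime to q in the principal q-block, then p = q. -/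
theorem result {G : Type*} [Group G] [Finite G] (p q : ℕ) [Fact p.Prime] [Fact q.Prime] (hp : p ∣ Nat.card G) (hq : q ∣ Nat.card G) (hps : Cfsg.IsPSolvable p G) (hqs : Cfsg.IsPSolvable q G) (Mp Mq : Ideal Cfsg.AlgInt) (hMp : Cfsg.IsPModular p Mp) (hMq : Cfsg.IsPModular q Mq) (h : ∀ χ : Cfsg.IrrCharacter G, (χ ∈ Cfsg.principalBlock Mp G ∧ ¬ p ∣ Cfsg.charDegree (χ : G → ℂ)) ↔ (χ ∈ Cfsg.principalBlock Mq G ∧ ¬ q ∣ Cfsg.charDegree (χ : G → ℂ))) : p = q := by
  classical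
  haveI : Fintype G := Fintype.ofFinite _
  haveI hpp : Fact p.Prime := inferInstance
  haveI hqq : Fact q.Prime := inferInstance
  by_contra hpq
  have hn1 : (pPrimeCore p G).Normal := H1.Nilp.pPrimeCore_normal p
  have hn2 : (pPrimeCore q G).Normal := H1.Nilp.pPrimeCore_normal q
  -- the intersection of the kernels
  let K : Subgroup G := ⨅ χ : {χ : IrrCharacter G // χ ∈ principalBlock Mp G ∧ ¬ p ∣ charDegree (χ : G → ℂ)},
    Cfsg.Agent.H3.CharQuot.chKer (χ.1 : G → ℂ) (Cfsg.Agent.H3.CharIrr.IsIrr.isCharacter χ.1.2)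
  have hKmem : ∀ g, g ∈ K ↔ ∀ χ : Cfsg.IrrCharacter G, χ ∈ principalBlock Mp G → ¬ p ∣ Cfsg.charDegree (χ : G → ℂ) → (χ : G → ℂ) g = (χ : G → ℂ) 1 := by
    intro g
    rw [Subgroup.mem_iInf]
    exact ⟨fun h χ h1 h2 => h ⟨χ, h1, h2⟩, fun h χ => h χ.1 χ.2.1 χ.2.2⟩
  have hKmem' : ∀ g, g ∈ K ↔ ∀ χ : Cfsg.IrrCharacter G, χ ∈ principalBlock Mq G → ¬ q ∣ Cfsg.charDegree (χ : G → ℂ) → (χ : G → ℂ) g = (χ : G → ℂ) 1 := by
    intro g
    rw [hKmem]
    exact ⟨fun h' χ h1 h2 => h' χ ((h χ).2 ⟨h1, h2⟩).1 ((h χ).2 ⟨h1, h2⟩).2,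
      fun h' χ h1 h2 => h' χ ((h χ).1 ⟨h1, h2⟩).1 ((h χ).1 ⟨h1, h2⟩).2⟩
  have h1 : pPrimeCore p G ≤ K := by
    intro x hx
    rw [hKmem]
    intro χ hχ _
    exact principal_ker hMp (pPrimeCore p G) (by
      rw [← Nat.Prime.coprime_iff_not_dvd hpp.out, Nat.coprime_comm]
      exact H1.Nilp.pPrimeCore_coprime p) hχ x hx
  have h2 : pPrimeCore q G ≤ K := by
    intro x hx
    rw [hKmem']
    intro χ hχ _
    exact principal_ker hMq (pPrimeCore q G) (by
      rw [← Nat.Prime.coprime_iff_not_dvd hqq.out, Nat.coprime_comm]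
      exact H1.Nilp.pPrimeCore_coprime q) hχ x hx
  obtain ⟨P⟩ : Nonempty (Sylow p G) := inferInstance
  obtain ⟨Q⟩ : Nonempty (Sylow q G) := inferInstance
  have h3 : K ≤ ⁅(P : Subgroup G), (P : Subgroup G)⁆ ⊔ pPrimeCore p G := fun g hg => le_comm hMp hps P ((hKmem g).1 hg)
  have h4 : K ≤ ⁅(Q : Subgroup G), (Q : Subgroup G)⁆ ⊔ pPrimeCore q G := fun g hg => le_comm hMq hqs Q ((hKmem' g).1 hg)
  -- pass to the quotient
  obtain ⟨R, hR⟩ : ∃ R, R = pPrimeCore p G ⊓ pPrimeCore q G := ⟨_, rfl⟩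
  haveI hRn : R.Normal := by rw [hR]; infer_instance
  have hRp : (Nat.card R).Coprime p :=
    (H1.Nilp.pPrimeCore_coprime (G := G) p).coprime_dvd_left (Subgroup.card_dvd_of_le (hR.le.trans inf_le_left))
  have hRq : (Nat.card R).Coprime q :=
    (H1.Nilp.pPrimeCore_coprime (G := G) q).coprime_dvd_left (Subgroup.card_dvd_of_le (hR.le.trans inf_le_right))
  have hcomap : ∀ (r : ℕ) (X : Subgroup (G ⧸ R)), (Nat.card R).Coprime r → X.Normal → (Nat.card X).Coprime r →
      X.comap (QuotientGroup.mk' R) ≤ pPrimeCore r G := by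
    intro r X hr hX hXr
    apply H1.Nilp.le_pPrimeCore inferInstance
    have e1 := Subgroup.relIndex_ker (K := X.comap (QuotientGroup.mk' R)) (QuotientGroup.mk' R)
    rw [QuotientGroup.ker_mk', Subgroup.map_comap_eq_self_of_surjective (QuotientGroup.mk'_surjective R)] at e1
    have hle : R ≤ X.comap (QuotientGroup.mk' R) := by
      intro g hg
      rw [Subgroup.mem_comap, QuotientGroup.mk'_apply, (QuotientGroup.eq_one_iff g).2 hg]
      exact X.one_mem
    rw [← Subgroup.relIndex_bot_left, ← Subgroup.relIndex_mul_relIndex _ _ _ bot_le hle, Subgroup.relIndex_bot_left, e1]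
    exact Nat.Coprime.mul_left hr hXr
  have hmapc : ∀ (r : ℕ), (pPrimeCore r G).map (QuotientGroup.mk' R) ≤ pPrimeCore r (G ⧸ R) := by
    intro r
    have hn : (pPrimeCore r G).Normal := H1.Nilp.pPrimeCore_normal r
    apply H1.Nilp.le_pPrimeCore (hn.map _ (QuotientGroup.mk'_surjective R))
    exact (H1.Nilp.pPrimeCore_coprime (G := G) r).coprime_dvd_left (Subgroup.card_map_dvd _ _)
  have hcore : ∀ (r : ℕ), (Nat.card R).Coprime r → pPrimeCore r (G ⧸ R) ≤ (pPrimeCore r G).map (QuotientGroup.mk' R) := by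
    intro r hr
    have h5 := hcomap r _ hr (H1.Nilp.pPrimeCore_normal (G := G ⧸ R) r) (H1.Nilp.pPrimeCore_coprime (G := G ⧸ R) r)
    intro x hx
    obtain ⟨g, rfl⟩ := QuotientGroup.mk'_surjective R x
    exact ⟨g, h5 hx, rfl⟩
  have hsyl : ∀ {r : ℕ} [Fact r.Prime] (S : Sylow r G), K ≤ ⁅(S : Subgroup G), (S : Subgroup G)⁆ ⊔ pPrimeCore r G →
      K.map (QuotientGroup.mk' R) ≤ ⁅((S.mapSurjective (QuotientGroup.mk'_surjective R) : Sylow r (G ⧸ R)) : Subgroup (G ⧸ R)),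
        ((S.mapSurjective (QuotientGroup.mk'_surjective R) : Sylow r (G ⧸ R)) : Subgroup (G ⧸ R))⁆ ⊔ pPrimeCore r (G ⧸ R) := by
    intro r _ S hS
    refine (Subgroup.map_mono hS).trans ?_
    rw [Subgroup.map_sup, Subgroup.map_commutator]
    exact sup_le_sup_left (hmapc r) _
  refine H10.FratQ.no_group (H := G ⧸ R) (p := p) (q := q) hpq ?_
    (Cfsg.Agent.H22.PSolv.isPSolvable_quotient R hps) (Cfsg.Agent.H22.PSolv.isPSolvable_quotient R hqs)
    (K.map (QuotientGroup.mk' R)) ((hcore p hRp).trans (Subgroup.map_mono h1)) ((hcore q hRq).trans (Subgroup.map_mono h2))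
    (P.mapSurjective (QuotientGroup.mk'_surjective R)) (Q.mapSurjective (QuotientGroup.mk'_surjective R))
    (hsyl P h3) (hsyl Q h4) ?_
  · have h5 : Nat.card G = Nat.card (G ⧸ R) * Nat.card R := Subgroup.card_eq_card_quotient_mul_card_subgroup R
    rw [h5] at hp
    exact (Nat.Coprime.dvd_mul_right hRp.symm).1 hp
  · rw [eq_bot_iff]
    rintro x ⟨hx1, hx2⟩
    obtain ⟨g, rfl⟩ := QuotientGroup.mk'_surjective R x
    have h5 := hcomap p _ hRp (H1.Nilp.pPrimeCore_normal (G := G ⧸ R) p) (H1.Nilp.pPrimeCore_coprime (G := G ⧸ R) p) (show g ∈ _ from hx1)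
    have h6 := hcomap q _ hRq (H1.Nilp.pPrimeCore_normal (G := G ⧸ R) q) (H1.Nilp.pPrimeCore_coprime (G := G ⧸ R) q) (show g ∈ _ from hx2)
    have h7 : g ∈ R := by rw [hR]; exact ⟨h5, h6⟩
    rw [Subgroup.mem_bot]
    exact (QuotientGroup.eq_one_iff g).2 h7

end Cfsg.Agent.S4885
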