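import Cfsg.Statements.S5155
import Mathlib
import Cfsg.Agent.H27_Cs5

set_option autoImplicit false
open Cfsg

namespace Cfsg.Agent.S5155

open Cfsg.Agent.H27.Fus Cfsg.Agent.H27.Grp Cfsg.Agent.H27.Pp Cfsg.Agent.H27.Ix

/-- Let F be a saturated fusion system over a finite p-group S, E a normal subsystem over T, and Y the largest subgroup of C_S(T) such that E is a subsystem of the centralizer system of Y (every map of E extends to a map of F fixing Y elementwise). Then there is a normal subsystem of F over Y that is a subsystem of the centralizer system of T. -/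
theorem result {Ω : Type*} [Group Ω] {S : Subgroup Ω} [Finite S] (p : ℕ) [Fact p.Prime] (hS : IsPGroup p S) (F : Cfsg.FusionSystem S) (hF : F.IsSaturated p) {T : Subgroup Ω} (E : Cfsg.FusionSystem T) (hE : E.IsNormalIn F p) (Y : Subgroup Ω) (hY : Y ≤ Cfsg.FusionSystem.centralizerIn S T) (hEY : ∀ P : Subgroup Ω, E.Hom P ⊆ F.centralizerHom Y P) (hmax : ∀ Y' : Subgroup Ω, Y' ≤ Cfsg.FusionSystem.centralizerIn S T → (∀ P : Subgroup Ω, E.Hom P ⊆ F.centralizerHom Y' P) → Y' ≤ Y) : ∃ D : Cfsg.FusionSystem Y, D.IsNormalIn F p ∧ ∀ P : Subgroup Ω, D.Hom P ⊆ F.centralizerHom T P := by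
  obtain ⟨hEs, -, hI, hx⟩ := normalIn_iff.1 hE
  have hc := CSE_cen hS hF hEs hI hx
  have h1 : Y = CSE F E := le_antisymm (le_CSE ⟨hY, cenHom_iff.1 hEY⟩) (hmax _ CSE_le (cenHom_iff.2 hc.2))
  subst h1
  have hT := hI.strong
  have hTS := hT.1
  have hTfin := finite_of_le hTS
  obtain ⟨𝒢, hG⟩ := exists_centralizerSystem F T hTS
  have hGs := centralizerSystem_saturated hS hF (fn_fc hS hF (StronglyClosed.fn hT)) hG
  have hfoc := s5293 hS hF hEs hI hx hG (C := CSE F E) fun X h1 h2 => le_CSE ⟨h1, h2⟩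
  have hGp := hS.to_le (cen_le (S := S) (P := T))
  have hGfin : Finite ↥(FusionSystem.centralizerIn S T) := finite_of_le cen_le
  obtain ⟨D, hD, hpix⟩ := exists_pix _ hGfin 𝒢 rfl hGp hGs CSE_le (hyp_le_foc.trans hfoc)
  have hcd : CD F T (CSE F E) 𝒢 D p := ⟨hT, CSE_strong hS hF hEs hI hx, CSE_le, hG, hD, hpix⟩
  refine ⟨D, hcd.normal hS hF hGs, fun P φ hφ => ?_⟩
  have h2 := (map_of_isCentralizerSystem hG).1 (hpix.sub _ _ (map_tot hφ))
  exact (NKmap_iff_centralizerHom fun x => (tot_apply φ x).symm).2 h2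

end Cfsg.Agent.S5155
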