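import Cfsg.Statements.S5193
import Mathlib
import Cfsg.Agent.H27_Glau2

set_option autoImplicit false
open Cfsg

namespace Cfsg.Agent.S5193

open H27.Fus H27.Grp Cfsg.FusionSystem Cfsg.Agent.H12.ZJ

/-- Glauberman's Theorem for fusion systems. Let F be a saturated fusion system over a finite p-group S, let J(S) be the subgroup generated by the abelian subgroups of S of largest order, and let N be the normalizer fusion system of J(S) in F (a fusion system over N_S(J(S)) = S). Then every p-th power of an element of Z(S) that lies in the centre of N lies in the centre of F; and if p is odd, or if the symmetric group of degree 4 is not involved in any model of the normalizer system of a fully normalized F-centric subgroup (F is S₄-free), then the centre of N equals the centre of F. -/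
theorem result {Ω : Type*} [Group Ω] {S : Subgroup Ω} [Finite S] (p : ℕ) [Fact p.Prime] (hS : IsPGroup p S) (F : Cfsg.FusionSystem S) (hF : F.IsSaturated p) (N : Cfsg.FusionSystem (Cfsg.FusionSystem.normalizerIn S (Cfsg.thompsonSubgroupAOf S))) (hN : F.IsNormalizerSystem (Cfsg.thompsonSubgroupAOf S) N) : Subgroup.closure ((fun z : Ω => z ^ p) '' ((S ⊓ Subgroup.centralizer (S : Set Ω) : Subgroup Ω) : Set Ω)) ⊓ N.center ≤ F.center ∧ (p ≠ 2 ∨ F.IsSectionFree p (Equiv.Perm (Fin 4)) → N.center = F.center) := by
    have hJ : Cfsg.thompsonSubgroupAOf S = JJ 0 S := thompsonAOf_eq S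
    refine ⟨fun x hx => ?_, fun hp => le_antisymm (fun x hx => ?_) ?_⟩
    · obtain ⟨z, hz, hzx⟩ := pow_closure (Z := S ⊓ Subgroup.centralizer (S : Set Ω)) (fun x hx y hy => Subgroup.mem_centralizer_iff.1 hy.2 x hx.1) hx.1
      exact glau_center hS hF hJ hN hx.2 (Or.inr (Or.inl ⟨z, hz, hzx⟩))
    · refine glau_center hS hF hJ hN hx ?_
      rcases hp with h | h
      · exact Or.inl h
      · exact Or.inr (Or.inr h)
    · refine center_le_nsys hS hF ?_ ?_ hN
      · rw [hJ]; exact JJ_le 0 S
      · rw [hJ]; exact JJ_strong_normal (strongly_top F)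

end Cfsg.Agent.S5193
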