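import Cfsg.Statements.S5194
import Mathlib
import Cfsg.Agent.H27_S4h

set_option autoImplicit false
open Cfsg

namespace Cfsg.Agent.S5194

open H27.Fus H27.Grp Cfsg.FusionSystem Cfsg.Agent.H12.ZJ

/-- Thompson's normal p-complement Theorem for fusion systems. Let F be a saturated fusion system over a finite p-group S such that p is odd or F is S₄-free (the symmetric group of degree 4 is not involved in any model of the normalizer system of a fully normalized F-centric subgroup), and let J(S) be the subgroup generated by the abelian subgroups of S of largest order. If the centralizer fusion system of Z(S) in F is the inner fusion system of C_S(Z(S)) = S and the normalizer fusion system of J(S) in F is the inner fusion system of N_S(J(S)) = S, then F is the inner fusion system of S. -/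
theorem result {Ω : Type*} [Group Ω] {S : Subgroup Ω} [Finite S] (p : ℕ) [Fact p.Prime] (hS : IsPGroup p S) (F : Cfsg.FusionSystem S) (hF : F.IsSaturated p) (hp : p ≠ 2 ∨ F.IsSectionFree p (Equiv.Perm (Fin 4))) (hC : ∀ C : Cfsg.FusionSystem (Cfsg.FusionSystem.centralizerIn S (S ⊓ Subgroup.centralizer (S : Set Ω))), F.IsCentralizerSystem (S ⊓ Subgroup.centralizer (S : Set Ω)) C → ∀ P : Subgroup Ω, C.Hom P = (Cfsg.innerFusionSystem (Cfsg.FusionSystem.centralizerIn S (S ⊓ Subgroup.centralizer (S : Set Ω)))).Hom P) (hN : ∀ N : Cfsg.FusionSystem (Cfsg.FusionSystem.normalizerIn S (Cfsg.thompsonSubgroupAOf S)), F.IsNormalizerSystem (Cfsg.thompsonSubgroupAOf S) N → ∀ P : Subgroup Ω, N.Hom P = (Cfsg.innerFusionSystem (Cfsg.FusionSystem.normalizerIn S (Cfsg.thompsonSubgroupAOf S))).Hom P) : ∀ P : Subgroup Ω, F.Hom P = (Cfsg.innerFusionSystem S).Hom P := by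
    have key := tn_both hS hF hp ?_ ?_
    · intro P
      apply hom_eq_of_map
      intro f
      refine ⟨key P f, fun hf => ?_⟩
      obtain ⟨h1, s, hs, hsx⟩ := map_inner_iff.1 hf
      exact (map_conj F h1 hs).congr fun x hx => (hsx x hx).symm
    · intro P f hf
      have hJS : JJ 0 S ≤ S := JJ_le 0 S
      rw [thompsonAOf_eq] at hN
      obtain ⟨N, hN'⟩ := exists_normalizerSystem F (JJ 0 S) hJS
      exact inner_of_inner nrm_le (map_of_le (hN N hN' P).le ((nsys_map hN').2 hf.nmap))
    · intro P f hf
      obtain ⟨C, hC'⟩ := exists_centralizerSystem F (ZZ S) cen_le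
      obtain ⟨h1, h2, g, h3, h4, h5, h6⟩ := hf
      exact inner_of_inner cen_le (map_of_le (hC C hC' P).le ((csys_map hC').2 ⟨h1.trans (nrm_le.trans ZZ_cen),
        fun x hx => ZZ_cen (nrm_le (h2 x hx)), g, h3, h4, h6 rfl⟩))

end Cfsg.Agent.S5194
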