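import Cfsg.Statements.S5212
import Cfsg.Agent.H1_MtB

set_option autoImplicit false
open Cfsg

namespace Cfsg.Agent.S5212

/-- Let S be a finite metacyclic 2-group that is not homocyclic abelian (a direct product of cyclic groups of one common order), not dihedral, not semidihedral and not generalized quaternion. Then every saturated fusion system over S is the inner fusion system of S. -/
theorem result {Ω : Type*} [Group Ω] {S : Subgroup Ω} [Finite S] (hS : IsPGroup 2 S) (F : Cfsg.FusionSystem S) (hF : F.IsSaturated 2) (hm : Cfsg.IsMetacyclic ↥S) (hh : ¬ ∃ n k : ℕ, Nonempty (↥S ≃* Multiplicative (Fin k → ZMod (2 ^ n)))) (hd : ¬ ∃ m : ℕ, Nonempty (↥S ≃* DihedralGroup m)) (hq : ¬ ∃ m : ℕ, Nonempty (↥S ≃* QuaternionGroup m)) (hsd : ¬ Cfsg.IsQuasiDihedral ↥S) : ∀ P : Subgroup Ω, F.Hom P = (Cfsg.innerFusionSystem S).Hom P := by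
  refine Cfsg.Agent.H1.Mt.s5212 hS hF hm ?_ hd hq hsd
  rintro ⟨n, ⟨e⟩⟩
  apply hh
  refine ⟨n, 2, ⟨e.trans ?_⟩⟩
  have e1 : Multiplicative (ZMod (2 ^ n) × ZMod (2 ^ n)) ≃* Multiplicative (Fin 2 → ZMod (2 ^ n)) :=
    AddEquiv.toMultiplicative
      { toFun := fun v => ![v.1, v.2]
        invFun := fun f => (f 0, f 1)
        left_inv := fun v => rfl
        right_inv := fun f => by ext i; fin_cases i <;> rfl
        map_add' := fun v w => by ext i; fin_cases i <;> rfl }
  exact (MulEquiv.prodMultiplicative _ _).symm.trans e1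

end Cfsg.Agent.S5212
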