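import Cfsg.Statements.S5220
import Cfsg.Agent.H1_QdF

set_option autoImplicit false
open Cfsg

namespace Cfsg.Agent.S5220

open H27.Fus H27.Grp H1.QdA H1.FusW

/-- Let F be a saturated fusion system over a nontrivial finite p-group S, let J(S) be the subgroup generated by the abelian subgroups of S of largest order, and let V be the subgroup generated by the p-th powers of the elements of Z(S). Then F is generated by the centralizer fusion system of V and the normalizer fusion system of J(S): every fusion system over S containing the maps of both contains every map of F. -/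
theorem result {Ω : Type*} [Group Ω] {S : Subgroup Ω} [Finite S] (p : ℕ) [Fact p.Prime] (hS : IsPGroup p S) (F : Cfsg.FusionSystem S) (hF : F.IsSaturated p) (hS1 : S ≠ ⊥) (C : Cfsg.FusionSystem (Cfsg.FusionSystem.centralizerIn S (Cfsg.powerClosure p 1 (S ⊓ Subgroup.centralizer (S : Set Ω))))) (hC : F.IsCentralizerSystem (Cfsg.powerClosure p 1 (S ⊓ Subgroup.centralizer (S : Set Ω))) C) (N : Cfsg.FusionSystem (Cfsg.FusionSystem.normalizerIn S (Cfsg.thompsonSubgroupAOf S))) (hN : F.IsNormalizerSystem (Cfsg.thompsonSubgroupAOf S) N) (E : Cfsg.FusionSystem S) (hCE : C.IsSubsystemOf E) (hNE : N.IsSubsystemOf E) : F.IsSubsystemOf E := by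
  have hV : Cfsg.powerClosure p 1 (S ⊓ Subgroup.centralizer (S : Set Ω)) ≤ Cfsg.FusionSystem.centralizerIn S S := pc_le 1 _
  have hVS := hV.trans cen_le
  set V := Cfsg.powerClosure p 1 (S ⊓ Subgroup.centralizer (S : Set Ω)) with hVdef
  have hSV : S ≤ Cfsg.FusionSystem.centralizerIn S V := fun s hs => mem_cen.2 ⟨hs, fun v hv => (cen_comm (hV hv) hs).symm⟩
  have hsub : SubCls F (Map E) := ⟨fun h hfg => h.congr hfg, fun h hQ => h.mono hQ, fun _ _ h1 h2 hm => h2.comp h1 hm, by
    intro P Q f hi h
    have h1 : Iso E P Q f := ⟨h, hi.maps, hi.surj⟩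
    exact h1.symm.map⟩
  have key := thomp_aux S F hS hF V le_rfl (Map E) hsub ?_ ?_
  · exact le_of_map key
  · rintro P f ⟨g, hg, hgf, hgV⟩
    apply map_of_le (hCE P)
    rw [map_of_isCentralizerSystem hC]
    rw [NKmap, NK_bot]
    simp only [actsIn_bot_iff]
    refine ⟨(le_sup_left.trans hg.le).trans hSV, fun x hx => hSV ?_, g, hg, hgf, hgV⟩
    rw [← hgf x hx]
    exact hg.mem ((le_sup_left : P ≤ _) hx)
  · intro P f hf
    apply map_of_le (hNE P)
    rw [nsys_map hN]
    exact hf

end Cfsg.Agent.S5220
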