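import Cfsg.Statements.S5221
import Mathlib
import Cfsg.Agent.H27_S4i

set_option autoImplicit false
open Cfsg

namespace Cfsg.Agent.S5221

open H27.Fus H27.Grp Cfsg.FusionSystem Cfsg.Agent.H12.ZJ

/-- Let F be a sparse fusion system over a finite p-group S: a saturated fusion system, not the inner fusion system of S, whose only saturated fusion systems over S contained in it are F itself and the inner one. If p is odd, or F is S₄-free (the symmetric group of degree 4 is not involved in any model of the normalizer system of a fully normalized F-centric subgroup), then F is constrained. -/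
theorem result {Ω : Type*} [Group Ω] {S : Subgroup Ω} [Finite S] (p : ℕ) [Fact p.Prime] (hS : IsPGroup p S) (F : Cfsg.FusionSystem S) (hF : F.IsSaturated p) (hsp : ¬ (∀ P : Subgroup Ω, F.Hom P = (Cfsg.innerFusionSystem S).Hom P) ∧ ∀ E : Cfsg.FusionSystem S, E.IsSaturated p → E.IsSubsystemOf F → (∀ P : Subgroup Ω, E.Hom P = F.Hom P) ∨ (∀ P : Subgroup Ω, E.Hom P = (Cfsg.innerFusionSystem S).Hom P)) (hp : p ≠ 2 ∨ F.IsSectionFree p (Equiv.Perm (Fin 4))) : F.IsConstrained p := by
    have hinn : ∀ E : Cfsg.FusionSystem S, (∀ P f, Map E P f → Map (Cfsg.innerFusionSystem S) P f) →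
        ∀ P, E.Hom P = (Cfsg.innerFusionSystem S).Hom P := by
      intro E h P
      apply hom_eq_of_map
      intro f
      refine ⟨h P f, fun hf => ?_⟩
      obtain ⟨h1, s, hs, hsx⟩ := map_inner_iff.1 hf
      exact (map_conj E h1 hs).congr fun x hx => (hsx x hx).symm
    refine sparse_both hS (fun E hE hsub hex => ?_) hF hp (fun h => hsp.1 (hinn F h))
    rcases hsp.2 E hE (fun P => le_of_map hsub P) with h | h
    · obtain ⟨P, f, h1, h2⟩ := hex
      exact absurd (map_of_le (h P).ge h1) h2
    · exact fun P f hf => map_of_le (h P).le hf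

end Cfsg.Agent.S5221
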