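import Cfsg.Statements.S5222
import Mathlib
import Cfsg.Agent.H27_Fr2

set_option autoImplicit false
open Cfsg

namespace Cfsg.Agent.S5222

open H27.Fus H27.Grp Cfsg.FusionSystem
open scoped commutatorElement

/-- Let F be a saturated fusion system over a finite p-group S whose normalizer fusion system of S is the inner fusion system of S (Aut_F(S) is a p-group). Then for every subgroup Q of S with [S, S] ≤ Q ≤ Φ(S), the normalizer fusion system of Q in F is the inner fusion system of N_S(Q) = S. -/
theorem result {Ω : Type*} [Group Ω] {S : Subgroup Ω} [Finite S] (p : ℕ) [Fact p.Prime] (hS : IsPGroup p S) (F : Cfsg.FusionSystem S) (hF : F.IsSaturated p) (hN : ∀ N : Cfsg.FusionSystem (Cfsg.FusionSystem.normalizerIn S S), F.IsNormalizerSystem S N → ∀ P : Subgroup Ω, N.Hom P = (Cfsg.innerFusionSystem (Cfsg.FusionSystem.normalizerIn S S)).Hom P) (Q : Subgroup Ω) (h1 : (commutator ↥S).map S.subtype ≤ Q) (h2 : Q ≤ (frattini ↥S).map S.subtype) : ∀ N : Cfsg.FusionSystem (Cfsg.FusionSystem.normalizerIn S Q), F.IsNormalizerSystem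 Q N → ∀ P : Subgroup Ω, N.Hom P = (Cfsg.innerFusionSystem (Cfsg.FusionSystem.normalizerIn S Q)).Hom P := by
    intro N hNs
    classical
    have hcomm : ∀ x ∈ S, ∀ y ∈ S, ⁅x, y⁆ ∈ Q := fun x hx y hy =>
      h1 ⟨⁅(⟨x, hx⟩ : S), (⟨y, hy⟩ : S)⁆, Subgroup.commutator_mem_commutator trivial trivial, rfl⟩
    have hQS : Q ≤ S := h2.trans (Subgroup.map_subtype_le _)
    have hSn : S ≤ normalizerIn S Q := fun s hs => mem_nrm_of_forall hQS hs fun y hy => by
      have h1 := hcomm s hs y (hQS hy)
      have h2 : s * y * s⁻¹ = ⁅s, y⁆ * y := by rw [commutatorElement_def]; group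
      rw [h2]; exact Q.mul_mem h1 hy
    have hSe : normalizerIn S Q = S := le_antisymm nrm_le hSn
    haveI : Finite (normalizerIn S Q) := fin_nrm
    have hfn : F.IsFullyNormalized Q := ⟨hQS, fun R hR => card_le_of_le (nrm_le.trans hSn)⟩
    have hNsat := normalizerSystem_saturated hS hF hfn hNs
    have hpN := isPGroup_mono hS (nrm_le (S := S) (P := Q))
    have hQn := nsys_normal hNs hQS
    -- Aut_F(S) is a p-group
    have haut : IsPGroup p (F.autGroup S) := by
      have hle : F.autGroup S ≤ Inn S := by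
        intro α hα
        have hi := (mem_autGroup_iff le_rfl).1 hα
        obtain ⟨NS, hNS⟩ := exists_normalizerSystem F S le_rfl
        haveI : Finite (normalizerIn S S) := fin_nrm
        have hm : Map NS S (totA α) := nsys_of_ge hNS le_rfl (le_nrm le_rfl) hi.map hi.im_eq
        obtain ⟨-, s, hs, hsf⟩ := map_inner_iff.1 (map_of_le (hN NS hNS S).le hm)
        exact mem_inn.2 ⟨s, nrm_le hs, fun x => by rw [← hsf x x.2, totA_apply]⟩
      have hInn : IsPGroup p (Inn S) := by
        have := (hS.to_subgroup ⊤).map (MulAut.conj : S →* MulAut S)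
        rw [← MonoidHom.range_eq_map] at this
        exact this
      exact hInn.to_le hle
    have hautN : IsPGroup p (N.autGroup (normalizerIn S Q)) := by
      have h3 : N.autGroup (normalizerIn S Q) ≤ F.autGroup (normalizerIn S Q) :=
        autGroup_mono_of_sub (fun P f => nsys_sub hNs) nrm_le le_rfl
      have h4 : IsPGroup p (F.autGroup (normalizerIn S Q)) := by rw [hSe]; exact haut
      exact h4.to_le h3
    have hcN : ∀ x ∈ normalizerIn S Q, ∀ y ∈ normalizerIn S Q, ⁅x, y⁆ ∈ Q := fun x hx y hy =>
      hcomm x (nrm_le hx) y (nrm_le hy)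
    have hmod := mod_of_comm hpN hNsat (IsNormal.strong hQn) hcN hautN
    have hin := inner_of_mod_frattini hpN hNsat hQn hcN hmod (fun X hX hQX => ?_)
    · intro P
      refine hom_eq_of_map fun f => ⟨hin P f, fun hf => ?_⟩
      obtain ⟨h5, s, hs, h6⟩ := map_inner_iff.1 hf
      exact (map_conj N h5 hs).congr fun x hx => (h6 x hx).symm
    · rw [hSe] at hX hQX ⊢
      have h7 : X.subgroupOf S ⊔ frattini S = ⊤ := by
        rw [eq_top_iff]
        intro s _
        have h8 : (s : Ω) ∈ Q ⊔ X := by rw [hQX]; exact s.2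
        have h9 : Q ⊔ X ≤ (X.subgroupOf S ⊔ frattini S).map S.subtype := by
          refine sup_le ?_ ?_
          · exact h2.trans (Subgroup.map_mono le_sup_right)
          · intro x hx
            exact ⟨⟨x, hX hx⟩, Subgroup.mem_sup_left hx, rfl⟩
        obtain ⟨t, ht, hts⟩ := h9 h8
        have : t = s := Subtype.ext hts
        rw [← this]; exact ht
      have h10 := frattini_nongenerating h7
      exact le_antisymm hX (Subgroup.subgroupOf_eq_top.1 h10)

end Cfsg.Agent.S5222
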