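import Cfsg.Statements.S5223
import Cfsg.Agent.H1_CritF

set_option autoImplicit false
open Cfsg

namespace Cfsg.Agent.S5223

open H27.Fus H27.Grp H1.CritF

/-- Let F be a saturated fusion system over a finite p-group S. Suppose there are subgroups Q₀ = S, Q₁, …, Qₙ = 1 (not required to be nested) such that for each i < n the focal subgroup of Qᵢ (generated by the elements x⁻¹φ(x), x ∈ Qᵢ, φ a map of F defined on the cyclic group generated by x) lies in Qᵢ₊₁. Then F is the inner fusion system of S. -/
theorem result {Ω : Type*} [Group Ω] {S : Subgroup Ω} [Finite S] (p : ℕ) [Fact p.Prime] (hS : IsPGroup p S) (F : Cfsg.FusionSystem S) (hF : F.IsSaturated p) (n : ℕ) (Q : Fin (n + 1) → Subgroup Ω) (hQ0 : Q 0 = S) (hQn : Q (Fin.last n) = ⊥) (hstep : ∀ i : Fin n, Subgroup.closure {y : Ω | ∃ x ∈ Q i.castSucc, ∃ φ ∈ F.Hom (Subgroup.zpowers x), y = x⁻¹ * φ ⟨x, Subgroup.mem_zpowers x⟩} ≤ Q i.succ) : ∀ P : Subgroup Ω, F.Hom P = (Cfsg.innerFusionSystem S).Hom P := by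
  have key : F = Cfsg.innerFusionSystem S := by
    apply eq_inner_of_isPGroup hS hF
    intro P hP
    have hfP : Finite P := finite_of_le hP
    apply pgroup_of_coprime
    intro α hα hc
    have hi := (mem_autGroup_iff hP).1 hα
    have h1 : ∀ i : Fin (n + 1), ∀ x : P, (x : Ω) ∈ Q i → α x = x := by
      intro i
      induction i using Fin.reverseInduction with
      | last =>
        intro x hx
        rw [hQn, Subgroup.mem_bot] at hx
        have : x = 1 := Subtype.ext hx
        rw [this, map_one]
      | cast i ih =>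
        intro x hx
        apply H2.Critical.fixed_of_coprime (isPGroup_mono hS hP) α hc
        apply ih
        apply hstep i
        apply Subgroup.subset_closure
        obtain ⟨φ, hφ, hφf⟩ := hi.map.mono (show Subgroup.zpowers (x : Ω) ≤ P by rw [Subgroup.zpowers_le]; exact x.2)
        refine ⟨x, hx, φ, hφ, ?_⟩
        rw [hφf, totA_apply]
        rfl
    ext x
    rw [h1 0 x (by rw [hQ0]; exact hP x.2)]
    rfl
  intro P
  rw [key]

end Cfsg.Agent.S5223
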