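import Cfsg.Statements.S5245
import Mathlib
import Cfsg.Agent.H27_Ix7
import Cfsg.Agent.H27_FusEss

set_option autoImplicit false
open Cfsg

namespace Cfsg.Agent.S5245

open Cfsg.Agent.H27.Fus Cfsg.Agent.H27.Grp Cfsg.Agent.H27.Ix Cfsg.FusionSystem

theorem exists_prime_ne {G : Type*} [Group G] [Finite G] {p : ℕ} [hp : Fact p.Prime] (h : ¬ IsPGroup p G) :
    ∃ q : ℕ, q.Prime ∧ q ≠ p ∧ q ∣ Nat.card G := by
  by_contra hcon
  push Not at hcon
  apply h
  rw [IsPGroup.iff_card]
  have h0 : Nat.card G ≠ 0 := Nat.card_pos.ne'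
  refine ⟨(Nat.card G).primeFactorsList.length, Nat.eq_prime_pow_of_unique_prime_dvd h0 (p := p) ?_⟩
  intro d hd hdvd
  by_contra hne
  exact hcon d hd hne hdvd

/-- Let F be an extremely sparse fusion system over a finite p-group S (saturated, not the inner system, and every saturated fusion system over any subgroup T of S contained in F is F itself or the inner system of T). Then S is normal in F, the focal and hyperfocal subgroups of F are both S, and Aut_F(S) is generated by the inner automorphisms of S together with a single automorphism of prime order q ≠ p (F is the fusion system of the semidirect product of S by a cyclic group of prime order). -/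
theorem result {Ω : Type*} [Group Ω] {S : Subgroup Ω} [Finite S] (p : ℕ) [Fact p.Prime] (hS : IsPGroup p S) (F : Cfsg.FusionSystem S) (hF : F.IsSaturated p) (hxs : ¬ (∀ P : Subgroup Ω, F.Hom P = (Cfsg.innerFusionSystem S).Hom P) ∧ ∀ (T : Subgroup Ω) (E : Cfsg.FusionSystem T), E.IsSaturated p → E.IsSubsystemOf F → (T = S ∧ ∀ P : Subgroup Ω, E.Hom P = F.Hom P) ∨ (∀ P : Subgroup Ω, E.Hom P = (Cfsg.innerFusionSystem T).Hom P)) : F.IsNormal S ∧ F.focalSubgroup = S ∧ F.hyperfocalSubgroup p = S ∧ ∃ (q : ℕ) (β : MulAut ↥S), q.Prime ∧ q ≠ p ∧ β ∈ F.autGroup S ∧ orderOf β = q ∧ (F.autGroup S : Subgroup (MulAut ↥S)) = Cfsg.Inn ↥S ⊔ Subgroup.zpowers β := by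
  obtain ⟨hni, hall⟩ := hxs
  have hhyp : F.hyperfocalSubgroup p = S := by
    obtain ⟨D, hD, hDi⟩ := exists_pix (p := p) _ ‹Finite S› F rfl hS hF (T := F.hyperfocalSubgroup p) hyp_le le_rfl
    rcases hall _ D hD (isSubsystemOf_iff.2 hDi.sub) with ⟨h1, -⟩ | h1
    · exact h1
    · exfalso
      have h2 : D = innerFusionSystem (F.hyperfocalSubgroup p) := fs_ext h1
      have h3 := hDi.hyp_eq hS hF
      rw [h2, hyp_inner (hS.to_le hyp_le)] at h3
      apply hni
      intro P
      refine hom_eq_of_map fun f => ⟨inner_of_hyp hS hF h3.symm P f, fun h => ?_⟩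
      obtain ⟨h4, s, hs, h5⟩ := map_inner.1 h
      exact (map_conj F h4 hs).congr fun x hx => (h5 x hx).symm
  have hfoc : F.focalSubgroup = S := le_antisymm foc_le (hhyp.ge.trans hyp_le_foc)
  obtain ⟨P, hP, hnp⟩ : ∃ P : Subgroup Ω, F.IsFullyNormalized P ∧ ¬ IsPGroup p (F.autGroup P) := by
    by_contra hcon
    push Not at hcon
    apply hni
    have h1 := alperin_le hS hF (E := innerFusionSystem S) (fun P hP => by
      have hfn : F.IsFullyNormalized P := by
        rcases hP with rfl | hP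
        · exact fn_top F
        · exact hP.2.1
      have hfin := finite_autGroup (F := F) hfn.1
      have h2 := (isFullyAutomized_iff.1 (fn_automized hS hF hfn)).2
      rw [aut_inner hfn.1, ← h2.eq_of_isPGroup (hcon P hfn)])
    intro P
    refine hom_eq_of_map fun f => ⟨h1 P f, fun h => ?_⟩
    obtain ⟨h4, s, hs, h5⟩ := map_inner.1 h
    exact (map_conj F h4 hs).congr fun x hx => (h5 x hx).symm
  have hPS := hP.1
  have hfinP : Finite P := finite_of_le hPS
  have hfinA := finite_autGroup (F := F) hPS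
  obtain ⟨q, hq, hqp, hqd⟩ := exists_prime_ne hnp
  haveI : Fact q.Prime := ⟨hq⟩
  obtain ⟨α', hα'⟩ := exists_prime_orderOf_dvd_card' (G := ↥(F.autGroup P)) q hqd
  obtain ⟨α, hα⟩ := α'
  rw [Subgroup.orderOf_mk] at hα'
  have hcard : Nat.card (Subgroup.zpowers α) = q := by rw [Nat.card_zpowers, hα']
  obtain ⟨E, hE, hm⟩ := exists_semi (p := p) (hS.to_le hPS) (Subgroup.zpowers α) (by
    rw [hcard]; intro h; exact hqp ((Nat.prime_dvd_prime_iff_eq Fact.out hq).1 h).symm)
  have hsub : ∀ R f, Map E R f → Map F R f := by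
    intro R f hf
    obtain ⟨h1, h2, κ, hκ, s, hs, h3⟩ := (hm R f).1 hf
    have hκF : κ ∈ F.autGroup P := (Subgroup.zpowers_le.2 hα) hκ
    have h4 := ((mem_autGroup_iff hPS).1 hκF).map
    have h5 := (map_conj F hPS (hPS hs)).comp h4 fun x hx => by rw [totA_of_mem _ hx]; exact (κ ⟨x, hx⟩).2
    refine (h5.mono h1).congr fun x hx => ?_
    show s * totA κ x * s⁻¹ = f x
    rw [h3 x hx (h1 hx), totA_of_mem _ (h1 hx)]
  have hαE : Map E P (totA α) := (hm _ _).2 ⟨le_rfl, fun x hx => by rw [totA_of_mem _ hx]; exact (α ⟨x, hx⟩).2,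
    α, Subgroup.mem_zpowers α, 1, P.one_mem, fun x hx hx' => by rw [totA_of_mem _ hx]; group⟩
  rcases hall P E hE (isSubsystemOf_iff.2 hsub) with ⟨hPS', hEF⟩ | hin
  · subst hPS'
    have hEF' : ∀ R f, Map F R f ↔ Map E R f := fun R f => by
      have : E = F := fs_ext hEF
      rw [this]
    have hKF : Subgroup.zpowers α ≤ F.autGroup P := Subgroup.zpowers_le.2 hα
    refine ⟨?_, hfoc, hhyp, q, α, hq, hqp, hα, hα', ?_⟩
    · rw [isNormal_iff]
      refine ⟨le_rfl, fun R f hf => ?_⟩
      obtain ⟨h1, h2, κ, hκ, s, hs, h3⟩ := (hm R f).1 ((hEF' R f).1 hf)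
      have h4 := (mem_autGroup_iff hPS).1 (hKF hκ)
      have h5 := (map_conj F hPS hs).comp h4.map fun x hx => by rw [totA_of_mem _ hx]; exact (κ ⟨x, hx⟩).2
      have h6 : Iso F P P ((fun x => s * x * s⁻¹) ∘ totA κ) := iso_of_card_le h5 (fun x hx => h5.mem hx) le_rfl
      refine ⟨(fun x => s * x * s⁻¹) ∘ totA κ, ?_, fun x hx => ?_, ?_⟩
      · exact h5.mono (sup_le h1 le_rfl)
      · show s * totA κ x * s⁻¹ = f x
        rw [h3 x hx (h1 hx), totA_of_mem _ (h1 hx)]
      · exact h6.im_eq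
    · apply le_antisymm
      · intro β hβ
        obtain ⟨h1, h2, κ, hκ, s, hs, h3⟩ := (hm _ _).1 ((hEF' _ _).1 ((mem_autGroup_iff hPS).1 hβ).map)
        have h4 : cjA P s (Subgroup.le_normalizer hs) ∈ Inn P := mem_inn.2 ⟨s, hs, fun x => rfl⟩
        have h5 : β = cjA P s (Subgroup.le_normalizer hs) * κ := by
          ext x
          have := h3 x x.2 x.2
          rw [totA_apply] at this
          rw [this]; rfl
        rw [h5]
        exact Subgroup.mul_mem _ (Subgroup.mem_sup_left h4) (Subgroup.mem_sup_right hκ)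
      · exact sup_le ((inn_le_autInducedBy le_rfl).trans (autInducedBy_le_autGroup F le_rfl)) hKF
  · exfalso
    have hEi : E = innerFusionSystem P := fs_ext hin
    rw [hEi] at hαE
    have h1 : α ∈ autInducedBy P P := by
      rw [← aut_inner le_rfl]
      exact mem_autGroup_of hαE fun x => (totA_apply α x).symm
    obtain ⟨k, hk⟩ := isPGroup_autInducedBy (hS.to_le hPS) ⟨α, h1⟩
    have h2 : α ^ (p ^ k) = 1 := congrArg Subtype.val hk
    have h3 := orderOf_dvd_of_pow_eq_one h2
    rw [hα'] at h3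
    exact hqp ((Nat.prime_dvd_prime_iff_eq hq Fact.out).1 (hq.dvd_of_dvd_pow h3))

end Cfsg.Agent.S5245
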