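import Cfsg.Statements.S5246
import Cfsg.Agent.H1_PsG
import Cfsg.Agent.H13_KT

set_option autoImplicit false
open Cfsg

namespace Cfsg.Agent.S5246

open H27.Fus H27.Grp H1.Ps H12.ZJ H1.QdA
open scoped commutatorElement

theorem comm_of_quad {G : Type*} [Group G] [Finite G] {Q : Subgroup G} {g : G}
    (h : ∀ a ∈ Q, g * (a⁻¹ * (g * a * g⁻¹)) * g⁻¹ = a⁻¹ * (g * a * g⁻¹)) :
    ⁅⁅Q, Subgroup.zpowers g⁆, Subgroup.zpowers g⁆ = ⊥ := by
  have hc : ⁅Q, Subgroup.zpowers g⁆ ≤ Subgroup.centralizer {g} := by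
    rw [Subgroup.commutator_le]
    intro a ha z hz
    obtain ⟨m, rfl⟩ := mem_powers_iff_mem_zpowers.2 hz
    have ha' : a⁻¹ ∈ Q := Q.inv_mem ha
    set b := a⁻¹ with hb
    set c := b⁻¹ * (g * b * g⁻¹) with hcdef
    have hgc : g * c * g⁻¹ = c := h b ha'
    have hcc : c ∈ Subgroup.centralizer ({g} : Set G) := by
      rw [Subgroup.mem_centralizer_singleton_iff]
      have h2 : g * c = c * g := by nth_rewrite 2 [← hgc]; group
      exact h2.symm
    have key : ∀ m : ℕ, g ^ m * b * (g ^ m)⁻¹ = b * c ^ m := by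
      intro m
      induction m with
      | zero => simp
      | succ m ih =>
        have e1 : g ^ (m + 1) * b * (g ^ (m + 1))⁻¹ = g * (g ^ m * b * (g ^ m)⁻¹) * g⁻¹ := by rw [pow_succ']; group
        have e2 : g * c ^ m * g⁻¹ = c ^ m := by rw [← conj_pow, hgc]
        have e3 : g * b * g⁻¹ = b * c := by rw [hcdef]; group
        rw [e1, ih]
        calc g * (b * c ^ m) * g⁻¹ = (g * b * g⁻¹) * (g * c ^ m * g⁻¹) := by group
          _ = b * c * c ^ m := by rw [e2, e3]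
          _ = b * c ^ (m + 1) := by rw [pow_succ']; group
    have e4 : ⁅a, g ^ m⁆ = c ^ m := by
      have h1 : ⁅a, g ^ m⁆ = b⁻¹ * (g ^ m * b * (g ^ m)⁻¹) := by
        rw [commutatorElement_def, hb]; group
      rw [h1, key, inv_mul_cancel_left]
    show ⁅a, g ^ m⁆ ∈ _
    rw [e4]; exact Subgroup.pow_mem _ hcc m
  rw [Subgroup.commutator_eq_bot_iff_le_centralizer]
  have e : Subgroup.centralizer (Subgroup.zpowers g : Set G) = Subgroup.centralizer {g} := by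
    rw [Subgroup.zpowers_eq_closure, Subgroup.centralizer_closure]
  rw [e]; exact hc

theorem quad_of_comm {G : Type*} [Group G] {Q : Subgroup G} {g : G}
    (h : ⁅⁅Q, Subgroup.zpowers g⁆, Subgroup.zpowers g⁆ = ⊥) :
    ∀ b ∈ Q, g * (b⁻¹ * (g * b * g⁻¹)) * g⁻¹ = b⁻¹ * (g * b * g⁻¹) := by
  intro b hb
  have h3 : ⁅b⁻¹, g⁆ ∈ ⁅Q, Subgroup.zpowers g⁆ :=
    Subgroup.commutator_mem_commutator (Q.inv_mem hb) (Subgroup.mem_zpowers g)
  have h4 : ⁅⁅b⁻¹, g⁆, g⁆ ∈ ⁅⁅Q, Subgroup.zpowers g⁆, Subgroup.zpowers g⁆ :=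
    Subgroup.commutator_mem_commutator h3 (Subgroup.mem_zpowers g)
  rw [h, Subgroup.mem_bot, commutatorElement_eq_one_iff_mul_comm, commutatorElement_def, inv_inv] at h4
  have h5 : b⁻¹ * (g * b * g⁻¹) = b⁻¹ * g * b * g⁻¹ := by group
  rw [h5, ← h4]; group

theorem pow_act {G : Type*} [Group G] {Q : Subgroup G} {g : G} {α : MulAut Q} (h : ∀ x : Q, (α x : G) = g * x * g⁻¹) (n : ℕ) :
    ∀ x : Q, ((α ^ n) x : G) = g ^ n * x * (g ^ n)⁻¹ := by
  induction n with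
  | zero => intro x; simp
  | succ n ih =>
    intro x
    rw [pow_succ, MulAut.mul_apply, ih, h, pow_succ]; group

/-- Let p be an odd prime, G a finite group and P a Sylow p-subgroup. Call a fusion system F p-stable when, for every fully normalized subgroup Q and every χ ∈ Aut_F(Q) acting quadratically on Q (that is, χ fixes a⁻¹χ(a) for every a ∈ Q; equivalently χ(a⁻¹)·a·χ(a⁻¹)·χ(χ(a)) = 1), χ lies in O_p(Aut_F(Q)). Then G is p-stable in the normalizer form (for every p-subgroup Q and x ∈ N_G(Q) with [Q, x, x] = 1, the image of x lies in O_p(N_G(Q)/C_G(Q))) if and only if the fusion system of G on P is p-stable. -/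
theorem result {Ω : Type*} [Group Ω] [Finite Ω] {p : ℕ} [Fact p.Prime] (hp : p ≠ 2) (P : Sylow p Ω) : Cfsg.IsNormalizerPStable p Ω ↔ (∀ Q : Subgroup Ω, (Cfsg.groupFusionSystem (P : Subgroup Ω)).IsFullyNormalized Q → ∀ χ : MulAut ↥Q, χ ∈ (Cfsg.groupFusionSystem (P : Subgroup Ω)).autGroup Q → (∀ a : ↥Q, (χ a⁻¹) * a * (χ a⁻¹) * (χ (χ a)) = 1) → χ ∈ ((Cfsg.pCore p ↥((Cfsg.groupFusionSystem (P : Subgroup Ω)).autGroup Q)).map ((Cfsg.groupFusionSystem (P : Subgroup Ω)).autGroup Q).subtype : Subgroup (MulAut ↥Q))) := by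
  have hPp : IsPGroup p (P : Subgroup Ω) := P.isPGroup'
  have hreal : ∀ Q ≤ (P : Subgroup Ω), ∀ α : MulAut Q, α ∈ (Cfsg.groupFusionSystem (P : Subgroup Ω)).autGroup Q ↔
      ∃ g : Ω, ∀ x : Q, (α x : Ω) = g * x * g⁻¹ := by
    intro Q hQ α
    rw [gfs_eq, autGroup_fss hQ, mem_autInducedBy]
    simp
  rw [H13.KT.stable_iff]
  constructor
  · intro h Q hQ χ hχ hq
    have hQP := hQ.1
    obtain ⟨g, hgx⟩ := (hreal Q hQP χ).1 hχ
    have hfA : Finite (MulAut Q) := finA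
    have hgN : g ∈ Subgroup.normalizer (Q : Set Ω) := autInducedBy_norm (K := ⊤) hgx
    have hq' := quad_iff.1 hq
    obtain ⟨K, hgK, hKN, hNK, hKp⟩ := h Q (isPGroup_mono hPp hQP) g hgN (comm_of_quad fun a ha => by
      have h1 := congrArg Subtype.val (hq' ⟨a, ha⟩)
      rw [hgx] at h1
      have h2 : (((⟨a, ha⟩ : Q)⁻¹ * χ ⟨a, ha⟩ : Q) : Ω) = a⁻¹ * (g * a * g⁻¹) := by
        show a⁻¹ * (χ ⟨a, ha⟩ : Ω) = _
        rw [hgx]
      rw [h2] at h1
      exact h1)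
    have hle : Cfsg.autInducedBy K Q ≤ OL p ((Cfsg.groupFusionSystem (P : Subgroup Ω)).autGroup Q) := by
      apply le_OL
      · intro α hα
        obtain ⟨k, -, hk⟩ := mem_autInducedBy.1 hα
        exact (hreal Q hQP α).2 ⟨k, hk⟩
      · intro β hβ α hα
        obtain ⟨k, hkK, hk⟩ := mem_autInducedBy.1 hα
        obtain ⟨b, hb⟩ := (hreal Q hQP β).1 hβ
        have hbN : b ∈ Subgroup.normalizer (Q : Set Ω) := autInducedBy_norm (K := ⊤) hb
        refine mem_autInducedBy.2 ⟨b * k * b⁻¹, (Subgroup.mem_normalizer_iff.1 (hNK hbN) k).1 hkK, fun x => ?_⟩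
        obtain ⟨y, rfl⟩ := β.surjective x
        rw [MulAut.mul_apply, MulAut.mul_apply, MulAut.inv_apply_self, hb, hk, hb]; group
      · rintro ⟨α, hα⟩
        obtain ⟨k, hkK, hk⟩ := mem_autInducedBy.1 hα
        obtain ⟨n, hn⟩ := hKp k hkK
        refine ⟨n, Subtype.ext ?_⟩
        show α ^ (p ^ n) = 1
        ext x
        rw [pow_act hk, ← Subgroup.mem_centralizer_iff.1 hn x x.2]; simp
    exact hle (mem_autInducedBy.2 ⟨g, hgK, hgx⟩)
  · intro h P' hP' g hg hcomm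
    have hst := pst_of_fn h
    obtain ⟨P₁, hP₁⟩ := hP'.exists_le_sylow
    obtain ⟨u, hu⟩ := MulAction.exists_smul_eq Ω P₁ P
    let Q : Subgroup Ω := P'.map (MulAut.conj u).toMonoidHom
    have hmem : ∀ x, x ∈ Q ↔ ∃ y ∈ P', u * y * u⁻¹ = x := fun x => Iff.rfl
    have hQP : Q ≤ (P : Subgroup Ω) := by
      rintro _ ⟨y, hy, rfl⟩
      rw [← hu]
      exact Subgroup.smul_mem_pointwise_smul _ _ _ (hP₁ hy)
    have hfQ : Finite Q := inferInstance
    have hfA : Finite (MulAut Q) := finA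
    have hnorm : ∀ k ∈ Subgroup.normalizer (P' : Set Ω), u * k * u⁻¹ ∈ Subgroup.normalizer (Q : Set Ω) := by
      intro k hk
      rw [Subgroup.mem_normalizer_iff]
      intro x
      rw [hmem, hmem]
      constructor
      · rintro ⟨y, hy, rfl⟩
        exact ⟨k * y * k⁻¹, (Subgroup.mem_normalizer_iff.1 hk y).1 hy, by group⟩
      · rintro ⟨y, hy, hyx⟩
        refine ⟨k⁻¹ * y * k, ?_, ?_⟩
        · have := (Subgroup.mem_normalizer_iff.1 (Subgroup.inv_mem _ hk) y).1 hy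
          rwa [inv_inv] at this
        · have : u * (k⁻¹ * y * k) * u⁻¹ = (u * k * u⁻¹)⁻¹ * (u * y * u⁻¹) * (u * k * u⁻¹) := by group
          rw [this, hyx]; group
    set A := (Cfsg.groupFusionSystem (P : Subgroup Ω)).autGroup Q with hA
    let K : Subgroup Ω :=
      { carrier := {k | k ∈ Subgroup.normalizer (P' : Set Ω) ∧ ∃ α ∈ OL p A, ∀ x : Q, (α x : Ω) = (u * k * u⁻¹) * x * (u * k * u⁻¹)⁻¹}
        one_mem' := ⟨Subgroup.one_mem _, 1, Subgroup.one_mem _, fun x => by simp⟩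
        mul_mem' := by
          rintro a b ⟨ha', α, hα, hαx⟩ ⟨hb', β, hβ, hβx⟩
          refine ⟨Subgroup.mul_mem _ ha' hb', α * β, Subgroup.mul_mem _ hα hβ, fun x => ?_⟩
          rw [MulAut.mul_apply, hαx, hβx]; group
        inv_mem' := by
          rintro a ⟨ha', α, hα, hαx⟩
          refine ⟨Subgroup.inv_mem _ ha', α⁻¹, Subgroup.inv_mem _ hα, fun x => ?_⟩
          have h1 := hαx (α⁻¹ x)
          rw [MulAut.apply_inv_self] at h1
          rw [h1]; group }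
    have hK : ∀ k, k ∈ K ↔ k ∈ Subgroup.normalizer (P' : Set Ω) ∧
      ∃ α ∈ OL p A, ∀ x : Q, (α x : Ω) = (u * k * u⁻¹) * x * (u * k * u⁻¹)⁻¹ := fun k => Iff.rfl
    have hcjA : ∀ k (hk : k ∈ Subgroup.normalizer (P' : Set Ω)), cjA Q (u * k * u⁻¹) (hnorm k hk) ∈ A := fun k hk =>
      (hreal Q hQP _).2 ⟨u * k * u⁻¹, fun x => rfl⟩
    have hconj : ∀ b ∈ Subgroup.normalizer (P' : Set Ω), ∀ k ∈ K, b * k * b⁻¹ ∈ K := by
      rintro b hb k ⟨hkN, α, hα, hαx⟩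
      refine ⟨Subgroup.mul_mem _ (Subgroup.mul_mem _ hb hkN) (Subgroup.inv_mem _ hb),
        cjA Q (u * b * u⁻¹) (hnorm b hb) * α * (cjA Q (u * b * u⁻¹) (hnorm b hb))⁻¹, OL_conj _ _ (hcjA b hb) _ hα, fun x => ?_⟩
      obtain ⟨y, rfl⟩ := (cjA Q (u * b * u⁻¹) (hnorm b hb)).surjective x
      rw [MulAut.mul_apply, MulAut.mul_apply, MulAut.inv_apply_self, cjA_apply, hαx, cjA_apply]; group
    refine ⟨K, ?_, fun k hk => hk.1, ?_, ?_⟩
    · refine ⟨hg, cjA Q (u * g * u⁻¹) (hnorm g hg), hst Q hQP _ (hcjA g hg) ?_, fun x => rfl⟩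
      intro a
      obtain ⟨y, hy, hya⟩ := (hmem a).1 a.2
      have h1 := quad_of_comm hcomm y hy
      apply Subtype.ext
      show (u * g * u⁻¹) * ((a : Ω)⁻¹ * ((u * g * u⁻¹) * a * (u * g * u⁻¹)⁻¹)) * (u * g * u⁻¹)⁻¹ = (a : Ω)⁻¹ * ((u * g * u⁻¹) * a * (u * g * u⁻¹)⁻¹)
      rw [← hya]
      have h2 : (u * g * u⁻¹) * ((u * y * u⁻¹)⁻¹ * ((u * g * u⁻¹) * (u * y * u⁻¹) * (u * g * u⁻¹)⁻¹)) * (u * g * u⁻¹)⁻¹ =
        u * (g * (y⁻¹ * (g * y * g⁻¹)) * g⁻¹) * u⁻¹ := by group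
      rw [h2, h1]; group
    · intro b hb
      rw [Subgroup.mem_normalizer_iff]
      intro k
      refine ⟨hconj b hb k, fun hk => ?_⟩
      have := hconj b⁻¹ (Subgroup.inv_mem _ hb) _ hk
      have e : b⁻¹ * (b * k * b⁻¹) * b⁻¹⁻¹ = k := by group
      rwa [e] at this
    · rintro k ⟨hkN, α, hα, hαx⟩
      obtain ⟨n, hn⟩ := OL_pgroup A ⟨α, hα⟩
      have hn' : α ^ (p ^ n) = 1 := congrArg Subtype.val hn
      refine ⟨n, ?_⟩
      rw [Subgroup.mem_centralizer_iff]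
      intro y hy
      have h1 := pow_act hαx (p ^ n) ⟨u * y * u⁻¹, (hmem _).2 ⟨y, hy, rfl⟩⟩
      rw [hn'] at h1
      have h2 : u * y * u⁻¹ = (u * k * u⁻¹) ^ (p ^ n) * (u * y * u⁻¹) * ((u * k * u⁻¹) ^ (p ^ n))⁻¹ := h1
      rw [conj_pow] at h2
      have h3 : y = k ^ (p ^ n) * y * (k ^ (p ^ n))⁻¹ := by
        have h4 := congrArg (fun z => u⁻¹ * z * u) h2
        beta_reduce at h4
        have h5 : u⁻¹ * (u * y * u⁻¹) * u = y := by group
        rw [h5] at h4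
        nth_rewrite 1 [h4]; group
      nth_rewrite 1 [h3]; group

end Cfsg.Agent.S5246
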