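import Cfsg.Statements.S5247
import Cfsg.Agent.H1_PsG

set_option autoImplicit false
open Cfsg

namespace Cfsg.Agent.S5247

open H27.Fus H27.Grp H1.Ps H12.ZJ H1.QdA

/-- Let p be an odd prime and F a saturated fusion system over a finite p-group S. Call a fusion system E (over any subgroup) p-stable when, for every fully E-normalized subgroup Q and every χ ∈ Aut_E(Q) with χ(a⁻¹)·a·χ(a⁻¹)·χ(χ(a)) = 1 for all a ∈ Q (χ acts quadratically), χ lies in O_p(Aut_E(Q)). Then F is p-stable if and only if every normalizer fusion system N_F(R) of every non-cyclic fully F-normalized subgroup R of S is p-stable. -/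
theorem result {Ω : Type*} [Group Ω] {S : Subgroup Ω} [Finite S] (p : ℕ) [Fact p.Prime] (hS : IsPGroup p S) (F : Cfsg.FusionSystem S) (hF : F.IsSaturated p) (hp : p ≠ 2) : (∀ Q : Subgroup Ω, F.IsFullyNormalized Q → ∀ χ : MulAut ↥Q, χ ∈ F.autGroup Q → (∀ a : ↥Q, (χ a⁻¹) * a * (χ a⁻¹) * (χ (χ a)) = 1) → χ ∈ ((Cfsg.pCore p ↥(F.autGroup Q)).map (F.autGroup Q).subtype : Subgroup (MulAut ↥Q))) ↔ ∀ R : Subgroup Ω, F.IsFullyNormalized R → ¬ IsCyclic ↥R → ∀ N : Cfsg.FusionSystem (Cfsg.FusionSystem.normalizerIn S R), F.IsNormalizerSystem R N → (∀ Q : Subgroup Ω, N.IsFullyNormalized Q → ∀ χ : MulAut ↥Q, χ ∈ N.autGroup Q → (∀ a : ↥Q, (χ a⁻¹) * a * (χ a⁻¹) * (χ (χ a)) = 1) → χ ∈ ((Cfsg.pCore p ↥(N.autGroup Q)).map (N.autGroup Q).subtype : Subgroup (MulAut ↥Q))) := by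
  constructor
  · intro h R hR _ N hN Q hQ χ hχ hq
    have hst := (pst_of_fn h).sub (fun P f hf => nsys_sub hN hf)
    have : Finite (Cfsg.FusionSystem.normalizerIn S R) := fin_nrm
    exact hst.apply hQ.1 hχ hq
  · intro h Q hQ χ hχ hq
    have hQS := hQ.1
    have hfQ : Finite Q := finite_of_le hQS
    have hfA : Finite (MulAut Q) := finA
    by_cases hc : IsCyclic Q
    · -- `Aut(Q)` is abelian
      have hcomm : ∀ a b : MulAut Q, a * b = b * a := by
        intro a b
        obtain ⟨g, hg⟩ := hc.exists_generator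
        have key : ∀ a : MulAut Q, ∃ n : ℤ, ∀ x, a x = x ^ n := by
          intro a
          obtain ⟨n, hn⟩ := Subgroup.mem_zpowers_iff.1 (hg (a g))
          refine ⟨n, fun x => ?_⟩
          obtain ⟨m, rfl⟩ := Subgroup.mem_zpowers_iff.1 (hg x)
          rw [map_zpow, ← hn, ← zpow_mul, ← zpow_mul, mul_comm]
        obtain ⟨n, hn⟩ := key a
        obtain ⟨m, hm⟩ := key b
        ext x
        rw [MulAut.mul_apply, MulAut.mul_apply, hm x, hn x, map_zpow, map_zpow, hn x, hm x, ← zpow_mul, ← zpow_mul, mul_comm]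
      have hq' := quad_iff.1 hq
      obtain ⟨k, hk⟩ := quad_pow (p := p) (isPGroup_mono hS hQS) hq'
      have hle : Subgroup.zpowers χ ≤ OL p (F.autGroup Q) := by
        apply le_OL
        · rw [Subgroup.zpowers_le]; exact hχ
        · intro g _ x hx
          rw [hcomm g x, mul_assoc, mul_inv_cancel, mul_one]; exact hx
        · rintro ⟨_, j, rfl⟩
          refine ⟨k, Subtype.ext ?_⟩
          show (χ ^ j) ^ (p ^ k) = 1
          rw [← zpow_natCast, ← zpow_mul, mul_comm, zpow_mul, zpow_natCast, hk, one_zpow]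
      exact hle (Subgroup.mem_zpowers χ)
    · obtain ⟨N, hN⟩ := exists_normalizerSystem F Q hQS
      have heq := nsys_autGroup hN hQS
      have : Finite (Cfsg.FusionSystem.normalizerIn S Q) := fin_nrm
      have hst : PSt p N := pst_of_fn (h Q hQ hc N hN)
      have h1 := hst Q (le_nrm hQS) χ (by rw [heq]; exact hχ) (quad_iff.1 hq)
      rw [heq] at h1
      exact h1

end Cfsg.Agent.S5247
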