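import Cfsg.Statements.S5253
import Mathlib
import Cfsg.Agent.H27_Pw3

set_option autoImplicit false
universe u
open Cfsg

namespace Cfsg.Agent.S5253

open H27.Fus H27.Grp

/-- Let p be a prime and W a positive characteristic p-functor with Z(Q) ≤ W(Q): W assigns to every finite p-group Q (in a fixed universe) a subgroup W(Q), nontrivial when Q is, carried to W(R) by every isomorphism Q ≅ R, and containing the centre of Q. Suppose that for every finite group G with Sylow p-subgroup P in which W(P) is not normal there is g ∈ P outside O_p(G) with [Z(O_p(G)), g, g] = 1. Then for every saturated fusion system F over a finite p-group S and every normalizer fusion system N of W(S) in F, every p-th power of an element of Z(S) that lies in the centre of N lies in the centre of F. -/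
theorem result {p : ℕ} [Fact p.Prime] (W : ∀ (Q : Type u) [Group Q], Subgroup Q) (hW1 : ∀ (Q : Type u) [Group Q] [Finite Q], IsPGroup p Q → Nontrivial Q → W Q ≠ ⊥) (hW2 : ∀ (Q R : Type u) [Group Q] [Group R] [Finite Q], IsPGroup p Q → ∀ φ : Q ≃* R, (W Q).map φ.toMonoidHom = W R) (hWZ : ∀ (Q : Type u) [Group Q] [Finite Q], IsPGroup p Q → Subgroup.center Q ≤ W Q) (hq : ∀ (G : Type u) [Group G] [Finite G] (P : Sylow p G), ¬ (((W ↥(P : Subgroup G)).map (P : Subgroup G).subtype : Subgroup G)).Normal → ∃ g : G, g ∈ (P : Subgroup G) ∧ g ∉ Cfsg.pCore p G ∧ ⁅⁅Subgroup.center ↥(Cfsg.pCore p G) |>.map (Cfsg.pCore p G).subtype, Subgroup.zpowers g⁆, Subgroup.zpowers g⁆ = ⊥) {Ω : Type u} [Group Ω] {S : Subgroup Ω} [Finite S] (hS : IsPGroup p S) (F : Cfsg.FusionSystem S) (hF : F.IsSaturated p) (N : Cfsg.FusionSystem (Cfsg.FusionSystem.normalizerIn S ((W ↥S).map S.subtype))) (hN : F.IsNormalizerSystem ((W ↥S).map S.subtype) N) : Subgroup.closure ((fun z => z ^ p) '' ((S ⊓ Subgroup.centralizer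 (S : Set Ω) : Subgroup Ω) : Set Ω)) ⊓ N.center ≤ F.center := by
    have hsub : ∀ P f, Map N P f ↔ Nmap F (Wm W S) P f := fun P f => nsys_map hN
    have hn := Wm_normal hS hW2 F
    have hfn : F.IsFullyNormalized (Wm W S) := by
      refine ⟨Wm_le S, fun R hR => ?_⟩
      haveI : Finite (Cfsg.FusionSystem.normalizerIn S (Wm W S)) := fin_nrm
      exact card_le_of_le (nrm_le.trans hn)
    have hNs := normalizerSystem_saturated hS hF hfn hN
    haveI : Finite (Cfsg.FusionSystem.normalizerIn S ((W ↥S).map S.subtype)) := fin_nrm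
    intro z hz12
    obtain ⟨hz1, hz2⟩ := Subgroup.mem_inf.1 hz12
    -- `z` is a `p`-th power
    obtain ⟨y, hy, hyz⟩ : ∃ y ∈ S ⊓ Subgroup.centralizer (S : Set Ω), z = y ^ p := by
      refine Subgroup.closure_induction (p := fun z _ => ∃ y ∈ S ⊓ Subgroup.centralizer (S : Set Ω), z = y ^ p) ?_ ?_ ?_ ?_ hz1
      · rintro _ ⟨y, hy, rfl⟩
        exact ⟨y, hy, rfl⟩
      · exact ⟨1, one_mem _, (one_pow p).symm⟩
      · rintro _ _ _ _ ⟨a, ha, rfl⟩ ⟨b, hb, rfl⟩
        refine ⟨a * b, mul_mem ha hb, ?_⟩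
        rw [(show Commute a b from Subgroup.mem_centralizer_iff.1 hb.2 a ha.1).mul_pow]
      · rintro _ _ ⟨a, ha, rfl⟩
        exact ⟨a⁻¹, inv_mem ha, by rw [inv_pow]⟩
    have hyc : ∀ s ∈ S, s * y * s⁻¹ = y := fun s hs => by
      rw [Subgroup.mem_centralizer_iff.1 hy.2 s hs, mul_inv_cancel_right]
    rw [mem_center_iff (isPGroup_mono hS nrm_le) hNs] at hz2
    rw [mem_center_iff hS hF]
    obtain ⟨hz, h⟩ := hz2
    refine ⟨nrm_le hz, Cfsg.Agent.H27.Pw3.aux W hW1 hW2 hWZ hq S F hS hF z (nrm_le hz) (fun s hs => ?_) y hy.1 hyc hyz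
      (fun P f hf hzP => h P f ((hsub P f).2 hf) hzP)⟩
    exact h (Cfsg.FusionSystem.normalizerIn S ((W ↥S).map S.subtype)) _ (map_conj N le_rfl (hn hs)) hz

end Cfsg.Agent.S5253
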