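import Cfsg.Statements.S5256
import Cfsg.Agent.H27_FusHypG
import Cfsg.Agent.H27_FusAlp2
import Cfsg.Agent.H27_FusFac2
import Cfsg.Agent.H27_GT2

set_option autoImplicit false
open Cfsg

namespace Cfsg.Agent.S5256

open H27.Fus H27.Grp

theorem hyp_eq' {Ω : Type*} [Group Ω] {S : Subgroup Ω} {F : FusionSystem S} {p : ℕ} [Finite S] :
    F.hyperfocalSubgroup p = Subgroup.closure {y | ∃ (P : Subgroup Ω) (α : MulAut P) (x : P), P ≤ S ∧
      α ∈ F.autGroup P ∧ (orderOf α).Coprime p ∧ y = (x : Ω)⁻¹ * (α x : P)} := by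
  apply le_antisymm
  · rw [hyp_eq, Subgroup.closure_le]
    rintro _ ⟨P, α, x, hP, hα, rfl⟩
    rw [opR_eq] at hα
    have hfP : Finite P := finite_of_le hP
    set X := Subgroup.closure {y | ∃ (P : Subgroup Ω) (α : MulAut P) (x : P), P ≤ S ∧
      α ∈ F.autGroup P ∧ (orderOf α).Coprime p ∧ y = (x : Ω)⁻¹ * (α x : P)} with hX
    have key : ∀ α ∈ Subgroup.closure {a | a ∈ F.autGroup P ∧ (orderOf a).Coprime p}, ∀ x : P, (x : Ω)⁻¹ * (α x : P) ∈ X := by
      intro α hα
      induction hα using Subgroup.closure_induction with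
      | mem a ha =>
        intro x
        exact Subgroup.subset_closure ⟨P, a, x, hP, ha.1, ha.2, rfl⟩
      | one => intro x; simp [X.one_mem]
      | mul a b _ _ iha ihb =>
        intro x
        rw [MulAut.mul_apply]
        have e : (x : Ω)⁻¹ * (a (b x) : P) = ((x : Ω)⁻¹ * (b x : P)) * (((b x : P) : Ω)⁻¹ * (a (b x) : P)) := by group
        rw [e]; exact X.mul_mem (ihb x) (iha _)
      | inv a _ iha =>
        intro x
        have h1 := iha (a⁻¹ x)
        rw [MulAut.apply_inv_self] at h1
        have h2 := X.inv_mem h1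
        rw [mul_inv_rev, inv_inv] at h2
        exact h2
    exact key α hα x
  · rw [Subgroup.closure_le]
    rintro _ ⟨P, α, x, hP, hα, hc, rfl⟩
    exact mem_hyp hP (mem_opR_of hα hc) x

/-- Let F be a saturated fusion system over a finite p-group S, T a subgroup of S strongly closed in F, and E a factor system F/T realised along a homomorphism θ of S with kernel T. Then the hyperfocal subgroup of E is the image under θ of the hyperfocal subgroup of F (hyp(F/T) = T·hyp(F)/T). -/
theorem result {Ω : Type*} [Group Ω] {S : Subgroup Ω} [Finite S] (p : ℕ) [Fact p.Prime] (hS : IsPGroup p S) (F : Cfsg.FusionSystem S) (hF : F.IsSaturated p) (T : Subgroup Ω) (hT : F.StronglyClosed T) {Ω' : Type*} [Group Ω'] {S' : Subgroup Ω'} (θ : ↥S →* Ω') (E : Cfsg.FusionSystem S') (hE : F.IsFactorSystem T θ E) : E.hyperfocalSubgroup p = ((F.hyperfocalSubgroup p).subgroupOf S).map θ := by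
  obtain ⟨hd, hm⟩ := isFactorSystem_iff.1 hE
  have hfS' := finite_S' hd
  have hTS : T ≤ S := hT.1
  apply le_antisymm
  · rw [hyp_eq', Subgroup.closure_le]
    rintro _ ⟨P', β, y, hP', hβ, hc, rfl⟩
    have h1 := map_quoHom_autGroup hE hd hT hP'
    rw [← h1] at hβ
    obtain ⟨α, hα, rfl⟩ := hβ
    have hfP : Finite (FusionSystem.preimageAlong θ P') := finite_of_le (preimageAlong_le θ P')
    obtain ⟨k, hk1, hk2⟩ := exists_pow_lift (p := p) (quoHom hd hP') α hc
    obtain ⟨x, rfl⟩ := exists_pre hd hP' y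
    have h2 : ((α ^ k : StA (FusionSystem.preimageAlong θ P') T) : MulAut (FusionSystem.preimageAlong θ P')) ∈ F.autGroup (FusionSystem.preimageAlong θ P') := by
      rw [SubgroupClass.coe_pow]; exact Subgroup.pow_mem _ hα k
    have h3 : (orderOf ((α ^ k : StA (FusionSystem.preimageAlong θ P') T) : MulAut (FusionSystem.preimageAlong θ P'))).Coprime p := by
      rwa [Subgroup.orderOf_coe]
    have h4 := mem_hyp (p := p) (preimageAlong_le θ P') (mem_opR_of h2 h3) x
    refine (mem_im_sub hyp_le).2 ⟨_, h4, ?_⟩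
    rw [← hk1, quoHom_apply, coe_pr, coe_pr]
    have hxS := preimageAlong_le θ P' x.2
    rw [tt_mul θ (S.inv_mem hxS) (preimageAlong_le θ P' (Subtype.coe_prop _)), tt_inv θ hxS]
  · rintro _ ⟨⟨z, hzS⟩, hz, rfl⟩
    have hz' : z ∈ F.hyperfocalSubgroup p := hz
    rw [← tt_of_mem θ hzS]
    have key : ∀ z ∈ F.hyperfocalSubgroup p, z ∈ S ∧ tt θ z ∈ E.hyperfocalSubgroup p := by
      intro z hz
      rw [hyp_eq'] at hz
      induction hz using Subgroup.closure_induction with
      | mem w hw =>
        obtain ⟨P, α, x, hP, hα, hc, rfl⟩ := hw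
        have hxS := hP x.2
        have hαxS := hP (α x).2
        refine ⟨S.mul_mem (S.inv_mem hxS) hαxS, ?_⟩
        have hi := (mem_autGroup_iff hP).1 hα
        obtain ⟨g, hg, hgα⟩ := ext_mod hS hF hT P _ hi.map
        -- `g` stabilises `P ⊔ T`
        have hgT : im T g = T := StronglyClosed.im_eq hT hg le_sup_right
        have hgP : ∀ x ∈ P, g x ∈ P ⊔ T := by
          intro x hx
          have h1 := hgα x hx
          have h2 : g x = totA α x * ((g x)⁻¹ * totA α x)⁻¹ := by group
          rw [h2]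
          exact Subgroup.mul_mem _ (Subgroup.mem_sup_left (hi.maps x hx)) (Subgroup.inv_mem _ (Subgroup.mem_sup_right h1))
        have hfPT : Finite (P ⊔ T : Subgroup Ω) := finite_of_le (sup_le hP hTS)
        have hgi : Iso F (P ⊔ T) (P ⊔ T) g := by
          refine iso_of_card_le hg ?_ le_rfl
          refine hg.maps_sup hgP fun x hx => ?_
          rw [← hgT] 
          exact Subgroup.mem_sup_right (hgT.symm ▸ (hg.mono le_sup_right).apply_mem_im hx)
        have hpre := pre_image hd hP
        have hP' := imageAlong_le hd hP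
        obtain ⟨g', hg', hind⟩ := iso_desc hE hT hP' hP' (f := g) (by rw [hpre]; exact hgi)
        rw [hpre] at hind
        -- `g' (θ x) = θ (α x)`
        have h1 : ∀ x : P, g' (tt θ x) = tt θ (α x : P) := by
          intro x
          rw [hind x (Subgroup.mem_sup_left x.2)]
          have h2 := hgα x x.2
          rw [totA_apply] at h2
          have h3 := (hd.eq_iff (hP (α x).2) (hg.mem (Subgroup.mem_sup_left x.2))).2 h2
          exact h3.symm
        have h2 : ∀ n : ℕ, ∀ x : P, (((hg'.aut ^ n) ⟨tt θ x, (mem_imageAlong θ hP).2 ⟨x, x.2, rfl⟩⟩ : _) : Ω') = tt θ ((α ^ n) x : P) := by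
          intro n
          induction n with
          | zero => intro x; rfl
          | succ n ihn =>
            intro x
            rw [pow_succ', pow_succ', MulAut.mul_apply, MulAut.mul_apply, Iso.aut_apply, ihn x, h1]
        have h3 : (orderOf hg'.aut).Coprime p := by
          apply Nat.Coprime.coprime_dvd_left _ hc
          apply orderOf_dvd_of_pow_eq_one
          ext ⟨y, hy⟩
          obtain ⟨x, hx, rfl⟩ := (mem_imageAlong θ hP).1 hy
          rw [h2 (orderOf α) ⟨x, hx⟩, pow_orderOf_eq_one]; rfl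
        have h4 := mem_hyp (p := p) hP' (mem_opR_of hg'.aut_mem h3) ⟨tt θ x, (mem_imageAlong θ hP).2 ⟨x, x.2, rfl⟩⟩
        rw [Iso.aut_apply, h1] at h4
        rw [tt_mul θ (S.inv_mem hxS) hαxS, tt_inv θ hxS]
        exact h4
      | one => exact ⟨S.one_mem, by rw [tt_one]; exact Subgroup.one_mem _⟩
      | mul a b _ _ iha ihb =>
        refine ⟨S.mul_mem iha.1 ihb.1, ?_⟩
        rw [tt_mul θ iha.1 ihb.1]; exact Subgroup.mul_mem _ iha.2 ihb.2
      | inv a _ iha =>
        refine ⟨S.inv_mem iha.1, ?_⟩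
        rw [tt_inv θ iha.1]; exact Subgroup.inv_mem _ iha.2
    exact (key z hz').2

end Cfsg.Agent.S5256
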