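import Cfsg.Statements.S5265
import Cfsg.Agent.H1_FusZ4

set_option autoImplicit false
open Cfsg

namespace Cfsg.Agent.S5265

/-- Let p be a prime, S a nontrivial finite p-group whose centre has index at most p², and F a saturated fusion system over S with no nontrivial normal subgroup and with hyperfocal subgroup equal to S. Then S is extraspecial of order p³; for odd p it has exponent p, and for p = 2 it is dihedral of order 8. -/
theorem result {Ω : Type*} [Group Ω] {S : Subgroup Ω} [Finite S] (p : ℕ) [Fact p.Prime] (hS : IsPGroup p ↥S) (F : Cfsg.FusionSystem S) (hF : F.IsSaturated p) (hS1 : S ≠ ⊥) (hcore : F.core = ⊥) (hhyp : F.hyperfocalSubgroup p = S) (hZ : (Subgroup.center ↥S).index ≤ p ^ 2) : Cfsg.IsExtraspecial p ↥S ∧ Nat.card S = p ^ 3 ∧ (p ≠ 2 → Monoid.exponent ↥S = p) ∧ (p = 2 → Nonempty (↥S ≃* DihedralGroup 4)) := by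
  have hnab : ∃ x y : S, x * y ≠ y * x := by
    by_contra h
    push Not at h
    have h1 : F.IsNormal S := by
      refine Cfsg.Agent.H27.Fus.abelian_normal hS hF ?_ ⟨⟨h⟩⟩
      rw [Cfsg.Agent.H27.Fus.stronglyClosed_iff]
      exact ⟨le_rfl, fun P f hf x hx _ => hf.mem hx⟩
    have h2 := Cfsg.Agent.H27.Fus.le_core h1
    rw [hcore] at h2
    exact hS1 (le_bot_iff.1 h2)
  have hi := Cfsg.Agent.H1.FusZ.index_eq hS hZ hnab
  have hfoc : F.focalSubgroup = S :=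
    le_antisymm Cfsg.Agent.H27.Fus.foc_le (by
      have := Cfsg.Agent.H27.Fus.hyp_le_foc (F := F) (p := p)
      rwa [hhyp] at this)
  obtain ⟨⟨a, ha⟩, ⟨b, hb⟩, hab⟩ := hnab
  have hab' : a * b ≠ b * a := fun h => hab (Subtype.ext h)
  by_cases hp2 : p = 2
  · subst hp2
    obtain ⟨hc, u, hu, v, hv, hu2, hv2, huv⟩ :=
      Cfsg.Agent.H1.FusZ.two_case hS hi hF hcore hfoc hS1 ha hb hab'
    have hext := Cfsg.Agent.H1.FusZ.extraspecial_of_cube (p := 2) hc ⟨_, _, hab⟩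
    refine ⟨hext, hc, fun h => absurd rfl h, fun _ => ?_⟩
    have hu2' : (⟨u, hu⟩ : S) * ⟨u, hu⟩ = 1 := Subtype.ext (by rw [← sq]; exact hu2)
    have hv2' : (⟨v, hv⟩ : S) * ⟨v, hv⟩ = 1 := Subtype.ext (by rw [← sq]; exact hv2)
    have hui : (⟨u, hu⟩ : S)⁻¹ = ⟨u, hu⟩ := inv_eq_of_mul_eq_one_left hu2'
    have hvi : (⟨v, hv⟩ : S)⁻¹ = ⟨v, hv⟩ := inv_eq_of_mul_eq_one_left hv2'
    have huv' : (⟨u, hu⟩ : S) * ⟨v, hv⟩ ≠ ⟨v, hv⟩ * ⟨u, hu⟩ := fun h => huv (congrArg Subtype.val h)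
    have hn2 : ((⟨u, hu⟩ : S) * ⟨v, hv⟩) ^ 2 ≠ 1 := by
      intro h
      apply huv'
      have h1 : ((⟨u, hu⟩ : S) * ⟨v, hv⟩)⁻¹ = ⟨u, hu⟩ * ⟨v, hv⟩ := inv_eq_of_mul_eq_one_left (by rw [← sq]; exact h)
      rw [mul_inv_rev, hui, hvi] at h1
      exact h1.symm
    have h4 : ((⟨u, hu⟩ : S) * ⟨v, hv⟩) ^ 4 = 1 := by
      have h1 := Cfsg.Agent.H1.FusZ.pow_mem hS hi ⟨_, _, hab⟩ ((⟨u, hu⟩ : S) * ⟨v, hv⟩)
      have h2 : Nat.card (Subgroup.center S) = 2 := hext.2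
      have h3 := pow_card_eq_one' (x := (⟨_, h1⟩ : Subgroup.center S))
      rw [h2] at h3
      have h5 := congrArg Subtype.val h3
      have h6 : (((⟨u, hu⟩ : S) * ⟨v, hv⟩) ^ 2) ^ 2 = 1 := h5
      rw [← pow_mul] at h6
      exact h6
    have hord : orderOf ((⟨u, hu⟩ : S) * ⟨v, hv⟩) = 4 := by
      have := orderOf_eq_prime_pow (p := 2) (n := 1) (x := (⟨u, hu⟩ : S) * ⟨v, hv⟩) (by simpa using hn2) (by simpa using h4)
      simpa using this
    refine Cfsg.Agent.H5.Dih.nonempty_dihedral (n := 4) (by norm_num) ((⟨u, hu⟩ : S) * ⟨v, hv⟩) ⟨u, hu⟩ hord hu2' ?_ ?_ ?_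
    · rw [mul_inv_rev, hui, hvi, ← mul_assoc, hu2', one_mul]
    · intro hmem
      obtain ⟨k, hk⟩ := Subgroup.mem_zpowers_iff.1 hmem
      have h1 : Commute (((⟨u, hu⟩ : S) * ⟨v, hv⟩) ^ k) ((⟨u, hu⟩ : S) * ⟨v, hv⟩) := (Commute.refl _).zpow_left k
      rw [hk] at h1
      apply huv'
      have h2 : (⟨u, hu⟩ : S) * (⟨u, hu⟩ * ⟨v, hv⟩) = ⟨u, hu⟩ * ⟨v, hv⟩ * ⟨u, hu⟩ := h1
      rw [mul_assoc] at h2
      exact mul_left_cancel h2
    · rw [hc]; norm_num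
  · obtain ⟨hc, hexp⟩ := Cfsg.Agent.H1.FusZ.odd_case hS hi hF hp2 hcore hS1 ha hb hab'
    refine ⟨Cfsg.Agent.H1.FusZ.extraspecial_of_cube hc ⟨_, _, hab⟩, hc, fun _ => ?_, fun h => absurd h hp2⟩
    have h1 : Monoid.exponent S ∣ p := Monoid.exponent_dvd_of_forall_pow_eq_one fun x => Subtype.ext (hexp x x.2)
    rcases (Nat.dvd_prime Fact.out).1 h1 with h | h
    · exfalso
      apply hab
      rw [Monoid.exp_eq_one_iff] at h
      exact Subsingleton.elim _ _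
    · exact h

end Cfsg.Agent.S5265
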