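import Cfsg.Statements.S5270
import Cfsg.Agent.H27_MC1

set_option autoImplicit false
open Cfsg Cfsg.FusionSystem Cfsg.Agent.H27.Fus Cfsg.Agent.H27.Grp

namespace Cfsg.Agent.S5270

theorem aux {Ω : Type*} [Group Ω] {S : Subgroup Ω} [Finite S] (p : ℕ) [Fact p.Prime] (hS : IsPGroup p ↥S) (n : ℕ) (hn : Nat.card S = p ^ n) (h4 : 4 ≤ n) (hmax : Subgroup.lowerCentralSeries S (n - 2) ≠ ⊥) (F : Cfsg.FusionSystem S) (hF : F.IsSaturated p)
    (V Z : Subgroup Ω) (hV : V = (Subgroup.upperCentralSeries ↥S 2).map S.subtype) (hZ : Z = (Subgroup.center ↥S).map S.subtype)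
    (φ : V →* Ω) (hφ : φ ∈ F.Hom V) (hφZ : φ.range = V) (hmove : ∃ (z : Ω) (hz : z ∈ V), z ∈ Z ∧ φ ⟨z, hz⟩ ∉ Z) :
    F.IsEssential p (centralizerIn S V) := by
  have hmax' : (⊤ : Subgroup S).lowerCentralSeries (n - 2) ≠ ⊥ := by
    intro h
    apply hmax
    rw [← Subgroup.top_subtype_lowerCentralSeries, h, Subgroup.map_bot]
  obtain ⟨h1, v, hv, hvZ, hgen⟩ := mc_grp hn h4 hmax'
  have hVS : V ≤ S := hV ▸ Subgroup.map_subtype_le _
  have hZm : ∀ x, x ∈ Z ↔ x ∈ S ∧ ∀ s ∈ S, s * x = x * s := by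
    intro x
    rw [hZ]
    constructor
    · rintro ⟨y, hy, rfl⟩
      exact ⟨y.2, fun s hs => congrArg Subtype.val ((Subgroup.mem_center_iff.1 hy) ⟨s, hs⟩)⟩
    · rintro ⟨hx, h⟩
      exact ⟨⟨x, hx⟩, Subgroup.mem_center_iff.2 fun s => Subtype.ext (h s s.2), rfl⟩
  have hZc : Nat.card Z = p := by
    rw [hZ, Subgroup.card_map_of_injective S.subtype_injective, h1]
  have hc2 : ∀ x ∈ Subgroup.upperCentralSeries ↥S 2, ∀ s : S, s * x * s⁻¹ * x⁻¹ ∈ Subgroup.center S := by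
    intro x hx s
    rw [show (2 : ℕ) = 1 + 1 from rfl, Subgroup.mem_upperCentralSeries_succ_iff, Subgroup.upperCentralSeries_one] at hx
    have h2 := Subgroup.inv_mem _ (hx s)
    rw [commutatorElement_def] at h2
    have h3 : (x * s * x⁻¹ * s⁻¹)⁻¹ = s * x * s⁻¹ * x⁻¹ := by group
    rwa [h3] at h2
  have hZV : Z ≤ V := by
    rw [hZ, hV]
    rintro _ ⟨y, hy, rfl⟩
    refine ⟨y, ?_, rfl⟩
    have h2 := Subgroup.upperCentralSeries_mono (G := S) (show 1 ≤ 2 by norm_num)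
    rw [Subgroup.upperCentralSeries_one] at h2
    exact h2 hy
  have hcomm : ∀ x ∈ V, ∀ s ∈ S, s * x * s⁻¹ * x⁻¹ ∈ Z := by
    rw [hZ, hV]
    rintro _ ⟨y, hy, rfl⟩ s hs
    exact ⟨_, hc2 y hy ⟨s, hs⟩, rfl⟩
  have hgen' : ∀ x ∈ V, ∃ k : ℤ, ((v : Ω) ^ k)⁻¹ * x ∈ Z := by
    rw [hZ, hV]
    rintro _ ⟨y, hy, rfl⟩
    obtain ⟨k, hk⟩ := hgen y hy
    exact ⟨k, _, hk, rfl⟩
  have hvZ' : (v : Ω) ∉ Z := by
    rw [hZ]
    rintro ⟨y, hy, hyv⟩
    have h2 : y = v := Subtype.ext hyv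
    exact hvZ (h2 ▸ hy)
  obtain ⟨z, hz, hzZ, hfz⟩ := hmove
  have hf : Iso F V V (tot φ) := (map_tot hφ).iso_of_im_eq
    (((map_tot hφ).range_eq (φ := φ) fun x => (tot_apply φ x).symm).symm.trans hφZ)
  exact cen_Z2_essential hS hF hVS hZV hZm hZc hcomm (v := v) (hV ▸ ⟨v, hv, rfl⟩) hvZ' hgen' hf hzZ
    (by rw [tot_of_mem φ hz]; exact hfz)


/-- Let p ≥ 5 be a prime, S a finite p-group of maximal class of order p^n with n ≥ 4, and F a saturated fusion system over S. If some map of F defined on the second centre Z₂(S) with image Z₂(S) does not carry Z(S) into itself, then the centralizer C_S(Z₂(S)) is an F-essential subgroup. -/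
theorem result {Ω : Type*} [Group Ω] {S : Subgroup Ω} [Finite S] (p : ℕ) [Fact p.Prime] (hS : IsPGroup p ↥S) (n : ℕ) (hn : Nat.card S = p ^ n) (h4 : 4 ≤ n) (hmax : Subgroup.lowerCentralSeries S (n - 2) ≠ ⊥) (F : Cfsg.FusionSystem S) (hF : F.IsSaturated p) (hp : 5 ≤ p) (φ : ↥((Subgroup.upperCentralSeries ↥S 2).map S.subtype) →* Ω) (hφ : φ ∈ F.Hom ((Subgroup.upperCentralSeries ↥S 2).map S.subtype)) (hφZ : φ.range = ((Subgroup.upperCentralSeries ↥S 2).map S.subtype)) (hmove : ∃ (z : Ω) (hz : z ∈ ((Subgroup.upperCentralSeries ↥S 2).map S.subtype)), z ∈ ((Subgroup.center ↥S).map S.subtype) ∧ φ ⟨z, hz⟩ ∉ ((Subgroup.center ↥S).map S.subtype)) : F.IsEssential p (S ⊓ Subgroup.centralizer (((Subgroup.upperCentralSeries ↥S 2).map S.subtype) : Set Ω)) := by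
  exact aux p hS n hn h4 hmax F hF _ _ rfl rfl φ hφ hφZ hmove

end Cfsg.Agent.S5270
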