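import Cfsg.Statements.S5272
import Mathlib
import Cfsg.Agent.H27_Ax2

set_option autoImplicit false
open Cfsg

namespace Cfsg.Agent.S5272

open H27.Fus H27.Grp Cfsg.FusionSystem
open scoped commutatorElement

/-- An axiomatic Glauberman–Thompson nilpotency criterion for fusion systems. Let p be an odd prime, F a saturated fusion system over a finite p-group S, and 𝒜 a nonempty family of abelian subgroups of S. For Q ≤ S write I(Q) for the intersection of the members of 𝒜 contained in Q. Assume (invariance) that for every Q ≤ S containing a member of 𝒜, every F-automorphism of Q maps I(Q) into itself, and (replacement) that for every subgroup B of S of nilpotency class at most 2, if some member of 𝒜 contains [B,B] but not B, then B normalizes some member of 𝒜 that contains [B,B] but not B. Then F is the inner fusion system of S if and only if the normalizer fusion system of I(S) in F is the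 inner fusion system of N_S(I(S)). -/
theorem result {Ω : Type*} [Group Ω] {S : Subgroup Ω} [Finite S] (p : ℕ) [Fact p.Prime] (hS : IsPGroup p ↥S) (F : Cfsg.FusionSystem S) (hF : F.IsSaturated p) (hp : p ≠ 2) (𝒜 : Set (Subgroup Ω)) (h𝒜 : ∀ A ∈ 𝒜, A ≤ S ∧ IsMulCommutative ↥A) (hne : 𝒜.Nonempty) (hinv : ∀ Q : Subgroup Ω, Q ≤ S → (∃ A ∈ 𝒜, A ≤ Q) → ∀ α ∈ F.autGroup Q, ∀ x : ↥Q, (x : Ω) ∈ (⨅ A ∈ {A : Subgroup Ω | A ∈ 𝒜 ∧ A ≤ Q}, A) → (((α : MulAut ↥Q) x : ↥Q) : Ω) ∈ (⨅ A ∈ {A : Subgroup Ω | A ∈ 𝒜 ∧ A ≤ Q}, A)) (hrep : ∀ B : Subgroup Ω, B ≤ S → ⁅⁅B, B⁆, B⁆ = ⊥ → (∃ A ∈ 𝒜, ⁅B, B⁆ ≤ A ∧ ¬ B ≤ A) → ∃ A ∈ 𝒜, ⁅B, B⁆ ≤ A ∧ ¬ B ≤ A ∧ B ≤ Subgroup.normalizer (A : Set Ω)) : (∀ P : Subgroup Ω, F.Hom P = (Cfsg.innerFusionSystem S).Hom P) ↔ ∀ N : Cfsg.FusionSystem (Cfsg.FusionSystem.normalizerIn S (⨅ A ∈ 𝒜, A)), F.IsNormalizerSystem (⨅ A ∈ 𝒜, A) N → ∀ P : Subgroup Ω, N.Hom P = (Cfsg.innerFusionSystem (Cfsg.FusionSystem.normalizerIn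 S (⨅ A ∈ 𝒜, A))).Hom P := by
    have h𝒜' : ∀ A ∈ 𝒜, A ≤ S ∧ ∀ x ∈ A, ∀ y ∈ A, x * y = y * x := fun A hA =>
      ⟨(h𝒜 A hA).1, fun x hx y hy => congrArg Subtype.val ((h𝒜 A hA).2.is_comm.comm ⟨x, hx⟩ ⟨y, hy⟩)⟩
    have hI : (⨅ A ∈ 𝒜, A) = sInf 𝒜 := sInf_eq_iInf.symm
    have hinv' : ∀ Q : Subgroup Ω, (∃ A ∈ 𝒜, A ≤ Q) → ∀ f, Iso F Q Q f →
        ∀ x ∈ Q, (∀ A ∈ 𝒜, A ≤ Q → x ∈ A) → ∀ A ∈ 𝒜, A ≤ Q → f x ∈ A := by
      intro Q hQ f hf x hx hxA A hA hAQ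
      have h1 := hinv Q hf.le hQ hf.aut hf.aut_mem ⟨x, hx⟩ (by
        rw [Subgroup.mem_iInf]
        intro B
        rw [Subgroup.mem_iInf]
        exact fun hB => hxA B hB.1 hB.2)
      rw [Subgroup.mem_iInf] at h1
      have h2 := h1 A
      rw [Subgroup.mem_iInf] at h2
      exact h2 ⟨hA, hAQ⟩
    obtain ⟨A₀, hA₀⟩ := id hne
    have hIS : sInf 𝒜 ≤ S := (sInf_le hA₀).trans (h𝒜 A₀ hA₀).1
    have hSn : S ≤ normalizerIn S (sInf 𝒜) := by
      intro s hs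
      have hi : Iso F S S (fun x => s * x * s⁻¹) := by
        refine (map_conj F le_rfl hs).iso_of_im_eq ?_
        exact StronglyClosed.im_eq (strongly_top F) (map_conj F le_rfl hs) le_rfl
      refine mem_nrm_of_forall hIS hs fun x hx => ?_
      rw [Subgroup.mem_sInf]
      intro A hA
      exact hinv' S ⟨A₀, hA₀, (h𝒜 A₀ hA₀).1⟩ _ hi x (hIS hx) (fun B hB _ => Subgroup.mem_sInf.1 hx B hB) A hA (h𝒜 A hA).1
    rw [hI]
    haveI : Finite (normalizerIn S (sInf 𝒜)) := fin_nrm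
    constructor
    · intro h N hN P
      refine hom_eq_of_map fun f => ⟨fun hf => ?_, fun hf => ?_⟩
      · obtain ⟨h1, s, hs, h2⟩ := map_inner_iff.1 (map_of_le (h P).le (nsys_sub hN hf))
        exact map_inner_iff.2 ⟨hf.le, s, hSn hs, h2⟩
      · obtain ⟨h5, s, hs, h6⟩ := map_inner_iff.1 hf
        exact (map_conj N h5 hs).congr fun x hx => (h6 x hx).symm
    · intro h P
      have key := ax_inner hp hS hF 𝒜 h𝒜' hne hinv' hrep (fun P f hf => ?_)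
      · refine hom_eq_of_map fun f => ⟨key P f, fun hf => ?_⟩
        obtain ⟨h5, s, hs, h6⟩ := map_inner_iff.1 hf
        exact (map_conj F h5 hs).congr fun x hx => (h6 x hx).symm
      · obtain ⟨N, hN⟩ := exists_normalizerSystem F (sInf 𝒜) hIS
        have h1 : Map N P f := (nsys_map hN).2 hf
        obtain ⟨h5, s, hs, h6⟩ := map_inner_iff.1 (map_of_le (h N hN P).le h1)
        exact map_inner_iff.2 ⟨h5.trans nrm_le, s, nrm_le hs, h6⟩

end Cfsg.Agent.S5272
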