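import Cfsg.Statements.S5296
import Cfsg.Agent.H1_CritH

set_option autoImplicit false
universe u
open Cfsg

namespace Cfsg.Agent.S5296

open H27.Fus H27.Grp H1.CritF H1.CritQ

/-- Small-exponent abelian subgroups of the hyperfocal subgroup control fusion. Let E and F be saturated fusion systems over the same finite p-group S with E contained in F. Suppose that E and F have the same maps between A and B for all subgroups A, B of the hyperfocal subgroup of F that are elementary abelian when p is odd, respectively abelian of exponent dividing 4 when p = 2. Then E = F. -/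
theorem result {Ω : Type u} [Group Ω] {S : Subgroup Ω} [Finite S] (p : ℕ) [Fact p.Prime] (hS : IsPGroup p S)
    (E F : Cfsg.FusionSystem S) (hE : E.IsSaturated p) (hF : F.IsSaturated p) (hEF : E.IsSubsystemOf F)
    (hodd : p ≠ 2 → ∀ A B : Subgroup Ω, A ≤ (F.hyperfocalSubgroup p) → B ≤ (F.hyperfocalSubgroup p) →
      Cfsg.IsElementaryAbelian p A → Cfsg.IsElementaryAbelian p B → E.homSet A B = F.homSet A B)
    (htwo : p = 2 → ∀ A B : Subgroup Ω, A ≤ (F.hyperfocalSubgroup p) → B ≤ (F.hyperfocalSubgroup p) →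
      IsMulCommutative ↥A → IsMulCommutative ↥B → (∀ a ∈ A, a ^ 4 = 1) → (∀ b ∈ B, b ^ 4 = 1) → E.homSet A B = F.homSet A B) :
    ∀ P : Subgroup Ω, E.Hom P = F.Hom P := by
  have hEFm : ∀ P f, Map E P f → Map F P f := fun P f hf => map_of_le (hEF P) hf
  have hTs := hyp_strong hS hF
  have key : ∀ P f, Map F P f → Map E P f := by
    refine small_agree hS hE hF hEFm hTs copT_hyp ?_
    intro A hA hAc hAq f hf
    have hf' := hf
    obtain ⟨φ, hφ, hφf⟩ := hf
    have hi := hf'.iso
    have hB : im A f ≤ F.hyperfocalSubgroup p := by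
      intro y hy
      obtain ⟨x, hx, rfl⟩ := hi.surj y hy
      exact (stronglyClosed_iff.1 hTs).2 A f hf' x hx (hA hx)
    have hBc : ∀ a ∈ im A f, ∀ b ∈ im A f, a * b = b * a := by
      intro a ha b hb
      obtain ⟨x, hx, rfl⟩ := hi.surj a ha
      obtain ⟨y, hy, rfl⟩ := hi.surj b hb
      rw [← hf'.mul hx hy, ← hf'.mul hy hx, hAc x hx y hy]
    have hBq : ∀ a ∈ im A f, a ^ qq p = 1 := by
      intro a ha
      obtain ⟨x, hx, rfl⟩ := hi.surj a ha
      rw [← hf'.pow hx, hAq x hx, hf'.one]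
    have hmem : φ ∈ F.homSet A (im A f) := ⟨hφ, fun x => by rw [hφf]; exact hf'.apply_mem_im x.2⟩
    have hmc : ∀ X : Subgroup Ω, (∀ a ∈ X, ∀ b ∈ X, a * b = b * a) → IsMulCommutative X := fun X h =>
      ⟨⟨fun a b => Subtype.ext (h a a.2 b b.2)⟩⟩
    have h1 : φ ∈ E.homSet A (im A f) := by
      by_cases hp : p = 2
      · subst hp
        rw [qq_two] at hAq hBq
        rw [htwo rfl A (im A f) hA hB (hmc _ hAc) (hmc _ hBc) hAq hBq]
        exact hmem
      · rw [qq_ne hp] at hAq hBq
        rw [hodd hp A (im A f) hA hB ⟨hmc _ hAc, hAq⟩ ⟨hmc _ hBc, hBq⟩]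
        exact hmem
    exact ⟨φ, h1.1, hφf⟩
  intro P
  exact hom_eq_of_map fun f => ⟨hEFm P f, key P f⟩

end Cfsg.Agent.S5296
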