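import Cfsg.Statements.S5297
import Cfsg.Agent.H1_CritG

set_option autoImplicit false
universe u
open Cfsg

namespace Cfsg.Agent.S5297

open H27.Fus H27.Grp H1.CritF H1.CritQ

/-- Let F be a saturated fusion system over a finite p-group S. If every map of F between cyclic subgroups of the hyperfocal subgroup of F of order p or 4 is a map of the normalizer system of S (it extends to a map of F defined on all of S), then S is normal in F. -/
theorem result {Ω : Type u} [Group Ω] {S : Subgroup Ω} [Finite S] (p : ℕ) [Fact p.Prime] (hS : IsPGroup p S)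
    (F : Cfsg.FusionSystem S) (hF : F.IsSaturated p)
    (h : ∀ A B : Subgroup Ω, A ≤ (F.hyperfocalSubgroup p) → B ≤ (F.hyperfocalSubgroup p) → IsCyclic ↥A → (Nat.card ↥A = p ∨ Nat.card ↥A = 4) → IsCyclic ↥B → (Nat.card ↥B = p ∨ Nat.card ↥B = 4) →
      F.homSet A B ⊆ F.normalizerHom S A) :
    F.IsNormal S := by
  apply normal_top_of hS hF
  refine no_ess hS hF (hyp_strong hS hF) copT_hyp ?_
  intro P f hf x hx hxT hxq
  by_cases hx1 : x = 1
  · subst hx1
    exact ⟨id, iso_refl F le_rfl, by rw [hf.one]; rfl⟩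
  have hle : Subgroup.zpowers x ≤ P := by rw [Subgroup.zpowers_le]; exact hx
  have hfx := hf.mono hle
  obtain ⟨φ, hφ, hφf⟩ := hfx
  have hyx : f x ∈ F.hyperfocalSubgroup p := (stronglyClosed_iff.1 (hyp_strong hS hF)).2 P f hf x hx hxT
  have hfx1 : f x ≠ 1 := fun h => hx1 (hf.eq_one hx h)
  have h1 : φ ∈ F.homSet (Subgroup.zpowers x) (Subgroup.zpowers (f x)) := by
    refine ⟨hφ, ?_⟩
    rintro ⟨y, k, rfl⟩
    have h2 := hφf ⟨x ^ k, ⟨k, rfl⟩⟩
    refine ⟨k, ?_⟩
    show (f x) ^ k = _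
    refine Eq.trans ?_ h2.symm
    exact (hf.zpow hx k).symm
  obtain ⟨-, -, -, ψ, hψ, hψφ, -⟩ := h (Subgroup.zpowers x) (Subgroup.zpowers (f x)) (by rw [Subgroup.zpowers_le]; exact hxT)
    (by rw [Subgroup.zpowers_le]; exact hyx) inferInstance (card_zpowers_qq hxq hx1) inferInstance
    (card_zpowers_qq (by rw [← hf.pow hx, hxq, hf.one]) hfx1) h1
  have hm := (map_tot hψ).mono (le_sup_right : S ≤ Subgroup.zpowers x ⊔ S)
  refine ⟨_, iso_of_card_le hm (fun y hy => hm.mem hy) le_rfl, ?_⟩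
  have hxs : x ∈ Subgroup.zpowers x ⊔ S := Subgroup.mem_sup_left (Subgroup.mem_zpowers x)
  rw [tot_of_mem ψ hxs]
  have h4 := hψφ ⟨x, Subgroup.mem_zpowers x⟩
  exact h4.trans (hφf ⟨x, Subgroup.mem_zpowers x⟩)

end Cfsg.Agent.S5297
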