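import Cfsg.Statements.S5298
import Cfsg.Agent.H1_CritG

set_option autoImplicit false
universe u
open Cfsg

namespace Cfsg.Agent.S5298

open H27.Fus H27.Grp H1.CritF H1.CritQ

/-- Let F be a saturated fusion system over a finite p-group S. If every map of F between cyclic subgroups of the hyperfocal subgroup of F of order p or 4 is conjugation by an element of S, then F is the inner fusion system of S. -/
theorem result {Ω : Type u} [Group Ω] {S : Subgroup Ω} [Finite S] (p : ℕ) [Fact p.Prime] (hS : IsPGroup p S)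
    (F : Cfsg.FusionSystem S) (hF : F.IsSaturated p)
    (h : ∀ A B : Subgroup Ω, A ≤ (F.hyperfocalSubgroup p) → B ≤ (F.hyperfocalSubgroup p) → IsCyclic ↥A → (Nat.card ↥A = p ∨ Nat.card ↥A = 4) → IsCyclic ↥B → (Nat.card ↥B = p ∨ Nat.card ↥B = 4) →
      F.homSet A B ⊆ (Cfsg.innerFusionSystem S).Hom A) :
    ∀ P : Subgroup Ω, F.Hom P = (Cfsg.innerFusionSystem S).Hom P := by
  have key : F = Cfsg.innerFusionSystem S := by
    refine inner_of hS hF (hyp_strong hS hF) copT_hyp ?_
    intro P f hf x hx hxT hxq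
    by_cases hx1 : x = 1
    · subst hx1
      exact ⟨1, S.one_mem, by rw [hf.one]; group⟩
    have hle : Subgroup.zpowers x ≤ P := by rw [Subgroup.zpowers_le]; exact hx
    have hfx := hf.mono hle
    obtain ⟨φ, hφ, hφf⟩ := hfx
    have hyx : f x ∈ F.hyperfocalSubgroup p := (stronglyClosed_iff.1 (hyp_strong hS hF)).2 P f hf x hx hxT
    have hfx1 : f x ≠ 1 := fun h => hx1 (hf.eq_one hx h)
    have h1 : φ ∈ F.homSet (Subgroup.zpowers x) (Subgroup.zpowers (f x)) := by
      refine ⟨hφ, ?_⟩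
      rintro ⟨y, k, rfl⟩
      have h2 := hφf ⟨x ^ k, ⟨k, rfl⟩⟩
      refine ⟨k, ?_⟩
      show (f x) ^ k = _
      refine Eq.trans ?_ h2.symm
      exact (hf.zpow hx k).symm
    have h2 := h (Subgroup.zpowers x) (Subgroup.zpowers (f x)) (by rw [Subgroup.zpowers_le]; exact hxT)
      (by rw [Subgroup.zpowers_le]; exact hyx) inferInstance (card_zpowers_qq hxq hx1) inferInstance
      (card_zpowers_qq (by rw [← hf.pow hx, hxq, hf.one]) hfx1) h1
    have h3 : Map (Cfsg.innerFusionSystem S) (Subgroup.zpowers x) f := ⟨φ, h2, hφf⟩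
    obtain ⟨-, s, hs, hsx⟩ := map_inner_iff.1 h3
    exact ⟨s, hs, hsx x (Subgroup.mem_zpowers x)⟩
  intro P
  rw [key]

end Cfsg.Agent.S5298
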