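import Cfsg.Statements.S5299
import Mathlib
import Cfsg.Agent.H27_FusReal
import Cfsg.Agent.H17_Involves

set_option autoImplicit false
universe u
open Cfsg

namespace Cfsg.Agent.S5299

open H27.Fus H27.Grp H17.Involves

theorem involves_of_inj {A B : Type*} [Group A] [Group B] (h : A →* B) (hi : Function.Injective h) : Involves A B :=
  involves_of_surj (K := h.range) (MonoidHom.ofInjective hi).symm.toMonoidHom (MonoidHom.ofInjective hi).symm.surjective

/-- Let F be a saturated fusion system over a finite p-group S, H a finite group and Q a p-subgroup of H. If Q is not involved in S (no section of S is isomorphic to Q), then F is H-free: H is involved in no model of the normalizer system of a fully normalized centric subgroup. -/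
theorem result {Ω : Type u} [Group Ω] {S : Subgroup Ω} [Finite S] (p : ℕ) [Fact p.Prime] (hS : IsPGroup p S)
    (F : Cfsg.FusionSystem S) (hF : F.IsSaturated p) (H : Type*) [Group H] [Finite H] (Q : Subgroup H) (hQ : IsPGroup p Q)
    (hfree : ¬ Cfsg.Involves (↥Q) (↥S)) : F.IsSectionFree p H := by
  intro Q₀ hn hc N hN L hL ι hmod hinv
  obtain ⟨hfin, hr, hSyl, -⟩ := hmod
  obtain ⟨K, f, hf⟩ := involves_iff.1 hinv
  have h1 := isSyl_top_iff.2 hSyl
  obtain ⟨T, hT⟩ := exists_isSyl (p := p) (Q.comap f)
  have h2 := hT.map f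
  have h3 : (Q.comap f).map f = Q := Subgroup.map_comap_eq_self_of_surjective hf Q
  rw [h3] at h2
  have h4 : T.map f = Q := h2.eq_of_isPGroup hQ
  obtain ⟨g, -, hg⟩ := h1.conj (X := T.map K.subtype) le_top (hT.isPGroup.map _)
  apply hfree
  have h5 : Involves (↥Q) (↥T) := by
    refine involves_of_surj' ((f.comp T.subtype).codRestrict Q fun t => ?_) ?_
    · rw [← h4]; exact ⟨t, t.2, rfl⟩
    · rintro ⟨q, hq⟩
      rw [← h4] at hq
      obtain ⟨t, ht, rfl⟩ := hq
      exact ⟨⟨t, ht⟩, rfl⟩
  have hgt : ∀ t : T, g * ((t : K) : L) * g⁻¹ ∈ ι.range := fun t => hg (conj_mem_cj ⟨t, t.2, rfl⟩)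
  have hι : Function.Injective ι := hr.1
  let j : T →* ι.range := MonoidHom.codRestrict (((MulAut.conj g).toMonoidHom.comp K.subtype).comp T.subtype) ι.range hgt
  have hj : Function.Injective j := by
    intro a b hab
    have h6 : g * ((a : K) : L) * g⁻¹ = g * ((b : K) : L) * g⁻¹ := congrArg Subtype.val hab
    exact Subtype.ext (Subtype.ext (mul_left_cancel (mul_right_cancel h6)))
  have h6 : Involves (↥T) (↥(Cfsg.FusionSystem.normalizerIn S Q₀)) :=
    involves_of_inj ((MonoidHom.ofInjective hι).symm.toMonoidHom.comp j) ((MonoidHom.ofInjective hι).symm.injective.comp hj)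
  have h7 : Involves (↥(Cfsg.FusionSystem.normalizerIn S Q₀)) (↥S) :=
    involves_of_inj (Subgroup.inclusion inf_le_left) (Subgroup.inclusion_injective _)
  exact involves_trans h5 (involves_trans h6 h7)

end Cfsg.Agent.S5299
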