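import Cfsg.Statements.S5300
import Cfsg.Agent.H1_CritG

set_option autoImplicit false
universe u
open Cfsg

namespace Cfsg.Agent.S5300

open H27.Fus H27.Grp H1.CritF H1.CritQ

theorem central_of {Ω : Type*} [Group Ω] {S : Subgroup Ω} [Finite S] {p : ℕ} [Fact p.Prime] (hS : IsPGroup p S)
    {x : Ω} (hxS : x ∈ S) (hxp : x ^ p = 1) (h : ∀ s ∈ S, s * x * s⁻¹ ∈ Subgroup.zpowers x) : ∀ s ∈ S, s * x = x * s := by
  by_cases hx1 : x = 1
  · subst hx1; intro s _; simp
  have hx1' : (⟨x, hxS⟩ : S) ≠ 1 := fun h => hx1 (congrArg Subtype.val h)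
  have ho : orderOf (⟨x, hxS⟩ : S) = p := by
    apply ((Fact.out : p.Prime).eq_one_or_self_of_dvd _ ?_).resolve_left (fun h => hx1' (orderOf_eq_one_iff.1 h))
    exact orderOf_dvd_of_pow_eq_one (Subtype.ext hxp)
  set N : Subgroup S := Subgroup.zpowers ⟨x, hxS⟩ with hN
  have hNn : N.Normal := by
    constructor
    rintro y ⟨k, rfl⟩ s
    obtain ⟨m, hm⟩ := h s s.2
    refine ⟨m * k, ?_⟩
    apply Subtype.ext
    show x ^ (m * k) = s * x ^ k * (s : Ω)⁻¹
    rw [zpow_mul, show x ^ m = _ from hm, conj_zpow]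
  have hNb : N ≠ ⊥ := fun h => hx1' (Subgroup.zpowers_eq_bot.1 h)
  have h1 := H2.PGroup.inf_center_ne_bot hS hNb
  obtain ⟨y, hy1⟩ := Subgroup.ne_bot_iff_exists_ne_one.1 h1
  have hyN := y.2.1
  have hyC := y.2.2
  have hNc : Nat.card N = p := by rw [hN, Nat.card_zpowers, ho]
  have h2 : N ⊓ Subgroup.center S = N := by
    apply Subgroup.eq_of_le_of_card_ge inf_le_left
    have h3 := Subgroup.card_dvd_of_le (inf_le_left : N ⊓ Subgroup.center S ≤ N)
    rw [hNc] at h3 ⊢
    rcases (Fact.out : p.Prime).eq_one_or_self_of_dvd _ h3 with h4 | h4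
    · exact absurd (Subgroup.card_eq_one.1 h4) h1
    · rw [h4]
  have h3 : (⟨x, hxS⟩ : S) ∈ Subgroup.center S := by
    have : (⟨x, hxS⟩ : S) ∈ N ⊓ Subgroup.center S := by rw [h2]; exact Subgroup.mem_zpowers _
    exact this.2
  intro s hs
  exact congrArg Subtype.val (Subgroup.mem_center_iff.1 h3 ⟨s, hs⟩)

/-- Let F be a saturated fusion system over a finite p-group S. If every cyclic subgroup of the focal subgroup of F of order p (of order 2 or 4 when p = 2) is normal in S, then S is normal in F. -/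
theorem result {Ω : Type u} [Group Ω] {S : Subgroup Ω} [Finite S] (p : ℕ) [Fact p.Prime] (hS : IsPGroup p S)
    (F : Cfsg.FusionSystem S) (hF : F.IsSaturated p)
    (hnorm : ∀ x ∈ F.focalSubgroup, (x ^ p = 1 ∨ (p = 2 ∧ x ^ 4 = 1)) → ∀ s ∈ S, s * x * s⁻¹ ∈ Subgroup.zpowers x) :
    F.IsNormal S := by
  have hp2 : ∀ x ∈ F.focalSubgroup, x ^ p = 1 → ∀ s ∈ S, s * x = x * s := fun x hx hxp =>
    central_of hS (foc_le hx) hxp (hnorm x hx (Or.inl hxp))
  let C : Subgroup Ω := {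
    carrier := {x | x ∈ F.focalSubgroup ∧ x ^ p = 1}
    one_mem' := ⟨Subgroup.one_mem _, one_pow _⟩
    mul_mem' := by
      rintro a b ⟨ha, ha'⟩ ⟨hb, hb'⟩
      refine ⟨Subgroup.mul_mem _ ha hb, ?_⟩
      rw [(show Commute a b from hp2 b hb hb' a (foc_le ha)).mul_pow, ha', hb', one_mul]
    inv_mem' := by
      rintro a ⟨ha, ha'⟩
      exact ⟨Subgroup.inv_mem _ ha, by rw [inv_pow, ha', inv_one]⟩ }
  have hC : ∀ x, x ∈ C ↔ x ∈ F.focalSubgroup ∧ x ^ p = 1 := fun x => Iff.rfl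
  let Z : ℕ → Subgroup Ω := fun n => if n = 0 then ⊥ else if n = 1 then C else S
  have hZ0 : Z 0 = ⊥ := if_pos rfl
  have hZ1 : Z 1 = C := rfl
  have hZ2 : ∀ n, Z (n + 2) = S := fun n => rfl
  apply normal_top_of hS hF
  intro P hess
  have hP : P ≤ S := hess.1.1
  obtain ⟨D, hD, hDq, hDi, hDc⟩ := crit_sub hS foc_strong (copT_foc (p := p)) hP
  have hinv : ∀ α ∈ F.autGroup P, ∀ i, ∀ x : P, (x : Ω) ∈ D → (x : Ω) ∈ Z i →
      ((α x : P) : Ω) ∈ D ∧ ((α x : P) : Ω) ∈ Z i := by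
    intro α hα i x hx hxi
    have hi := (mem_autGroup_iff hP).1 hα
    have h2 := hDi _ hi x hx
    rw [totA_apply] at h2
    refine ⟨h2, ?_⟩
    rcases i with _ | _ | n
    · rw [hZ0, Subgroup.mem_bot] at hxi ⊢
      have : x = 1 := Subtype.ext hxi
      rw [this, map_one]; rfl
    · refine (hC _).2 ⟨(hD h2).1, ?_⟩
      have h3 : x ^ p = 1 := Subtype.ext ((hC _).1 hxi).2
      have h4 : (α x) ^ p = 1 := by rw [← map_pow, h3, map_one]
      exact congrArg Subtype.val h4
    · exact hP (α x).2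
  refine not_ess hS hF hess (KC F P D Z hinv) (fun α hα => hα.1) (KC_normal hinv) ?_ ?_
  · intro α hα
    obtain ⟨s, hs, hsx⟩ := mem_autInducedBy.1 hα
    have hα' := autInducedBy_le_autGroup F hP hα
    refine ⟨hα', fun i x hx hxi => ?_⟩
    rcases i with _ | _ | n
    · rw [hZ0, Subgroup.mem_bot, hsx]
      have h1 := (hC _).1 hxi
      rw [hp2 _ h1.1 h1.2 s hs]; group
    · have hi := (mem_autGroup_iff hP).1 hα'
      have h2 := hDi _ hi x hx
      rw [totA_apply] at h2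
      refine (hC _).2 ⟨Subgroup.mul_mem _ (Subgroup.inv_mem _ (hD hx).1) (hD h2).1, ?_⟩
      have hq := hDq _ hx
      rw [hsx]
      by_cases h2 : p = 2
      · subst h2
        rw [qq_two] at hq
        obtain ⟨k, hk⟩ := hnorm _ (hD hx).1 (Or.inr ⟨rfl, hq⟩) s hs
        have hk' : s * (x : Ω) * s⁻¹ = (x : Ω) ^ k := hk.symm
        rw [hk']
        rcases Int.even_or_odd' k with ⟨m, rfl | rfl⟩
        · -- even
          have h5 : (s * (x : Ω) * s⁻¹) ^ 2 = 1 := by
            rw [hk', ← zpow_natCast, ← zpow_mul]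
            have : 2 * m * ((2 : ℕ) : ℤ) = 4 * m := by push_cast; ring
            rw [this, zpow_mul]
            have h6 : (x : Ω) ^ (4 : ℤ) = 1 := by exact_mod_cast hq
            rw [h6, one_zpow]
          have h6 : (x : Ω) ^ 2 = 1 := by
            rw [conj_pow] at h5
            have := congrArg (fun t => s⁻¹ * t * s) h5
            simpa [mul_assoc] using this
          have h7 : (x : Ω)⁻¹ * (x : Ω) ^ (2 * m) = (x : Ω)⁻¹ := by
            have h8 : (x : Ω) ^ (2 : ℤ) = 1 := by exact_mod_cast h6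
            rw [zpow_mul, h8, one_zpow, mul_one]
          rw [h7, inv_pow, h6, inv_one]
        · have h7 : (x : Ω)⁻¹ * (x : Ω) ^ (2 * m + 1) = (x : Ω) ^ (2 * m) := by
            rw [zpow_add, zpow_one]
            have := (Commute.refl (x : Ω)).zpow_left (2 * m)
            rw [this.eq, inv_mul_cancel_left]
          rw [h7, ← zpow_natCast, ← zpow_mul]
          have : 2 * m * ((2 : ℕ) : ℤ) = 4 * m := by push_cast; ring
          rw [this, zpow_mul]
          have h6 : (x : Ω) ^ (4 : ℤ) = 1 := by exact_mod_cast hq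
          rw [h6, one_zpow]
      · rw [qq_ne h2] at hq
        have h3 := hp2 _ (hD hx).1 hq s hs
        rw [h3, mul_inv_cancel_right, inv_mul_cancel, one_pow]
    · exact Subgroup.mul_mem _ (Subgroup.inv_mem _ (hP x.2)) (hP (α x).2)
  · rintro α ⟨hα, hα'⟩ hc
    apply hDc α hα hc
    refine trivial_of_chain hS hP (Z := Z) hZ0 ⟨2, le_rfl⟩ hc ?_ hα'
    intro x hx
    have hi := (mem_autGroup_iff hP).1 hα
    have h2 := hDi _ hi x hx
    rwa [totA_apply] at h2

end Cfsg.Agent.S5300
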