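import Cfsg.Statements.S5332
import Mathlib
import Cfsg.Agent.H27_GT6

set_option autoImplicit false
open Cfsg

namespace Cfsg.Agent.S5332

open H27.Fus H27.Grp Cfsg.FusionSystem Cfsg.Agent.H12.ZJ

/-- Let p be odd and F a saturated fusion system over a finite p-group S that is not the inner system of S. Then F contains a saturated constrained subsystem over S that is itself not the inner system. -/
theorem result {Ω : Type*} [Group Ω] {S : Subgroup Ω} [Finite S] (p : ℕ) [Fact p.Prime] (hS : IsPGroup p S) (F : Cfsg.FusionSystem S) (hF : F.IsSaturated p) (hp : p ≠ 2) (hne : ∃ P : Subgroup Ω, F.Hom P ≠ (Cfsg.innerFusionSystem S).Hom P) : ∃ E : Cfsg.FusionSystem S, E ≤ F ∧ E.IsConstrained p ∧ ∃ P : Subgroup Ω, E.Hom P ≠ (Cfsg.innerFusionSystem S).Hom P := by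
    have hni : ¬ ∀ P f, Map F P f → Map (Cfsg.innerFusionSystem S) P f := by
      intro h
      obtain ⟨P, hP⟩ := hne
      apply hP
      apply hom_eq_of_map
      intro f
      refine ⟨h P f, fun hf => ?_⟩
      obtain ⟨h1, s, hs, hsx⟩ := map_inner_iff.1 hf
      exact (map_conj F h1 hs).congr fun x hx => (hsx x hx).symm
    obtain ⟨E, h1, h2, h3, h4⟩ := exists_sparse hF hni
    refine ⟨E, fun P => le_of_map h2 P, sparse_odd hp hS h4 h1 h3, ?_⟩
    by_contra hcon
    push Not at hcon
    exact h3 fun P f hf => map_of_le (hcon P).le hf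

end Cfsg.Agent.S5332
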