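import Cfsg.Statements.S5343
import Mathlib
import Cfsg.Agent.H27_FusReal

set_option autoImplicit false
universe u
open Cfsg

namespace Cfsg.Agent.S5343

open H27.Fus H27.Grp

/-- Let F be a simple saturated fusion system over a finite p-group S that is realized by some finite group on a Sylow p-subgroup. Then F is realized by a finite simple group on a Sylow p-subgroup. -/
theorem result {Ω : Type u} [Group Ω] {S : Subgroup Ω} [Finite S] (p : ℕ) [Fact p.Prime] (hS : IsPGroup p S) (F : Cfsg.FusionSystem S) (hsimple : F.IsSimple p) (hreal : F.IsRealizable p) : ∃ (G : Type u) (_ : Group G) (_ : Finite G) (_ : IsSimpleGroup G) (ι : ↥S →* G), F.IsRealizedBy ι ∧ ∃ T : Sylow p G, (T : Subgroup G) = ι.range := by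
  classical
  let Q : ℕ → Prop := fun n => ∃ (G : Type u) (_ : Group G) (_ : Finite G) (ι : ↥S →* G), F.IsRealizedBy ι ∧
    IsSyl p ι.range ⊤ ∧ Nat.card G = n
  have hQ : ∃ n, Q n := by
    obtain ⟨G, hG, hfin, ι, h1, h2⟩ := hreal
    exact ⟨Nat.card G, G, hG, hfin, ι, h1, isSyl_top_iff.2 h2, rfl⟩
  obtain ⟨G, hG, hfin, ι, h1, h2, h3⟩ := Nat.find_spec hQ
  have hmin : ∀ (G' : Type u) (_ : Group G') (_ : Finite G') (ι' : ↥S →* G'), F.IsRealizedBy ι' →
      IsSyl p ι'.range ⊤ → Nat.card G ≤ Nat.card G' := by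
    intro G' hG' hfin' ι' h4 h5
    rw [h3]
    exact Nat.find_min' hQ ⟨G', hG', hfin', ι', h4, h5, rfl⟩
  obtain ⟨k, hk⟩ := fiso_of_realized h1
  have hsimple' := hk.simple hS hsimple
  refine ⟨G, hG, hfin, simple_grp h2 hsimple' ?_ ?_, ι, h1, isSyl_top_iff.1 h2⟩
  · intro N hN hNc
    obtain ⟨h4, h5⟩ := realized_quotient h1 h2 N hNc
    have h6 := hmin _ _ inferInstance _ h4 h5
    have h7 := Subgroup.card_eq_card_quotient_mul_card_subgroup N
    have h8 : 0 < Nat.card (G ⧸ N) := Nat.card_pos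
    have h9 : Nat.card N ≤ 1 := by
      by_contra hc
      push Not at hc
      have : Nat.card (G ⧸ N) * 2 ≤ Nat.card (G ⧸ N) * Nat.card N := Nat.mul_le_mul_left _ hc
      omega
    exact Subgroup.card_eq_one.1 (le_antisymm h9 Nat.card_pos)
  · intro H hH hf
    obtain ⟨ι', h4, h5⟩ := realized_sub h1 h2 H hH hf
    have h6 := hmin _ _ inferInstance _ h4 h5
    exact Subgroup.eq_top_of_le_card _ h6

end Cfsg.Agent.S5343
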