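import Cfsg.Statements.S5522
import Cfsg.Agent.H28_Cls2
import Cfsg.Agent.H28_Six
import Cfsg.Agent.H14_M24Gen
import Cfsg.Agent.H7_M24d

set_option autoImplicit false
open Cfsg

namespace Cfsg.Agent.S5522

open Cfsg.Agent.H7.Golay Cfsg.Agent.H7.Oct Cfsg.Agent.H7.M24 Cfsg.Agent.H7.M24d Cfsg.Agent.H28.Cls Cfsg.Agent.H28.Six Cfsg.Agent.H14.M24Gen
open scoped Pointwise

theorem modP {p : ℕ} (hp : p.Prime) {x : Equiv.Perm GolayPt} (h3 : orderOf x = p) {F : Finset GolayPt}
    (hF : ∀ q, q ∈ F ↔ x q ∈ F) : F.card % p = (F ∩ fixF x).card % p := by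
  haveI : Fact (Nat.Prime p) := ⟨hp⟩
  let f : Function.End ↥F := fun q => ⟨x q.1, (hF q.1).1 q.2⟩
  have hf : f ^ p ^ 1 = 1 := by
    have h1 : x ^ p = 1 := by rw [← h3]; exact pow_orderOf_eq_one x
    funext q
    apply Subtype.ext
    have h2 : ∀ n : ℕ, (((f ^ n) q : ↥F) : GolayPt) = (x ^ n) q := by
      intro n
      induction n with
      | zero => rfl
      | succ n ih => rw [pow_succ', pow_succ', Equiv.Perm.mul_apply, ← ih]; rfl
    rw [h2, pow_one, h1]; rfl
  have h4 := Equiv.Perm.card_fixedPoints_modEq hf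
  have h5 : Fintype.card (Function.fixedPoints f) = (F ∩ fixF x).card := by
    rw [← Fintype.card_coe]
    apply Fintype.card_congr
    refine ⟨fun q => ⟨q.1.1, Finset.mem_inter.2 ⟨q.1.2, mem_fixF.2 (congrArg Subtype.val q.2)⟩⟩,
      fun q => ⟨⟨q.1, (Finset.mem_inter.1 q.2).1⟩, Subtype.ext (mem_fixF.1 (Finset.mem_inter.1 q.2).2)⟩,
      fun _ => rfl, fun _ => rfl⟩
  rw [h5, Fintype.card_coe] at h4
  exact h4

/-- The Mathieu group M₁₁, realised as the stabiliser of one point of the dodecad of squares inside the stabiliser M₁₂ of that dodecad in M₂₄, acts on the twelve coordinate positions outside the dodecad of squares (its 3-transitive action of degree 12); in this action every element of prime order fixes a point, i.e. the action is elusive. -/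
theorem result (g : Equiv.Perm Cfsg.GolayPt) (hg : g ∈ Cfsg.Spor.M11) (hord : (orderOf g).Prime) :
    ∃ x : Cfsg.GolayPt, x ∉ Cfsg.Spor.squareDodecad ∧ g x = x := by
  rw [mem_M11] at hg
  obtain ⟨⟨hgM, hgd⟩, hg0⟩ := hg
  have hdod : ofMask sqM ∈ dodecads := by
    rw [ofMask_mem_dodecads (by decide), mem_dodL, mem_codeL_iff]
    decide +kernel
  have hd12 : (ofMask sqM).card = 12 := (mem_dodecads.1 hdod).2
  have hF : ∀ q, q ∈ ofMask sqM ↔ g q ∈ ofMask sqM := by
    intro q
    constructor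
    · intro h
      have h1 : g • q ∈ g • ofMask sqM := Finset.smul_mem_smul_finset h
      rw [hgd] at h1
      exact h1
    · intro h
      have h1 : g • q ∈ g • ofMask sqM := by rw [hgd]; exact h
      exact (Finset.smul_mem_smul_finset_iff g).1 h1
  have hFc : ∀ q, q ∈ (ofMask sqM)ᶜ ↔ g q ∈ (ofMask sqM)ᶜ := by
    intro q
    rw [Finset.mem_compl, Finset.mem_compl, hF q]
  have hc12 : ((ofMask sqM)ᶜ).card = 12 := by
    rw [Finset.card_compl, hd12]
    have : Fintype.card GolayPt = 24 := by decide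
    rw [this]
  have hg1 : g ≠ 1 := by
    rintro rfl
    rw [orderOf_one] at hord
    exact absurd hord (by norm_num)
  have h0f : pt 0 ∈ ofMask sqM ∩ fixF g := by
    rw [Finset.mem_inter, mem_fixF, mem_ofMask]
    exact ⟨by decide, hg0⟩
  have h1 := modP hord rfl hF
  have h2 := modP hord rfl hFc
  rw [hd12] at h1
  rw [hc12] at h2
  suffices h : ((ofMask sqM)ᶜ ∩ fixF g).card ≠ 0 by
    obtain ⟨x, hx⟩ := Finset.card_pos.1 (Nat.pos_of_ne_zero h)
    rw [Finset.mem_inter, Finset.mem_compl, mem_fixF] at hx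
    refine ⟨x, ?_, hx.2⟩
    rw [squareDodecad_eq]
    exact hx.1
  intro hz
  rw [hz, Nat.zero_mod] at h2
  have h23 : orderOf g = 2 ∨ orderOf g = 3 := by
    have h3 : orderOf g ∣ 12 := Nat.dvd_of_mod_eq_zero h2
    have h4 : orderOf g ∣ 2 * 2 * 3 := h3
    rw [Nat.Prime.dvd_mul hord, Nat.Prime.dvd_mul hord] at h4
    rcases h4 with (h4 | h4) | h4
    · exact Or.inl ((Nat.prime_dvd_prime_iff_eq hord Nat.prime_two).1 h4)
    · exact Or.inl ((Nat.prime_dvd_prime_iff_eq hord Nat.prime_two).1 h4)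
    · exact Or.inr ((Nat.prime_dvd_prime_iff_eq hord Nat.prime_three).1 h4)
  have hsub : fixF g ⊆ ofMask sqM := by
    intro q hq
    by_contra hc
    have : q ∈ (ofMask sqM)ᶜ ∩ fixF g := Finset.mem_inter.2 ⟨Finset.mem_compl.2 hc, hq⟩
    rw [Finset.card_eq_zero.1 hz] at this
    exact absurd this (Finset.notMem_empty q)
  have hne : (fixF g).card ≠ 0 := by
    intro h
    rw [Finset.card_eq_zero.1 h, Finset.inter_empty] at h0f
    exact absurd h0f (Finset.notMem_empty _)
  rcases h23 with h2 | h3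
  · rcases inv_fix hgM h2 with ho | h
    · have h5 := octad_inter_dodecad ho hdod
      rw [Finset.inter_eq_left.2 hsub, (mem_octads.1 ho).2] at h5
      omega
    · exact hne h
  · rcases three_fix hgM h3 with h6 | h
    · obtain ⟨x, hx, hx'⟩ := enum6 (fixF g) h6
      apply hg1
      exact dodecad_five_fix hdod (fun i : Fin 5 => x i.castSucc) (fun i => hsub ((hx' _).2 ⟨_, rfl⟩))
        (fun i j h => Fin.castSucc_injective _ (hx h)) hgM hgd (fun i => mem_fixF.1 ((hx' _).2 ⟨_, rfl⟩))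
    · exact hne h

end Cfsg.Agent.S5522
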