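import Cfsg.Statements.S5728
import Mathlib

set_option autoImplicit false
open Cfsg

namespace Cfsg.Agent.S5728

theorem mem_prime {p : ℕ} [Fact p.Prime] {a : GaloisField p 2} (h : a ^ p = a) :
    ∃ c : ZMod p, algebraMap (ZMod p) (GaloisField p 2) c = a := by
  have h1 := (Subfield.mem_bot_iff_pow_eq_self (F := GaloisField p 2) (p := p) (x := a)).mpr h
  have h2 : (⊥ : Subfield (GaloisField p 2)) ≤ (algebraMap (ZMod p) (GaloisField p 2)).fieldRange := bot_le
  obtain ⟨c, hc⟩ := h2 h1
  exact ⟨c, hc⟩

/-- An elusive transitive action. Let p = 2^s − 1 be a prime and let F be the field with p² elements. Inside the group of affine maps x ↦ a·x + b of F (a ≠ 0), consider the subgroup of maps with both coefficients in the prime field. Then every element of prime order of the affine group is conjugate, within the affine group, to an element of that subgroup; equivalently, in the transitive action of the affine group on the cosets of that subgroup (of degree p(p + 1)) every element of prime order fixes a point. -/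
theorem result (p s : ℕ) [Fact p.Prime] (hs : p = 2 ^ s - 1)
    (g : Equiv.Perm (GaloisField p 2)) (hg : g ∈ Cfsg.affineGroup (GaloisField p 2)) (hord : (orderOf g).Prime) :
    ∃ x ∈ Cfsg.affineGroup (GaloisField p 2), ∃ a b : ZMod p, a ≠ 0 ∧
      ∀ y : GaloisField p 2, (x * g * x⁻¹) y = algebraMap (ZMod p) (GaloisField p 2) a * y + algebraMap (ZMod p) (GaloisField p 2) b := by
  classical
  have hp : p.Prime := Fact.out
  haveI : CharP (GaloisField p 2) p := inferInstance
  obtain ⟨a, b, hab⟩ := hg
  -- translations and dilations
  by_cases ha : a = 1
  · subst ha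
    have hb : b ≠ 0 := by
      rintro rfl
      have h1 : g = 1 := by
        ext x
        rw [hab]; simp
      rw [h1, orderOf_one] at hord
      exact Nat.not_prime_one hord
    let x : Equiv.Perm (GaloisField p 2) :=
      { toFun := fun y => b⁻¹ * y
        invFun := fun y => b * y
        left_inv := fun y => by field_simp
        right_inv := fun y => by field_simp }
    refine ⟨x, ⟨(Units.mk0 b hb)⁻¹, 0, fun y => by simp [x]⟩, 1, 1, one_ne_zero, ?_⟩
    intro y
    show b⁻¹ * (g (b * y)) = _
    rw [hab, map_one]
    simp only [Units.val_one, one_mul]
    field_simp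
  · have ha1 : (1 : GaloisField p 2) - a ≠ 0 := by
      intro h
      apply ha
      exact Units.ext (sub_eq_zero.mp h).symm
    have ha0 : (a : GaloisField p 2) ≠ 0 := a.ne_zero
    -- the fixed point
    set c := b / (1 - (a : GaloisField p 2)) with hc
    have hcb : c * (1 - (a : GaloisField p 2)) = b := by rw [hc]; field_simp
    let x : Equiv.Perm (GaloisField p 2) :=
      { toFun := fun y => y - c
        invFun := fun y => y + c
        left_inv := fun y => by ring
        right_inv := fun y => by ring }
    have hxg : ∀ y, (x * g * x⁻¹) y = a * y := by
      intro y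
      show g (y + c) - c = a * y
      rw [hab, ← hcb]; ring
    -- the order
    set r := orderOf g with hr
    have hgr : (x * g * x⁻¹) ^ r = 1 := by
      rw [conj_pow, pow_orderOf_eq_one, mul_one, mul_inv_cancel]
    have hpow : ∀ n : ℕ, ∀ y, ((x * g * x⁻¹) ^ n) y = (a : GaloisField p 2) ^ n * y := by
      intro n
      induction n with
      | zero => intro y; simp
      | succ n ih =>
        intro y
        rw [pow_succ, Equiv.Perm.mul_apply, hxg, ih, pow_succ]; ring
    have har : a ^ r = 1 := by
      apply Units.ext
      have h1 := hpow r 1
      rw [hgr] at h1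
      rw [Units.val_pow_eq_pow_val, Units.val_one]
      rw [mul_one] at h1
      exact h1.symm
    have hoa : orderOf a = r := by
      have h1 := orderOf_dvd_of_pow_eq_one har
      rcases (Nat.dvd_prime hord).mp h1 with h2 | h2
      · exact absurd (orderOf_eq_one_iff.mp h2) ha
      · exact h2
    have hcard : Nat.card (GaloisField p 2) = p ^ 2 := GaloisField.card p 2 (by norm_num)
    have hdvd : r ∣ (p - 1) * 2 ^ s := by
      have h1 : orderOf a ∣ Nat.card (GaloisField p 2)ˣ := orderOf_dvd_natCard a
      rw [hoa, Nat.card_units, hcard] at h1
      have h2 : p ^ 2 - 1 = (p - 1) * (p + 1) := by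
        have := Nat.sq_sub_sq p 1
        rw [one_pow] at this
        rw [this, mul_comm]
      have h3 : p + 1 = 2 ^ s := by
        have : 1 ≤ 2 ^ s := Nat.one_le_two_pow
        omega
      rw [h2, h3] at h1
      exact h1
    have hmem : (a : GaloisField p 2) ^ p = a := by
      rcases (Nat.Prime.dvd_mul hord).mp hdvd with h1 | h1
      · have h2 : a ^ (p - 1) = 1 := by
          rw [← orderOf_dvd_iff_pow_eq_one, hoa]; exact h1
        have h3 : a ^ p = a := by
          calc a ^ p = a ^ (p - 1 + 1) := by rw [Nat.sub_add_cancel hp.one_le]
            _ = a := by rw [pow_succ, h2, one_mul]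
        rw [← Units.val_pow_eq_pow_val, h3]
      · have h2 : r = 2 := (Nat.prime_dvd_prime_iff_eq hord Nat.prime_two).mp (hord.dvd_of_dvd_pow h1)
        have h3 : (a : GaloisField p 2) = -1 := by
          have h4 : (a : GaloisField p 2) * a = 1 := by
            have := congrArg Units.val har
            rw [h2, pow_two] at this
            simpa using this
          have h5 : ((a : GaloisField p 2) - 1) * (a + 1) = 0 := by linear_combination h4
          rcases mul_eq_zero.mp h5 with h6 | h6
          · exact absurd (by linear_combination -h6) ha1
          · linear_combination h6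
        rw [h3]
        have hodd : Odd p ∨ p = 2 := by
          rcases hp.eq_two_or_odd' with h6 | h6
          · exact Or.inr h6
          · exact Or.inl h6
        rcases hodd with h6 | h6
        · exact h6.neg_one_pow
        · subst h6
          have : (2 : GaloisField 2 2) = 0 := by
            have := CharP.cast_eq_zero (GaloisField 2 2) 2
            exact_mod_cast this
          linear_combination this
    obtain ⟨d, hd⟩ := mem_prime hmem
    refine ⟨x, ⟨1, -c, fun y => by simp [x]; ring⟩, d, 0, ?_, ?_⟩
    · rintro rfl
      rw [map_zero] at hd
      exact ha0 hd.symm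
    · intro y
      rw [hxg, hd, map_zero, add_zero]

end Cfsg.Agent.S5728
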