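import Cfsg.Statements.S5748
import Mathlib
import Cfsg.Agent.H18_CA3
import Cfsg.Agent.S0182
import Cfsg.Agent.H21_SL2e

set_option autoImplicit false
open Cfsg

namespace Cfsg.Agent.S5748

open Matrix in
/-- matrices commuting with a fixed non-scalar matrix commute -/
theorem mat_comm {F : Type*} [Field F] {a b c : Matrix (Fin 2) (Fin 2) F} (hb : ¬ (b 0 1 = 0 ∧ b 1 0 = 0 ∧ b 0 0 = b 1 1))
    (h1 : a * b = b * a) (h2 : b * c = c * b) : a * c = c * a := by
  have e : ∀ (x y : Matrix (Fin 2) (Fin 2) F), x * y = y * x ↔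
      (x 0 1 * y 1 0 = y 0 1 * x 1 0 ∧ x 0 1 * (y 0 0 - y 1 1) = y 0 1 * (x 0 0 - x 1 1) ∧
        x 1 0 * (y 0 0 - y 1 1) = y 1 0 * (x 0 0 - x 1 1)) := by
    intro x y
    constructor
    · intro h
      have h00 := congrFun (congrFun h 0) 0
      have h01 := congrFun (congrFun h 0) 1
      have h10 := congrFun (congrFun h 1) 0
      simp only [Matrix.mul_apply, Fin.sum_univ_two] at h00 h01 h10
      refine ⟨by linear_combination h00, by linear_combination -h01, by linear_combination h10⟩
    · rintro ⟨h1, h2, h3⟩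
      ext i j
      fin_cases i <;> fin_cases j <;> simp only [Matrix.mul_apply, Fin.sum_univ_two, Fin.zero_eta, Fin.mk_one, Fin.isValue]
      · linear_combination h1
      · linear_combination -h2
      · linear_combination h3
      · linear_combination -h1
  rw [e] at h1 h2 ⊢
  obtain ⟨p1, p2, p3⟩ := h1
  obtain ⟨q1, q2, q3⟩ := h2
  generalize a 0 1 = a1 at *
  generalize a 1 0 = a2 at *
  generalize a 0 0 - a 1 1 = a3 at *
  generalize hb1 : b 0 1 = b1 at *
  generalize hb2 : b 1 0 = b2 at *
  have hb3' : b 0 0 = b 1 1 ↔ b 0 0 - b 1 1 = 0 := sub_eq_zero.symm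
  rw [hb3'] at hb
  generalize b 0 0 - b 1 1 = b3 at *
  generalize c 0 1 = c1 at *
  generalize c 1 0 = c2 at *
  generalize c 0 0 - c 1 1 = c3 at *
  by_cases h1 : b1 = 0
  · by_cases h2 : b2 = 0
    · have h3 : b3 ≠ 0 := fun h3 => hb ⟨h1, h2, h3⟩
      subst h1 h2
      have ha1 : a1 = 0 := by
        have : a1 * b3 = 0 := by linear_combination p2
        exact (mul_eq_zero.mp this).resolve_right h3
      have ha2 : a2 = 0 := by
        have : a2 * b3 = 0 := by linear_combination p3
        exact (mul_eq_zero.mp this).resolve_right h3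
      have hc1 : c1 = 0 := by
        have : c1 * b3 = 0 := by linear_combination -q2
        exact (mul_eq_zero.mp this).resolve_right h3
      have hc2 : c2 = 0 := by
        have : c2 * b3 = 0 := by linear_combination -q3
        exact (mul_eq_zero.mp this).resolve_right h3
      subst ha1 ha2 hc1 hc2
      simp
    · refine ⟨mul_left_cancel₀ h2 ?_, mul_left_cancel₀ h2 ?_, mul_left_cancel₀ h2 ?_⟩
      · linear_combination c2 * p1 + a2 * q1
      · linear_combination c3 * p1 + a3 * q1 + (a2 * c3 - c2 * a3) * h1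
      · linear_combination a2 * q3 + c2 * p3
  · refine ⟨mul_left_cancel₀ h1 ?_, mul_left_cancel₀ h1 ?_, mul_left_cancel₀ h1 ?_⟩
    · linear_combination a1 * q1 + c1 * p1
    · linear_combination a1 * q2 + c1 * p2
    · linear_combination a2 * q2 + c1 * p3 - a3 * q1

/-- commuting is transitive in SL2 of characteristic 2 -/
theorem ca_SL {F : Type*} [Field F] [CharP F 2] (a b c : Matrix.SpecialLinearGroup (Fin 2) F) (hb : b ≠ 1)
    (h1 : Commute a b) (h2 : Commute b c) : Commute a c := by
  have e1 : (a : Matrix (Fin 2) (Fin 2) F) * b = b * a := by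
    have := congrArg (fun x : Matrix.SpecialLinearGroup (Fin 2) F => (x : Matrix (Fin 2) (Fin 2) F)) h1.eq
    simpa using this
  have e2 : (b : Matrix (Fin 2) (Fin 2) F) * c = c * b := by
    have := congrArg (fun x : Matrix.SpecialLinearGroup (Fin 2) F => (x : Matrix (Fin 2) (Fin 2) F)) h2.eq
    simpa using this
  have e3 := mat_comm (a := (a : Matrix (Fin 2) (Fin 2) F)) (b := b) (c := c) ?_ e1 e2
  · apply Matrix.SpecialLinearGroup.ext
    intro i j
    have := congrFun (congrFun e3 i) j
    simpa using this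
  · rintro ⟨h01, h10, h00⟩
    apply hb
    have hdet := b.det_coe
    rw [Matrix.det_fin_two, h01, h10, h00] at hdet
    have h11 : (b 1 1 - 1) * (b 1 1 - 1) = 0 := by
      have h2 : (2 : F) = 0 := CharTwo.two_eq_zero
      linear_combination hdet - (b 1 1 - 1) * h2
    have h3 : b 1 1 = 1 := by
      have := mul_self_eq_zero.mp h11
      exact sub_eq_zero.mp this
    apply Matrix.SpecialLinearGroup.ext
    intro i j
    fin_cases i <;> fin_cases j
    · change b 0 0 = _
      rw [h00, h3]; simp
    · change b 0 1 = _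
      rw [h01]; simp
    · change b 1 0 = _
      rw [h10]; simp
    · change b 1 1 = _
      rw [h3]; simp

theorem charTwo {F : Type*} [Field F] [Fintype F] {f : ℕ} (hf : 1 ≤ f) (h : Fintype.card F = 2 ^ f) : CharP F 2 := by
  apply Cfsg.Agent.H4.S3.even_card_charTwo
  rw [h]
  exact (even_two).pow_of_ne_zero (by omega)

theorem ca_PSL {F : Type*} [Field F] [Fintype F] {f : ℕ} (hf : 1 ≤ f) (h : Fintype.card F = 2 ^ f)
    (a b c : Matrix.ProjectiveSpecialLinearGroup (Fin 2) F) (hb : b ≠ 1)
    (h1 : Commute a b) (h2 : Commute b c) : Commute a c := by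
  haveI := charTwo hf h
  let e := (Cfsg.Agent.H21.SL2e.equivPSL (F := F)).symm
  have h3 := ca_SL (e a) (e b) (e c) (fun h3 => hb (by
    have := congrArg e.symm h3
    simpa using this)) (h1.map e) (h2.map e)
  have h4 := h3.map e.symm
  simpa using h4

/-- A finite non-abelian simple group in which commuting is a transitive relation on the non-identity elements (equivalently, every non-identity element has abelian centraliser) is isomorphic to PSL₂ over a field with 2^f elements for some f ≥ 2; conversely these groups have that property. -/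
theorem result {G : Type*} [Group G] [Finite G] [IsSimpleGroup G] (hG : ¬ IsMulCommutative G) :
    (∀ a b c : G, a ≠ 1 → b ≠ 1 → c ≠ 1 → Commute a b → Commute b c → Commute a c) ↔
    ∃ (F : Type) (_ : Field F) (_ : Fintype F) (f : ℕ), 2 ≤ f ∧ Fintype.card F = 2 ^ f ∧ Nonempty (G ≃* Matrix.ProjectiveSpecialLinearGroup (Fin 2) F) := by
  constructor
  · intro hca
    have hns : ¬ Group.IsSolvable G := by
      intro hs
      exact hG ⟨⟨IsSimpleGroup.comm_iff_isSolvable.mpr hs⟩⟩
    have hev : ¬ Odd (Nat.card G) := by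
      intro hodd
      apply hns
      apply Cfsg.Agent.S0182.result hodd
      intro x hx a ha b hb
      exact Cfsg.Agent.H18.CA.A_comm hca hx ha hb
    rw [Nat.not_odd_iff_even, even_iff_two_dvd] at hev
    obtain ⟨t, ht⟩ := exists_prime_orderOf_dvd_card' 2 hev
    have ht1 : t ≠ 1 := by
      rintro rfl
      rw [orderOf_one] at ht
      omega
    have ht2 : t * t = 1 := by
      rw [← pow_two, ← ht, pow_orderOf_eq_one]
    obtain ⟨f, hf, F, hF, hFf, hc, ⟨e⟩⟩ := Cfsg.Agent.H18.CA3.main hG hca ht2 ht1
    haveI := charTwo (by omega) hc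
    exact ⟨F, hF, hFf, f, hf, hc, ⟨e.trans Cfsg.Agent.H21.SL2e.equivPSL⟩⟩
  · rintro ⟨F, hF, hFf, f, hf, hc, ⟨e⟩⟩ a b c ha hb hc' h1 h2
    have h3 := ca_PSL (by omega) hc (e a) (e b) (e c) (fun h3 => hb (by
      have := congrArg e.symm h3
      simpa using this)) (h1.map e) (h2.map e)
    have h4 := h3.map e.symm
    simpa using h4

end Cfsg.Agent.S5748
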