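import Cfsg.Statements.S5947
import Cfsg.Agent.H19_Singer
import Cfsg.Agent.S2904

set_option autoImplicit false
open Cfsg

namespace Cfsg.Agent.S5947

open Polynomial
open Cfsg.Agent.H19.Singer

theorem prime_of_mersenne {q p k a : ℕ} (hp : p.Prime) (hk : 0 < k) (hq : q = p ^ k) (h : q + 1 = 2 ^ a) : q.Prime := by
  by_cases hk1 : k = 1
  · rw [hq, hk1, pow_one]; exact hp
  exfalso
  have hp2 : p ≠ 2 := by
    rintro rfl
    have h1 : 2 ∣ q := by rw [hq]; exact dvd_pow_self 2 (by omega)
    have hq2 : 2 ^ 2 ≤ q := by rw [hq]; exact Nat.pow_le_pow_right (by norm_num) (by omega)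
    have ha : a ≠ 0 := by rintro rfl; omega
    have h2 : 2 ∣ q + 1 := by rw [h]; exact dvd_pow_self 2 ha
    omega
  have hpodd : Odd p := hp.odd_of_ne_two hp2
  have hqodd : Odd q := by rw [hq]; exact hpodd.pow
  have hp3 : 3 ≤ p := by have := hp.two_le; omega
  have hq9 : 3 ^ 2 ≤ q := by
    rw [hq]
    exact (Nat.pow_le_pow_left hp3 2).trans (Nat.pow_le_pow_right (by omega) (by omega))
  have ha2 : 2 ≤ a := by
    by_contra hcon
    have : 2 ^ a ≤ 2 ^ 1 := Nat.pow_le_pow_right (by norm_num) (by omega)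
    omega
  have h4 : 4 ∣ q + 1 := by
    rw [h]
    exact Nat.pow_dvd_pow 2 ha2
  rcases Nat.even_or_odd k with ⟨j, hj⟩ | hkodd
  · -- q a square
    have : q = (p ^ j) * (p ^ j) := by rw [hq, hj, pow_add]
    have hjo : Odd (p ^ j) := hpodd.pow
    obtain ⟨t, ht⟩ := hjo
    rw [ht] at this
    have h5 : q + 1 = 4 * (t * t + t) + 2 := by rw [this]; ring
    omega
  · -- p + 1 divides p ^ k + 1 with odd cofactor
    obtain ⟨j, hj⟩ := hkodd
    have key : ∀ (m : ℤ) (j : ℕ), ∃ c : ℤ, (m - 1) ^ (2 * j + 1) = -1 + (2 * j + 1) * m + c * m ^ 2 := by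
      intro m j
      induction j with
      | zero => exact ⟨0, by push_cast; ring⟩
      | succ j ih =>
        obtain ⟨c, hc⟩ := ih
        refine ⟨c - 2 * (2 * j + 1) - 1 + ((2 * j + 1) - 2 * c) * m + c * m ^ 2, ?_⟩
        rw [show 2 * (j + 1) + 1 = (2 * j + 1) + 2 from by ring, pow_add, hc]
        push_cast
        ring
    obtain ⟨c, hc⟩ := key ((p : ℤ) + 1) j
    rw [add_sub_cancel_right, ← hj] at hc
    have h5 : (2 : ℤ) ^ a = ((p : ℤ) + 1) * ((2 * j + 1) + c * ((p : ℤ) + 1)) := by
      have h6 : (q : ℤ) + 1 = 2 ^ a := by exact_mod_cast h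
      rw [← h6, hq]
      push_cast
      rw [hc]; ring
    have hodd : Odd ((2 * (j : ℤ) + 1) + c * ((p : ℤ) + 1)) := by
      have h6 : Even ((p : ℤ) + 1) := by
        have : Odd (p : ℤ) := by exact_mod_cast hpodd
        exact this.add_one
      exact Odd.add_even ⟨j, rfl⟩ (h6.mul_left c)
    have hcop : IsCoprime ((2 * (j : ℤ) + 1) + c * ((p : ℤ) + 1)) ((2 : ℤ) ^ a) := by
      apply IsCoprime.pow_right
      obtain ⟨w, hw⟩ := hodd
      rw [hw]
      exact ⟨1, -w, by ring⟩
    have hunit : IsUnit ((2 * (j : ℤ) + 1) + c * ((p : ℤ) + 1)) :=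
      hcop.isUnit_of_dvd' (dvd_refl _) (Dvd.intro_left _ h5.symm)
    have hp1 : ((p : ℤ) + 1) < 2 ^ a := by
      have h7 : p ^ 1 < p ^ k := Nat.pow_lt_pow_right hp.one_lt (by omega)
      rw [pow_one] at h7
      have h8 : p + 1 < 2 ^ a := by rw [← h, hq]; omega
      exact_mod_cast h8
    have hp0 : (0 : ℤ) < (p : ℤ) + 1 := by positivity
    rcases Int.isUnit_iff.1 hunit with h7 | h7 <;> rw [h7] at h5
    · rw [mul_one] at h5; omega
    · rw [h5] at hp1; omega

theorem main {F K : Type*} [Field F] [Fintype F] [Field K] [Fintype K] [Algebra F K] (n : ℕ) (hn : 2 ≤ n)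
    (hdim : Module.finrank F K = n) (r : ℕ) (hr : r.Prime) (hr1 : r ∣ Fintype.card F ^ n - 1)
    (hr2 : ∀ k : ℕ, 0 < k → k < n → ¬ r ∣ Fintype.card F ^ k - 1) (x : (Module.End F K)ˣ) (hx : orderOf x = r) :
    ∃ t : (Module.End F K)ˣ, ∀ u : (Module.End F K)ˣ, u * x = x * u → t⁻¹ * u * t ∈ M F K := by
  classical
  obtain ⟨p, hpc⟩ := CharP.exists F
  haveI : Fact p.Prime := ⟨CharP.char_is_prime F p⟩
  haveI : FiniteDimensional F K := FiniteDimensional.of_finrank_pos (by omega)
  obtain ⟨f0, hq⟩ := FiniteField.card F p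
  have hq1 : 1 < Fintype.card F := Fintype.one_lt_card
  have hrq : ¬ r ∣ Fintype.card F := by
    intro h
    have h1 : r ∣ Fintype.card F ^ n := h.trans (dvd_pow_self _ (by omega))
    have h2 : 1 ≤ Fintype.card F ^ n := Nat.one_le_pow _ _ (by omega)
    have h3 := (Nat.dvd_sub_iff_right h2 h1).1 hr1
    exact hr.one_lt.ne' (Nat.dvd_one.1 h3)
  have hrF : (r : F) ≠ 0 := by
    intro h
    rw [CharP.cast_eq_zero_iff F p] at h
    have : p = r := (Nat.prime_dvd_prime_iff_eq Fact.out hr).1 h
    apply hrq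
    rw [← this, hq.2]
    exact dvd_pow_self _ f0.pos.ne'
  obtain ⟨X0, hX0⟩ : ∃ X0 : Module.End F K, X0 = x := ⟨_, rfl⟩
  have hXr : X0 ^ r = 1 := by
    rw [hX0, ← Units.val_pow_eq_pow_val, ← hx, pow_orderOf_eq_one, Units.val_one]
  have hX1 : X0 ≠ 1 := by
    intro h
    have : x = 1 := Units.ext (by rw [← hX0, h]; rfl)
    rw [this, orderOf_one] at hx
    exact hr.one_lt.ne hx
  have hint : IsIntegral F X0 := Algebra.IsIntegral.isIntegral X0
  -- common factor with 1 + X + ... + X^(r-1)
  obtain ⟨Qp, hQp⟩ : ∃ Qp : F[X], Qp = ∑ i ∈ Finset.range r, X ^ i := ⟨_, rfl⟩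
  have hQX : Qp * (X - 1) = X ^ r - 1 := by rw [hQp]; exact geom_sum_mul X r
  have hnc : ¬ IsCoprime (minpoly F X0) Qp := by
    intro hcop
    have h1 : minpoly F X0 ∣ Qp * (X - 1) := by
      rw [hQX]
      apply minpoly.dvd
      simp [hXr]
    have h2 := hcop.dvd_of_dvd_mul_left h1
    have h3 : aeval X0 (X - 1 : F[X]) = 0 := by
      obtain ⟨c, hc⟩ := h2
      rw [hc, map_mul, minpoly.aeval, zero_mul]
    apply hX1
    simpa [sub_eq_zero] using h3
  obtain ⟨g, hg, hg1, hg2⟩ : ∃ g : F[X], Irreducible g ∧ g ∣ minpoly F X0 ∧ g ∣ Qp := by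
    by_contra hcon
    push Not at hcon
    apply hnc
    apply isCoprime_of_irreducible_dvd
    · rintro ⟨h, -⟩
      exact minpoly.ne_zero hint h
    · intro z hz hz1 hz2
      exact hcon z hz hz1 hz2
  haveI : Fact (Irreducible g) := ⟨hg⟩
  have hg0 : g ≠ 0 := hg.ne_zero
  have hfr : Module.finrank F (AdjoinRoot g) = g.natDegree := finrank_quotient_span_eq_natDegree (f := g)
  have hdegpos : 0 < g.natDegree := hg.natDegree_pos
  haveI : FiniteDimensional F (AdjoinRoot g) := FiniteDimensional.of_finrank_pos (by omega)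
  haveI : Finite (AdjoinRoot g) := Module.finite_of_finite F
  letI : Fintype (AdjoinRoot g) := Fintype.ofFinite _
  -- the root has order r
  have hroot : eval₂ (AdjoinRoot.of g) (AdjoinRoot.root g) Qp = 0 := by
    obtain ⟨c, hc⟩ := hg2
    rw [hc, eval₂_mul, AdjoinRoot.eval₂_root, zero_mul]
  have hsum : ∑ i ∈ Finset.range r, (AdjoinRoot.root g) ^ i = 0 := by
    rw [hQp, eval₂_finsetSum] at hroot
    simpa using hroot
  have hrootr : (AdjoinRoot.root g) ^ r = 1 := by
    have := geom_sum_mul (AdjoinRoot.root g) r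
    rw [hsum, zero_mul] at this
    exact (sub_eq_zero.1 this.symm)
  have hroot1 : AdjoinRoot.root g ≠ 1 := by
    intro h
    rw [h] at hsum
    simp only [one_pow, Finset.sum_const, Finset.card_range, nsmul_eq_mul, mul_one] at hsum
    apply hrF
    have h2 : algebraMap F (AdjoinRoot g) (r : F) = 0 := by rw [map_natCast]; exact hsum
    exact (map_eq_zero _).1 h2
  have hroot0 : AdjoinRoot.root g ≠ 0 := by
    intro h
    rw [h, zero_pow hr.ne_zero] at hrootr
    exact zero_ne_one hrootr
  have hord : orderOf (Units.mk0 _ hroot0) = r := by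
    haveI : Fact r.Prime := ⟨hr⟩
    apply orderOf_eq_prime
    · apply Units.ext
      rw [Units.val_pow_eq_pow_val]
      exact hrootr
    · intro h
      exact hroot1 (congrArg Units.val h)
  have hdeg : n ≤ g.natDegree := by
    by_contra hcon
    apply hr2 g.natDegree hdegpos (by omega)
    have h1 := orderOf_dvd_card (x := Units.mk0 _ hroot0)
    rw [hord, Fintype.card_units, Module.card_eq_pow_finrank (K := F) (V := AdjoinRoot g), hfr] at h1
    exact h1
  -- the minimal polynomial is g up to units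
  have hmdeg : (minpoly F X0).natDegree ≤ n := by
    have h1 := LinearMap.minpoly_dvd_charpoly X0
    have h2 := natDegree_le_of_dvd h1 (LinearMap.charpoly_monic X0).ne_zero
    rwa [LinearMap.charpoly_natDegree, hdim] at h2
  have hgdeg : g.natDegree = n := by
    have := natDegree_le_of_dvd hg1 (minpoly.ne_zero hint)
    omega
  have hmg : minpoly F X0 ∣ g := by
    obtain ⟨c, hc⟩ := hg1
    have hc0 : c ≠ 0 := by
      rintro rfl
      rw [mul_zero] at hc
      exact minpoly.ne_zero hint hc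
    have h2 : (minpoly F X0).natDegree = g.natDegree + c.natDegree := by
      rw [hc, natDegree_mul hg0 hc0]
    have h3 : c.natDegree = 0 := by omega
    have h4 : IsUnit c := by
      rw [Polynomial.isUnit_iff_degree_eq_zero, degree_eq_natDegree hc0, h3]; rfl
    obtain ⟨w, hw⟩ := h4
    refine ⟨(w⁻¹ : F[X]ˣ), ?_⟩
    rw [hc, mul_assoc, ← hw, Units.mul_inv, mul_one]
  -- a root of g in K
  haveI : NeZero n := ⟨by omega⟩
  let e1 := FiniteField.algEquivExtension F p n (AdjoinRoot g) (hfr.trans hgdeg)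
  let e2 := FiniteField.algEquivExtension F p n K hdim
  let e : AdjoinRoot g ≃ₐ[F] K := e1.trans e2.symm
  obtain ⟨ζ, hζ⟩ : ∃ ζ : K, ζ = e (AdjoinRoot.root g) := ⟨_, rfl⟩
  have hζp : ∀ P : F[X], aeval ζ P = e (AdjoinRoot.mk g P) := by
    intro P
    rw [hζ, ← AdjoinRoot.aeval_eq P]
    exact (aeval_algHom_apply (e : AdjoinRoot g →ₐ[F] K) _ P)
  have hker : ∀ P : F[X], aeval ζ P = 0 → aeval X0 P = 0 := by
    intro P hP
    rw [hζp] at hP
    have h1 : AdjoinRoot.mk g P = 0 := e.injective (hP.trans (map_zero e).symm)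
    rw [AdjoinRoot.mk_eq_zero] at h1
    obtain ⟨c, hc⟩ := hmg.trans h1
    rw [hc, map_mul, minpoly.aeval, zero_mul]
  have hsurj : ∀ a : K, ∃ P : F[X], aeval ζ P = a := by
    intro a
    obtain ⟨P, hP⟩ := AdjoinRoot.mk_surjective (e.symm a)
    exact ⟨P, by rw [hζp, hP, e.apply_symm_apply]⟩
  choose P hP using hsurj
  -- the intertwiner
  have hind : ∀ P P' : F[X], aeval ζ P = aeval ζ P' → aeval X0 P = aeval X0 P' := by
    intro P P' h
    rw [← sub_eq_zero, ← map_sub] at h ⊢
    exact hker _ h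
  let T : K →ₗ[F] K :=
    { toFun := fun a => (aeval X0 (P a)) 1
      map_add' := by
        intro a b
        rw [← LinearMap.add_apply, ← map_add]
        rw [hind (P (a + b)) (P a + P b) (by rw [map_add, hP, hP, hP])]
      map_smul' := by
        intro c a
        rw [RingHom.id_apply, ← LinearMap.smul_apply, ← map_smul]
        rw [hind (P (c • a)) (c • P a) (by rw [map_smul, hP, hP])] }
  have hT : ∀ Q : F[X], T (aeval ζ Q) = (aeval X0 Q) 1 := by
    intro Q
    show (aeval X0 (P (aeval ζ Q))) 1 = _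
    rw [hind _ Q (hP _)]
  have hTX : ∀ a, T (ζ * a) = X0 (T a) := by
    intro a
    have h1 : ζ * a = aeval ζ (X * P a) := by rw [map_mul, aeval_X, hP]
    rw [h1, hT, map_mul, aeval_X]
    rfl
  have hTQ : ∀ (Q : F[X]) (a : K), T (aeval ζ Q * a) = (aeval X0 Q) (T a) := by
    intro Q a
    have h1 : aeval ζ Q * a = aeval ζ (Q * P a) := by rw [map_mul, hP]
    rw [h1, hT, map_mul]
    rfl
  have hTinj : Function.Injective T := by
    rw [← LinearMap.ker_eq_bot, LinearMap.ker_eq_bot']
    intro a ha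
    by_contra ha0
    have h1 := hTQ (P a⁻¹) a
    rw [hP, inv_mul_cancel₀ ha0, ha, map_zero] at h1
    have h2 : T 1 = 1 := by
      have := hT 1
      rw [map_one (aeval ζ), map_one (aeval X0)] at this
      exact this
    rw [h2] at h1
    exact one_ne_zero h1
  let Te : K ≃ₗ[F] K := LinearEquiv.ofInjectiveEndo T hTinj
  have hTe : ∀ a, Te a = T a := fun a => rfl
  let t : (Module.End F K)ˣ :=
    { val := Te.toLinearMap, inv := Te.symm.toLinearMap
      val_inv := LinearMap.ext fun x => Te.apply_symm_apply x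
      inv_val := LinearMap.ext fun x => Te.symm_apply_apply x }
  refine ⟨t, fun u hu => ?_⟩
  have hux : (u : Module.End F K) * X0 = X0 * u := by
    rw [hX0, ← Units.val_mul, hu, Units.val_mul]
  have huQ : ∀ Q : F[X], (u : Module.End F K) * aeval X0 Q = aeval X0 Q * u := by
    intro Q
    have : Commute (u : Module.End F K) (aeval X0 Q) := by
      induction Q using Polynomial.induction_on with
      | C a =>
        rw [aeval_C]
        exact (Algebra.commutes a (u : Module.End F K)).symm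
      | add P1 P2 h1 h2 =>
        rw [map_add]
        exact h1.add_right h2
      | monomial m a _ =>
        rw [map_mul, map_pow, aeval_C, aeval_X]
        exact (show Commute (u : Module.End F K) (algebraMap F _ a) from (Algebra.commutes a (u : Module.End F K)).symm).mul_right
          ((show Commute (u : Module.End F K) X0 from hux).pow_right _)
    exact this
  apply of_commute
  intro a
  obtain ⟨Q, rfl⟩ : ∃ Q : F[X], aeval ζ Q = a := ⟨P a, hP a⟩
  have htQ : (t : Module.End F K) * L F K (aeval ζ Q) = aeval X0 Q * (t : Module.End F K) := by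
    apply LinearMap.ext
    intro b
    exact hTQ Q b
  have htQ2 : L F K (aeval ζ Q) * (t⁻¹ : (Module.End F K)ˣ).1 = (t⁻¹ : (Module.End F K)ˣ).1 * aeval X0 Q := by
    have := congrArg (fun z => (t⁻¹ : (Module.End F K)ˣ).1 * z * (t⁻¹ : (Module.End F K)ˣ).1) htQ
    simp only [mul_assoc, Units.inv_mul_cancel_left, Units.mul_inv, mul_one] at this
    exact this
  rw [Units.val_mul, Units.val_mul, mul_assoc, htQ, ← mul_assoc, ← mul_assoc, ← mul_assoc, htQ2, mul_assoc _ (u : Module.End F K), huQ,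
    ← mul_assoc]

/-- Let F ⊆ K be finite fields with |F| = q and [K : F] = n ≥ 2, regard K as an n-dimensional F-vector space, and let M ≤ GL_F(K) be the Singer group of multiplications by non-zero elements of K (cyclic of order q^n − 1). Assume (n, q) ≠ (6, 2), and that it is not the case that n = 2 with q a prime such that q + 1 is a power of 2. Then every abelian subgroup of GL_F(K) of order q^n − 1 is conjugate to M. -/
theorem result {F K : Type*} [Field F] [Fintype F] [Field K] [Fintype K] [Algebra F K] (n : ℕ) (hn : 2 ≤ n) (hdim : Module.finrank F K = n)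
    (hex1 : ¬ (n = 6 ∧ Fintype.card F = 2))
    (hex2 : ¬ (n = 2 ∧ (Fintype.card F).Prime ∧ ∃ a : ℕ, Fintype.card F + 1 = 2 ^ a))
    (U : Subgroup (Module.End F K)ˣ) (hU : IsMulCommutative U) (hcard : Nat.card U = Fintype.card K - 1) :
    ∃ g : (Module.End F K)ˣ, U.map (MulAut.conj g).toMonoidHom = (Units.map ((Algebra.lmul F K : K →ₐ[F] Module.End F K) : K →* Module.End F K)).range := by
  classical
  have hq1 : 1 < Fintype.card F := Fintype.one_lt_card
  haveI : FiniteDimensional F K := FiniteDimensional.of_finrank_pos (by omega)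
  have hK : Fintype.card K = Fintype.card F ^ n := by
    rw [Module.card_eq_pow_finrank (K := F) (V := K), hdim]
  obtain ⟨p, hpc⟩ := CharP.exists F
  haveI : Fact p.Prime := ⟨CharP.char_is_prime F p⟩
  obtain ⟨f0, hq⟩ := FiniteField.card F p
  obtain ⟨r, hr, hr1, hr2⟩ := Cfsg.Agent.S2904.result (Fintype.card F) n hq1 (by omega) (fun h => hex1 ⟨h.2, h.1⟩) (by
    rintro ⟨h, a, ha⟩
    exact hex2 ⟨h, prime_of_mersenne hq.1 f0.pos hq.2 ha, a, ha⟩)
  haveI : Fact r.Prime := ⟨hr⟩
  haveI : Finite (Module.End F K) := Module.finite_of_finite F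
  haveI : Finite (Module.End F K)ˣ := inferInstance
  haveI : Finite U := inferInstance
  obtain ⟨x, hx⟩ := exists_prime_orderOf_dvd_card' (G := U) r (by rw [hcard, hK]; exact hr1)
  obtain ⟨t, ht⟩ := main n hn hdim r hr hr1 hr2 (x : (Module.End F K)ˣ) (by rw [← hx]; exact Subgroup.orderOf_coe x)
  refine ⟨t⁻¹, ?_⟩
  apply Subgroup.eq_of_le_of_card_ge
  · rintro _ ⟨u, hu, rfl⟩
    have h1 : u * x = x * u := by
      have := hU.is_comm.comm ⟨u, hu⟩ x
      exact congrArg Subtype.val this
    have := ht u h1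
    show t⁻¹ * u * t⁻¹⁻¹ ∈ M F K
    rw [inv_inv]
    exact this
  · have h1 : Nat.card (U.map (MulAut.conj t⁻¹).toMonoidHom) = Nat.card U :=
      (Nat.card_congr (U.equivMapOfInjective _ (MulAut.conj t⁻¹).injective).toEquiv).symm
    rw [h1, hcard]
    exact (card_M (F := F) (K := K)).le

end Cfsg.Agent.S5947
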